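import Cfsg.Agent.H35.CgDefs

/-! Project CY, chapter CG, piece NSB. -/

set_option autoImplicit false

namespace Cfsg.Agent.H58.CgNsb

open MulAction Subgroup H56.TT H76.Tri
open H3.TTU (Fx Cb pr pr_surj pr_eq_one)
open Cfsg.Agent.H50.TriR Cfsg.Agent.H50.TriR.Rn

theorem nsb : H35.Cg.NsbStmt := by
  intro G _ _ Ω _ _ _ a b t N h w hw w2
  obtain ⟨s, hs, sa⟩ := h.cy.exists_s
  have os := (ord_of_isConj hs).trans h.cy.ord
  have sN := h.invN (h.cy.swap_comm sa (Cy.swap_of_ord os sa)) (sq_of_ord os)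
  obtain ⟨g, rfl⟩ := isConj_iff.1 hs
  have z : ∀ y, Commute y (g * t * g⁻¹) → Commute y (g * w * g⁻¹) := fun y c => by
    simpa [mul_assoc] using (h.zen hw w2 (y := g⁻¹ * y * g) (by
      simpa [mul_assoc] using (c.map (MulAut.conj g⁻¹)).eq)).map (MulAut.conj g)
  have e2 : g * w * g⁻¹ * (g * w * g⁻¹) = g * t * g⁻¹ := by rw [← w2]; group
  generalize g * t * g⁻¹ = s at *
  generalize g * w * g⁻¹ = x at *
  have cx : x * t = t * x := (z t (mc.1 (h.le sN)).symm).eq.symm
  obtain ⟨f, hf, f2, fa, l⟩ := h.dec cx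
  have xN : x ∉ N := fun k => h.cy.ne (by
    have k := h.toW (mul_mem hf k) fa
    have : x = f * (f * x) := by rw [← mul_assoc, f2, one_mul]
    rw [← sa, ← e2, this, mul_assoc, ← mul_assoc (f * x), ← l _ k, mul_assoc f, ← mul_assoc f f, f2,
      one_mul, mul_smul, fa, fa])
  have yC := mul_mem (h.le hf) (mc.2 cx)
  have k4 : fx Ω t = 4 := by
    have := h.aff.le_four (z := pr Ω t ⟨_, yC⟩) (ord_of (by
      rw [← map_mul]
      refine pr_eq_one.2 (h.toW ?_ (show (f * x * (f * x)) • a = a by rw [mul_smul, fa, fa]))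
      simpa only [coe_mul, ← e2, mul_assoc, inv_mul_cancel_left] using
        mul_mem (mul_mem hf (h.nor x (mc.2 cx) f hf)) sN)
      fun k => xN ((mul_mem_cancel_left hf).1 (h.w _ (pr_eq_one.1 k)))) (Subtype.ext fa) (by
      have k : ∀ n : centralizer {t}, n.1 ∈ N → Commute n.1 s → Commute (pr Ω t n) (pr Ω t ⟨_, yC⟩) :=
        fun n hn c => by
          rw [show (⟨_, yC⟩ : centralizer {t}) = ⟨f, h.le hf⟩ * ⟨x, mc.2 cx⟩ from rfl, map_mul]
          exact Commute.mul_right (h.aff.comm ⟨n, hn, rfl⟩ ⟨_, hf, rfl⟩)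
            (Commute.map (Subtype.ext (z n c).eq) _)
      rintro _ ⟨p, hp, rfl⟩ _ ⟨q, hq, rfl⟩ c c'
      rw [← map_mul]
      refine k _ (mul_mem hp hq) (Commute.symm ?_)
      have r := (h.cm (n := p) sN (sq_of_ord os) hp).resolve_left fun r => c (k p hp r.symm)
      have r' := (h.cm (n := q) sN (sq_of_ord os) hq).resolve_left fun r => c' (k q hq r.symm)
      calc s * (p * q) = t * (p * (s * q)) := by rw [← mul_assoc, r]; group
        _ = t * (p * t) * (q * s) := by rw [r']; group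
        _ = _ := by rw [mc.1 p.2, ← mul_assoc t, h.cy.tt]; simp [mul_assoc])
    have k3 := h.k3
    obtain ⟨r, hr⟩ := h.cy.even_fx h.cy.ord
    change fx Ω t ≤ 4 at this
    omega
  exact k4

end Cfsg.Agent.H58.CgNsb
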