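import Cfsg.Agent.H58.CyY
import Cfsg.Agent.H45.GdDefs

/-! Project CY, chapter IV: piece Y for mixed systems. -/

set_option autoImplicit false
set_option linter.unusedVariables false
set_option linter.unusedSectionVars false

namespace Cfsg.Agent.H58.CyY2

open Subgroup MulAction Cfsg.Agent.H11.Cy Cfsg.Agent.H45.Iv
open Cfsg.Agent.H58.CyY hiding stab_of half lemY' lemY
open scoped commutatorElement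

variable {G : Type} [Group G] {Ω : Type} [MulAction G Ω] {p : ℕ} {A : Ω → Subgroup G}

abbrev Eqv (A : Ω → Subgroup G) : Prop := ∀ (g : G) x, ∀ a ∈ A x, g * a * g⁻¹ ∈ A (g • x)

theorem stab_of (h : Eqv A) {P Ψ : Set Ω} (hP : Sub A P) (m : CyY.Mx A P Ψ) {z g : G}
    (hz : z ∈ Cs A Ψ) (hz' : z ∉ Cs A P) (hg : g ∈ Sb G P) (hc : ⁅g, z⁆ ∈ Cs A P) : g ∈ Sb G Ψ := by
  intro w
  rw [cen_iff hP m hz hz', cen_iff hP m hz hz', hg w]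
  refine and_congr_right fun hw => ⟨fun h1 a ha => ?_, fun h1 a ha => ?_⟩
  · have h2 := h g w a ha
    have h3 := mem_centralizer_singleton_iff.1 (h1 h2)
    have h4 := cs_comm hc (a_le ((hg w).2 hw) h2)
    refine mem_centralizer_singleton_iff.2 ?_
    rw [commutatorElement_def] at h4
    calc a * z = g⁻¹ * (g * a * g⁻¹ * (g * z * g⁻¹ * z⁻¹)) * z * g := by group
      _ = g⁻¹ * (g * z * g⁻¹ * z⁻¹) * (g * a * g⁻¹ * z) * g := by rw [h4]; group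
      _ = z * a := by rw [h3]; group
  · have h2 := h g⁻¹ _ a ha
    rw [inv_smul_smul, inv_inv] at h2
    have h3 := mem_centralizer_singleton_iff.1 (h1 h2)
    have h4 := cs_comm hc (a_le ((hg w).2 hw) ha)
    refine mem_centralizer_singleton_iff.2 ?_
    rw [commutatorElement_def] at h4
    have h5 : a * (g * z * g⁻¹) = g * z * g⁻¹ * a := by
      calc a * (g * z * g⁻¹) = g * (g⁻¹ * a * g * z) * g⁻¹ := by group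
        _ = g * z * g⁻¹ * a := by rw [h3]; group
    calc a * z = (g * z * g⁻¹ * z⁻¹)⁻¹ * (g * z * g⁻¹ * z⁻¹ * a) * z := by group
      _ = (g * z * g⁻¹ * z⁻¹)⁻¹ * (a * (g * z * g⁻¹)) := by rw [← h4]; group
      _ = z * a := by rw [h5]; group

/-- one half of lemma Y -/
theorem half (h : Eqv A) (k : SK A) {P Ψ1 Ψ2 : Set Ω} (hP : Sub A P) (m1 : CyY.Mx A P Ψ1)
    (m2 : CyY.Mx A P Ψ2) (hne : Ψ1 ≠ Ψ2) {d : Ω} (d1 : d ∈ Ψ1) (d2 : d ∈ Ψ2) (a1 : GA A Ψ1 d)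
    (b1 : GB A Ψ1) (a2 : GA A Ψ2 d) (b2 : GB A Ψ2) (a0 : GA A (Ψ1 ∩ Ψ2) d) {e : G}
    (he : e ∈ Ts A Ψ2 ⊓ Cs A Ψ2) (he' : e ∉ Cs A P) (he1 : e ∈ Sb G Ψ1) {Y : Subgroup G}
    (hY : Y = (Ts A Ψ1 ⊓ Sb G Ψ2) ⊔ (Ts A Ψ2 ⊓ Sb G Ψ1)) :
    Ms A Ψ1 ≤ normalizer (Y : Set G) := by
  have TP1 : Ts A Ψ1 ≤ Sb G P := ts_le.trans ((ms_mono m1.2.1).trans (ms_sb k hP))
  have T01 : Ts A (Ψ1 ∩ Ψ2) ≤ Ts A Ψ1 := ts_mono Set.inter_subset_left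
  have T02 : Ts A (Ψ1 ∩ Ψ2) ≤ Ts A Ψ2 := ts_mono Set.inter_subset_right
  have S1 : Ts A Ψ1 ≤ Sb G Ψ1 := ts_le.trans (ms_sb k m1.1)
  have S2 : Ts A Ψ2 ≤ Sb G Ψ2 := ts_le.trans (ms_sb k m2.1)
  have Y1 : ∀ t ∈ Ts A Ψ1, t ∈ Sb G Ψ2 → t ∈ Y := fun t ht hs => hY ▸ mem_sup_left ⟨ht, hs⟩
  have Y2 : ∀ t ∈ Ts A Ψ2, t ∈ Sb G Ψ1 → t ∈ Y := fun t ht hs => hY ▸ mem_sup_right ⟨ht, hs⟩
  -- decomposition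
  have dec1 : ∀ t ∈ Ts A Ψ1, t • d ∈ Ψ2 → ∃ ρ ∈ Ts A (Ψ1 ∩ Ψ2), ρ⁻¹ * t ∈ Cs A Ψ1 := by
    intro t ht h2
    obtain ⟨ρ, hρ, e1⟩ := a0.tr (t • d) ⟨(S1 ht d).2 d1, h2⟩
    exact ⟨ρ, hρ, a1.stab _ (mul_mem (inv_mem (T01 hρ)) ht) (by rw [mul_smul, ← e1, inv_smul_smul])⟩
  have dec2 : ∀ t ∈ Ts A Ψ2, t • d ∈ Ψ1 → ∃ ρ ∈ Ts A (Ψ1 ∩ Ψ2), ρ⁻¹ * t ∈ Cs A Ψ2 := by
    intro t ht h2
    obtain ⟨ρ, hρ, e1⟩ := a0.tr (t • d) ⟨h2, (S2 ht d).2 d2⟩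
    exact ⟨ρ, hρ, a2.stab _ (mul_mem (inv_mem (T02 hρ)) ht) (by rw [mul_smul, ← e1, inv_smul_smul])⟩
  -- commutators with `X2`
  have key : ∀ t ∈ Ts A Ψ1, ∀ f ∈ Ts A Ψ2 ⊓ Cs A Ψ2, f ∈ Sb G Ψ1 → f ∉ Cs A P →
      ∃ ρ ∈ Ts A (Ψ1 ∩ Ψ2), ρ⁻¹ * ⁅t, f⁆ ∈ Cs A Ψ1 ∧ ⁅t, f⁆ ∈ Ts A Ψ1 ∧ ⁅t, f⁆ ∈ Sb G Ψ2 := by
    intro t ht f hf f1 f'
    have ff : f * f = 1 := b2 f hf
    have fi : f⁻¹ = f := inv_eq_of_mul_eq_one_right ff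
    have n1 := k.nrm Ψ1 f f1
    have hδ : ⁅t, f⁆ ∈ Ts A Ψ1 := by
      have : ⁅t, f⁆ = t * (f * t⁻¹ * f⁻¹) := by rw [commutatorElement_def]; group
      rw [this]; exact mul_mem ht (n1.2.1 _ (inv_mem ht))
    have inv : f * ⁅t, f⁆ * f⁻¹ = ⁅t, f⁆⁻¹ := by
      rw [commutatorElement_def, fi]
      calc f * (t * f * t⁻¹ * f) * f = f * t * f * t⁻¹ * (f * f) := by group
        _ = (t * f⁻¹ * t⁻¹ * f⁻¹)⁻¹ := by rw [ff]; group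
        _ = _ := by rw [fi]
    have fd : f • d = d := k.csfix Ψ2 f hf.2 d d2
    have fx : f • (⁅t, f⁆ • d) = ⁅t, f⁆ • d := by
      have h1 : (⁅t, f⁆ * ⁅t, f⁆) • d = d := k.csfix Ψ1 _ (a1.sq _ hδ) d d1
      calc f • (⁅t, f⁆ • d) = (f * ⁅t, f⁆ * f⁻¹) • d := by rw [fi, mul_smul, mul_smul, fd]
        _ = ⁅t, f⁆⁻¹ • ((⁅t, f⁆ * ⁅t, f⁆) • d) := by rw [inv, h1]
        _ = _ := by rw [mul_smul, inv_smul_smul]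
    have in2 : ⁅t, f⁆ • d ∈ Ψ2 := by
      have h1 : f ∈ Cs A {d, ⁅t, f⁆ • d} := k.csof _ d (Or.inl rfl) f ((k.cs Ψ2 f).1 hf.2 d d2) (by
        rintro w (rfl | rfl)
        · exact fd
        · exact fx)
      exact (cen_iff hP m2 hf.2 f').2 ⟨m1.2.1 ((S1 hδ d).2 d1), cs_iff.1 h1 _ (Or.inr rfl)⟩
    obtain ⟨ρ, hρ, hε⟩ := dec1 _ hδ in2
    refine ⟨ρ, hρ, hε, hδ, ?_⟩
    have hεT : ρ⁻¹ * ⁅t, f⁆ ∈ Ts A Ψ1 := mul_mem (inv_mem (T01 hρ)) hδ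
    obtain ⟨ε, hεd⟩ : ∃ ε, ε = ρ⁻¹ * ⁅t, f⁆ := ⟨_, rfl⟩
    rw [← hεd] at hε hεT
    have e0 : ⁅t, f⁆ = ρ * ε := by rw [hεd]; group
    have εε : ε * ε = 1 := b1 ε ⟨hεT, hε⟩
    have c1 : ρ * f = f * ρ := cs_comm hf.2 (ts_le (T02 hρ))
    have c2 : ρ * ε = ε * ρ := cs_comm hε (ts_le (T01 hρ))
    have sq : ρ * ρ ∈ Cs A P := ee hP m1 m2 hne (a1.sq ρ (T01 hρ)) (a2.sq ρ (T02 hρ))
    have e1 : ⁅ε, f⁆ = ρ * ρ := by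
      have h1 : f * ε⁻¹ * f⁻¹ = ρ * ε * ρ := by
        rw [e0] at inv
        have h2 : f * (ρ * ε)⁻¹ * f⁻¹ = ρ * ε := by
          calc f * (ρ * ε)⁻¹ * f⁻¹ = (f * (ρ * ε) * f⁻¹)⁻¹ := by group
            _ = ρ * ε := by rw [inv, inv_inv]
        calc f * ε⁻¹ * f⁻¹ = (f * (ρ * ε)⁻¹ * f⁻¹) * (f * ρ) * f⁻¹ := by group
          _ = ρ * ε * (ρ * f) * f⁻¹ := by rw [h2, ← c1]
          _ = ρ * ε * ρ := by group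
      calc ⁅ε, f⁆ = ε * (f * ε⁻¹ * f⁻¹) := by rw [commutatorElement_def]; group
        _ = ε * (ρ * ε) * ρ := by rw [h1]; group
        _ = (ε * ε) * (ρ * ρ) := by rw [c2]; group
        _ = ρ * ρ := by rw [εε, one_mul]
    rw [e0]
    exact mul_mem (S2 (T02 hρ)) (stab_of h hP m2 hf.2 f' (TP1 hεT) (e1 ▸ sq))
  have key2 : ∀ t ∈ Ts A Ψ1, ∀ ρ ∈ Ts A (Ψ1 ∩ Ψ2), ⁅t, ρ⁆ ∈ Y := by
    intro t ht ρ hρ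
    have hκT : ⁅t, ρ⁆ ∈ Ts A Ψ1 :=
      mul_mem (mul_mem (mul_mem ht (T01 hρ)) (inv_mem ht)) (inv_mem (T01 hρ))
    have hκ : ⁅t, ρ⁆ ∈ Cs A Ψ1 := a1.com t ht ρ (T01 hρ)
    obtain ⟨σ, hσ, hε, hδ, -⟩ := key t ht e he he1 he'
    obtain ⟨ε, hεd⟩ : ∃ ε, ε = σ⁻¹ * ⁅t, e⁆ := ⟨_, rfl⟩
    rw [← hεd] at hε
    have e0 : e * t * e⁻¹ = ε⁻¹ * σ⁻¹ * t := by rw [hεd, commutatorElement_def]; group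
    have c1 : ρ * e = e * ρ := cs_comm he.2 (ts_le (T02 hρ))
    have hc1 : ⁅σ⁻¹, ρ⁆ ∈ Cs A Ψ1 := a1.com _ (inv_mem (T01 hσ)) ρ (T01 hρ)
    have hc : ⁅σ⁻¹, ρ⁆ ∈ Cs A P := ee hP m1 m2 hne hc1 (a2.com _ (inv_mem (T02 hσ)) ρ (T02 hρ))
    have c2 : σ⁻¹ * ⁅t, ρ⁆ = ⁅t, ρ⁆ * σ⁻¹ := cs_comm hκ (ts_le (inv_mem (T01 hσ)))
    have c3 : (σ⁻¹ * t * ρ * t⁻¹ * σ) * ε = ε * (σ⁻¹ * t * ρ * t⁻¹ * σ) := cs_comm hε (ts_le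
      (mul_mem (mul_mem (mul_mem (mul_mem (inv_mem (T01 hσ)) ht) (T01 hρ)) (inv_mem ht)) (T01 hσ)))
    have c4 : ⁅t, ρ⁆ * ⁅σ⁻¹, ρ⁆⁻¹ = ⁅σ⁻¹, ρ⁆⁻¹ * ⁅t, ρ⁆ := cs_comm (inv_mem hc1) (ts_le hκT)
    have e2 : e * ⁅t, ρ⁆ * e⁻¹ = ⁅t, ρ⁆ * ⁅σ⁻¹, ρ⁆ := by
      calc e * ⁅t, ρ⁆ * e⁻¹
          = (e * t * e⁻¹) * (e * ρ * e⁻¹) * (e * t * e⁻¹)⁻¹ * (e * ρ * e⁻¹)⁻¹ := by
            rw [commutatorElement_def]; group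
        _ = ε⁻¹ * ((σ⁻¹ * t * ρ * t⁻¹ * σ) * ε) * ρ⁻¹ := by rw [e0, ← c1]; group
        _ = σ⁻¹ * ⁅t, ρ⁆ * ρ * σ * ρ⁻¹ := by rw [c3, commutatorElement_def]; group
        _ = _ := by rw [c2, commutatorElement_def σ⁻¹]; group
    have e3 : ⁅⁅t, ρ⁆, e⁆ = ⁅σ⁻¹, ρ⁆⁻¹ := by
      calc ⁅⁅t, ρ⁆, e⁆ = ⁅t, ρ⁆ * (e * ⁅t, ρ⁆ * e⁻¹)⁻¹ := by rw [commutatorElement_def ⁅t, ρ⁆]; group
        _ = ⁅t, ρ⁆ * ⁅σ⁻¹, ρ⁆⁻¹ * ⁅t, ρ⁆⁻¹ := by rw [e2, mul_inv_rev, mul_assoc]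
        _ = _ := by rw [c4, mul_inv_cancel_right]
    exact Y1 _ hκT (stab_of h hP m2 he.2 he' (TP1 hκT) (e3 ▸ inv_mem hc))
  have nT : ∀ t ∈ Ts A Ψ1, ∀ y ∈ Y, t * y * t⁻¹ ∈ Y := by
    intro t ht
    have : Y ≤ Y.comap (MulAut.conj t).toMonoidHom := by
      conv_lhs => rw [hY]
      refine sup_le ?_ ?_
      · rintro y ⟨hy, hy2⟩
        obtain ⟨ρ, hρ, hx⟩ := dec1 y hy ((hy2 d).2 d2)
        have c1 := cs_comm hx (ts_le ht)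
        have : t * y * t⁻¹ = ⁅t, ρ⁆ * y := by
          calc t * y * t⁻¹ = t * ρ * t⁻¹ * (t * (ρ⁻¹ * y)) * t⁻¹ := by group
            _ = _ := by rw [c1, commutatorElement_def]; group
        change t * y * t⁻¹ ∈ Y
        rw [this]
        exact mul_mem (key2 t ht ρ hρ) (Y1 y hy hy2)
      · rintro y ⟨hy, hy1⟩
        obtain ⟨ρ, hρ, hx⟩ := dec2 y hy ((hy1 d).2 d1)
        have fT : ρ⁻¹ * y ∈ Ts A Ψ2 := mul_mem (inv_mem (T02 hρ)) hy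
        have f1 : ρ⁻¹ * y ∈ Sb G Ψ1 := mul_mem (inv_mem (S1 (T01 hρ))) hy1
        have h3 : ⁅t, ρ⁻¹ * y⁆ ∈ Y := by
          by_cases f' : ρ⁻¹ * y ∈ Cs A P
          · rw [commutatorElement_eq_one_iff_mul_comm.2 (cs_comm f' (ms_mono m1.2.1 (ts_le ht)))]
            exact one_mem _
          · obtain ⟨-, -, -, k1, k2⟩ := key t ht _ ⟨fT, hx⟩ f1 f'
            exact Y1 _ k1 k2
        have : t * y * t⁻¹ = ⁅t, ρ⁆ * ρ * (⁅t, ρ⁻¹ * y⁆ * (ρ⁻¹ * y)) := by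
          simp only [commutatorElement_def]; group
        change t * y * t⁻¹ ∈ Y
        rw [this]
        exact mul_mem (mul_mem (key2 t ht ρ hρ) (Y1 ρ (T01 hρ) (S2 (T02 hρ))))
          (mul_mem h3 (Y2 _ fT f1))
    exact fun y hy => this hy
  have nA : ∀ a ∈ A d, ∀ y ∈ Y, a * y * a⁻¹ ∈ Y := by
    intro a ha
    have s1 : a ∈ Sb G Ψ1 := ms_sb k m1.1 (a_le d1 ha)
    have s2 : a ∈ Sb G Ψ2 := ms_sb k m2.1 (a_le d2 ha)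
    have : Y ≤ Y.comap (MulAut.conj a).toMonoidHom := by
      conv_lhs => rw [hY]
      refine sup_le ?_ ?_
      · rintro y ⟨hy, hy2⟩
        exact Y1 _ ((k.nrm Ψ1 a s1).2.1 y hy) (mul_mem (mul_mem s2 hy2) (inv_mem s2))
      · rintro y ⟨hy, hy1⟩
        exact Y2 _ ((k.nrm Ψ2 a s2).2.1 y hy) (mul_mem (mul_mem s1 hy1) (inv_mem s1))
    exact fun y hy => this hy
  have nM : ∀ m ∈ Ms A Ψ1, ∀ y ∈ Y, m * y * m⁻¹ ∈ Y := by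
    intro m hm y hy
    obtain ⟨t, ht, a, ha, rfl⟩ := a1.dec m hm
    have := nT t ht _ (nA a ha y hy)
    simpa [mul_assoc] using this
  exact fun g hg => mem_normalizer_iff.2 fun x => ⟨nM g hg x, fun hx => by
    simpa [mul_assoc] using nM g⁻¹ (inv_mem hg) _ hx⟩

/-- lemma Y, stabiliser form -/
theorem lemY' (h : Eqv A) (k : SK A) {P Ψ1 Ψ2 : Set Ω} (hP : Sub A P) (m1 : CyY.Mx A P Ψ1)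
    (m2 : CyY.Mx A P Ψ2) (hne : Ψ1 ≠ Ψ2) {d : Ω} (d1 : d ∈ Ψ1) (d2 : d ∈ Ψ2) (a1 : GA A Ψ1 d)
    (b1 : GB A Ψ1) (a2 : GA A Ψ2 d) (b2 : GB A Ψ2) (a0 : GA A (Ψ1 ∩ Ψ2) d) {z e : G}
    (hz : z ∈ Ts A Ψ1 ⊓ Cs A Ψ1) (hz' : z ∉ Cs A P) (he : e ∈ Ts A Ψ2 ⊓ Cs A Ψ2) (he' : e ∉ Cs A P)
    (hz2 : z ∈ Sb G Ψ2) (he1 : e ∈ Sb G Ψ1) :
    ∃ Y : Subgroup G, IsPGroup 2 Y ∧ Y ≤ Ms A P ∧ (∀ m ∈ Ms A P, ∀ y ∈ Y, m * y * m⁻¹ ∈ Y) ∧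
      z ∈ Y ∧ e ∈ Y := by
  have n1 := half h k hP m1 m2 hne d1 d2 a1 b1 a2 b2 a0 he he' he1 rfl
  have n2 := half h k hP m2 m1 hne.symm d2 d1 a2 b2 a1 b1 (Set.inter_comm _ _ ▸ a0) hz hz' hz2
    (sup_comm _ _ : (Ts A Ψ1 ⊓ Sb G Ψ2) ⊔ (Ts A Ψ2 ⊓ Sb G Ψ1) = _)
  refine ⟨_, ?_, ?_, fun m hm y hy => (mem_normalizer_iff.1 (two_le hP m1 m2 hne n1 n2 hm) y).1 hy,
    mem_sup_left ⟨hz.1, hz2⟩, mem_sup_right ⟨he.1, he1⟩⟩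
  · refine IsPGroup.to_sup_of_normal_left' ((ts_two a1 b1).to_inf_left) ((ts_two a2 b2).to_inf_left) ?_
    have nn : ∀ g ∈ Ts A Ψ2 ⊓ Sb G Ψ1, ∀ x ∈ Ts A Ψ1 ⊓ Sb G Ψ2, g * x * g⁻¹ ∈ Ts A Ψ1 ⊓ Sb G Ψ2 := by
      rintro g ⟨g2, g1⟩ x ⟨x1, x2⟩
      have s2 : g ∈ Sb G Ψ2 := ms_sb k m2.1 (ts_le g2)
      exact ⟨(k.nrm Ψ1 g g1).2.1 x x1,
        (Sb G Ψ2).mul_mem ((Sb G Ψ2).mul_mem s2 x2) ((Sb G Ψ2).inv_mem s2)⟩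
    exact fun g hg => mem_normalizer_iff.2 fun x => ⟨nn g hg x, fun hx => by
      simpa [mul_assoc] using nn g⁻¹ (inv_mem hg) _ hx⟩
  · exact sup_le (inf_le_left.trans (ts_le.trans (ms_mono m1.2.1)))
      (inf_le_left.trans (ts_le.trans (ms_mono m2.2.1)))

/-- lemma Y -/
theorem lemY (h : Eqv A) (k : SK A) {P Ψ1 Ψ2 : Set Ω} (hP : Sub A P) (m1 : CyY.Mx A P Ψ1)
    (m2 : CyY.Mx A P Ψ2) (hne : Ψ1 ≠ Ψ2) {d : Ω} (d1 : d ∈ Ψ1) (d2 : d ∈ Ψ2) (a1 : GA A Ψ1 d)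
    (b1 : GB A Ψ1) (a2 : GA A Ψ2 d) (b2 : GB A Ψ2) (a0 : GA A (Ψ1 ∩ Ψ2) d) {z e : G}
    (hz : z ∈ Ts A Ψ1 ⊓ Cs A Ψ1) (hz' : z ∉ Cs A P) (he : e ∈ Ts A Ψ2 ⊓ Cs A Ψ2) (he' : e ∉ Cs A P)
    (hc : ⁅z, e⁆ ∈ Cs A P) :
    ∃ Y : Subgroup G, IsPGroup 2 Y ∧ Y ≤ Ms A P ∧ (∀ m ∈ Ms A P, ∀ y ∈ Y, m * y * m⁻¹ ∈ Y) ∧
      z ∈ Y ∧ e ∈ Y :=
  lemY' h k hP m1 m2 hne d1 d2 a1 b1 a2 b2 a0 hz hz' he he'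
    (stab_of h hP m2 he.2 he' (ms_sb k hP (ms_mono m1.2.1 (ts_le hz.1))) hc)
    (stab_of h hP m1 hz.2 hz' (ms_sb k hP (ms_mono m2.2.1 (ts_le he.1)))
      (by rw [← commutatorElement_inv]; exact inv_mem hc))

theorem mx_of {Ψ : Set Ω} (m : H45.Gd.Mx A Ψ) : CyY.Mx A Set.univ Ψ :=
  ⟨m.1, Set.subset_univ _, m.2.1, fun Φ hs h1 _ => by
    by_cases e : Φ = Set.univ
    · exact Or.inr e
    · exact Or.inl (m.2.2 Φ hs e h1)⟩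

theorem yS : H45.Gd.YStmt := by
  intro G _ _ Ω _ _ p A mx mk Ψ Φ m1 m2 hne z hz z1 e he e1 hc y y1 y2
  have nc : ∀ Ψ, H45.Gd.Mx A Ψ → ∀ z ∈ H45.Gd.Es A Ψ, z ≠ 1 → z ∉ Cs A Set.univ :=
    fun Ψ m z hz z1 h => m.2.1 (Set.eq_univ_of_forall fun w =>
      (mk.fx Ψ m z hz z1 w).1 (mx.sk.csfix _ z h w trivial))
  have s0 : Sub A (Ψ ∩ Φ) := fun a ha b hb hab w hw =>
    ⟨m1.1 a ha.1 b hb.1 hab hw, m2.1 a ha.2 b hb.2 hab hw⟩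
  have g0 := mx.pg (Ψ ∩ Φ) s0 (Set.subset_univ _)
    (fun e => m1.2.1 (Set.eq_univ_of_univ_subset (e ▸ Set.inter_subset_left)))
  obtain ⟨Y, Y2, -, Yn, zY, -⟩ := lemY mx.bs.eqv mx.sk (P := Set.univ) (fun _ _ _ _ _ _ _ => trivial)
    (mx_of m1) (mx_of m2) hne y1 y2 ((mk.gd Ψ m1).2.2 y y1) (mk.gd Ψ m1).2.1 ((mk.gd Φ m2).2.2 y y2)
    (mk.gd Φ m2).2.1 (g0.2.2 y ⟨y1, y2⟩) hz (nc Ψ m1 z hz z1) he (nc Φ m2 e he e1)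
    (by rw [commutatorElement_eq_one_iff_mul_comm.2 hc]; exact one_mem _)
  have := mx.bs.o2 Y ⟨fun n hn g => Yn g (mx.bs.top ▸ mem_top g) n hn⟩ Y2
  rw [this, mem_bot] at zY
  exact z1 zY

end Cfsg.Agent.H58.CyY2
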