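import Cfsg.Agent.H58.Small2
import Cfsg.Agent.H58.Small
import Cfsg.Agent.S0496
import Cfsg.Agent.S0983
import Cfsg.Agent.H28.Transport

/-! The orders of the non-abelian simple groups of order less than `6000`. -/

namespace Cfsg.Agent.H58.DG

open Cfsg

def certs : List H58.Cert := [
  .bur 1093 1 2 0, .bur 2 1 547 1, .syl 73 1, .bur 2 3 137 1, .bur 1097 1 2 0, .syl 61 1,
  .bur 7 1 157 1, .syl 5 2, .bur 3 1 367 1, .syl 29 1, .bur 1103 1 2 0, .br 23 [], .syl 17 1,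
  .syl 79 1, .bur 3 3 41 1, .bur 2 2 277 1, .bur 1109 1 2 0, .syl 37 1, .bur 11 1 101 1,
  .bur 2 3 139 1, .syl 53 1, .bur 2 1 557 1, .bur 5 1 223 1, .syl 31 1, .bur 1117 1 2 0,
  .syl 43 1, .bur 3 1 373 1, .syl 2 5, .bur 19 1 59 1, .syl 17 1, .bur 1123 1 2 0,
  .bur 2 2 281 1, .bur 3 2 5 3, .bur 2 1 563 1, .bur 7 2 23 1, .syl 47 1, .bur 1129 1 2 0,
  .syl 113 1, .syl 29 1, .bur 2 2 283 1, .bur 11 1 103 1, .syl 3 4, .bur 5 1 227 1,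
  .bur 2 4 71 1, .bur 3 1 379 1, .bur 2 1 569 1, .bur 17 1 67 1, .br 19 [], .bur 7 1 163 1,
  .bur 2 1 571 1, .bur 3 2 127 1, .syl 13 1, .bur 5 1 229 1, .syl 191 1, .bur 31 1 37 1,
  .syl 41 1, .bur 3 1 383 1, .syl 23 1, .bur 1151 1 2 0, .bur 2 7 3 2, .bur 1153 1 2 0,
  .bur 2 1 577 1, .syl 11 1, .bur 2 2 17 2, .bur 13 1 89 1, .syl 193 1, .bur 19 1 61 1,
  .syl 29 1, .bur 3 3 43 1, .syl 83 1, .bur 1163 1 2 0, .syl 97 1, .bur 5 1 233 1, .syl 53 1,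
  .bur 3 1 389 1, .bur 2 4 73 1, .bur 7 1 167 1, .syl 13 1, .bur 1171 1 2 0, .bur 2 2 293 1,
  .syl 23 1, .bur 2 1 587 1, .bur 5 2 47 1, .syl 7 2, .bur 11 1 107 1, .syl 31 1, .bur 3 2 131 1,
  .syl 59 1, .bur 1181 1 2 0, .syl 197 1, .bur 7 1 13 2, .bur 2 5 37 1, .syl 79 1,
  .bur 2 1 593 1, .bur 1187 1 2 0, .br 11 [], .bur 29 1 41 1, .syl 5 1, .bur 3 1 397 1,
  .bur 2 3 149 1, .bur 1193 1 2 0, .syl 199 1, .bur 5 1 239 1, .syl 23 1, .syl 19 1,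
  .bur 2 1 599 1, .bur 11 1 109 1, .syl 5 2, .bur 1201 1 2 0, .bur 2 1 601 1, .bur 3 1 401 1,
  .syl 43 1, .bur 5 1 241 1, .syl 67 1, .bur 17 1 71 1, .bur 2 3 151 1, .syl 31 1, .syl 11 2,
  .bur 7 1 173 1, .syl 101 1, .bur 1213 1 2 0, .bur 2 1 607 1, .bur 3 5 5 1, .bur 2 6 19 1,
  .bur 1217 1 2 0, .syl 29 1, .bur 23 1 53 1, .syl 61 1, .syl 37 1, .syl 47 1, .bur 1223 1 2 0,
  .br 17 [], .bur 5 2 7 2, .bur 2 1 613 1, .bur 3 1 409 1, .bur 2 2 307 1, .bur 1229 1 2 0,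
  .syl 41 1, .bur 1231 1 2 0, .br 11 [], .bur 3 2 137 1, .bur 2 1 617 1, .syl 19 1, .syl 103 1,
  .bur 1237 1 2 0, .bur 2 1 619 1, .syl 59 1, .syl 31 1, .bur 17 1 73 1, .syl 23 1,
  .bur 11 1 113 1, .bur 2 2 311 1, .syl 83 1, .syl 89 1, .bur 29 1 43 1, .syl 13 1,
  .bur 1249 1 2 0, .bur 2 1 5 4, .bur 3 2 139 1, .bur 2 2 313 1, .bur 7 1 179 1, .syl 19 1,
  .bur 5 1 251 1, .bur 2 3 157 1, .bur 3 1 419 1, .syl 37 1, .bur 1259 1 2 0, .br 7 [],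
  .bur 13 1 97 1, .bur 2 1 631 1, .bur 3 1 421 1, .bur 2 4 79 1, .syl 23 1, .syl 211 1,
  .bur 7 1 181 1, .bur 2 2 317 1, .bur 3 3 47 1, .syl 127 1, .bur 31 1 41 1, .syl 53 1,
  .bur 19 1 67 1, .syl 7 2, .syl 17 1, .syl 29 1, .bur 1277 1 2 0, .syl 71 1, .bur 1279 1 2 0,
  .bur 2 8 5 1, .syl 61 1, .bur 2 1 641 1, .bur 1283 1 2 0, .syl 107 1, .bur 5 1 257 1,
  .bur 2 1 643 1, .syl 13 1, .syl 23 1, .bur 1289 1 2 0, .syl 43 1, .bur 1291 1 2 0, .syl 19 1,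
  .bur 3 1 431 1, .bur 2 1 647 1, .syl 37 1, .bur 2 4 3 4, .bur 1297 1 2 0, .syl 59 1,
  .bur 3 1 433 1, .syl 13 1, .bur 1301 1 2 0, .syl 31 1, .bur 1303 1 2 0, .bur 2 3 163 1,
  .syl 29 1, .bur 2 1 653 1, .bur 1307 1 2 0, .syl 109 1, .syl 17 1, .syl 131 1, .syl 23 1,
  .bur 2 5 41 1, .bur 13 1 101 1, .syl 73 1, .bur 5 1 263 1, .syl 47 1, .bur 3 1 439 1,
  .bur 2 1 659 1, .bur 1319 1 2 0, .br 11 [], .bur 1321 1 2 0, .bur 2 1 661 1, .bur 3 3 7 2,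
  .bur 2 2 331 1, .bur 5 2 53 1, .syl 17 1, .bur 1327 1 2 0, .bur 2 4 83 1, .bur 3 1 443 1,
  .syl 19 1, .bur 11 3 2 0, .syl 37 1, .bur 31 1 43 1, .syl 29 1, .syl 89 1, .bur 2 3 167 1,
  .bur 7 1 191 1, .syl 223 1, .bur 13 1 103 1, .syl 67 1, .bur 3 2 149 1, .syl 61 1,
  .bur 17 1 79 1, .br 7 [(2, 6), (3, 1)], .bur 5 1 269 1, .bur 2 1 673 1, .bur 3 1 449 1,
  .bur 2 2 337 1, .bur 19 1 71 1, .syl 5 2, .bur 7 1 193 1, .bur 2 3 13 2, .syl 41 1,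
  .bur 2 1 677 1, .bur 5 1 271 1, .syl 113 1, .bur 23 1 59 1, .syl 97 1, .bur 3 2 151 1,
  .syl 17 1, .bur 1361 1 2 0, .syl 227 1, .bur 29 1 47 1, .syl 31 1, .br 13 [], .bur 2 1 683 1,
  .bur 1367 1 2 0, .syl 19 1, .bur 37 2 2 0, .syl 137 1, .bur 3 1 457 1, .bur 2 2 7 3,
  .bur 1373 1 2 0, .syl 229 1, .bur 5 3 11 1, .bur 2 5 43 1, .bur 3 4 17 1, .syl 53 1,
  .bur 7 1 197 1, .syl 23 1, .bur 1381 1 2 0, .bur 2 1 691 1, .bur 3 1 461 1, .bur 2 3 173 1,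
  .bur 5 1 277 1, .syl 11 1, .bur 19 1 73 1, .bur 2 2 347 1, .bur 3 1 463 1, .syl 139 1,
  .bur 13 1 107 1, .syl 29 1, .bur 7 1 199 1, .syl 41 1, .syl 31 1, .bur 2 2 349 1,
  .bur 11 1 127 1, .syl 233 1, .bur 1399 1 2 0, .syl 5 2, .bur 3 1 467 1, .bur 2 1 701 1,
  .bur 23 1 61 1, .exc, .bur 5 1 281 1, .syl 19 1, .syl 67 1, .bur 2 7 11 1, .bur 1409 1 2 0,
  .syl 47 1, .bur 17 1 83 1, .bur 2 2 353 1, .bur 3 2 157 1, .syl 101 1, .bur 5 1 283 1,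
  .syl 59 1, .bur 13 1 109 1, .bur 2 1 709 1, .syl 43 1, .syl 71 1, .bur 7 2 29 1, .syl 79 1,
  .bur 1423 1 2 0, .bur 2 4 89 1, .syl 19 1, .syl 31 1, .bur 1427 1 2 0, .syl 17 1,
  .bur 1429 1 2 0, .syl 13 1, .bur 3 3 53 1, .bur 2 3 179 1, .bur 1433 1 2 0, .syl 239 1,
  .syl 41 1, .bur 2 2 359 1, .bur 3 1 479 1, .bur 2 1 719 1, .bur 1439 1 2 0, .br 5 [],
  .bur 11 1 131 1, .syl 103 1, .syl 37 1, .bur 2 2 19 2, .bur 5 1 17 2, .syl 241 1,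
  .bur 1447 1 2 0, .bur 2 3 181 1, .syl 23 1, .syl 29 1, .bur 1451 1 2 0, .syl 11 2,
  .bur 1453 1 2 0, .bur 2 1 727 1, .syl 97 1, .syl 7 1, .bur 31 1 47 1, .bur 2 1 3 6,
  .bur 1459 1 2 0, .syl 73 1, .bur 3 1 487 1, .syl 43 1, .syl 7 1, .syl 61 1, .bur 5 1 293 1,
  .bur 2 1 733 1, .bur 3 2 163 1, .bur 2 2 367 1, .bur 13 1 113 1, .syl 7 2, .bur 1471 1 2 0,
  .bur 2 6 23 1, .bur 3 1 491 1, .syl 67 1, .bur 5 2 59 1, .syl 41 1, .bur 7 1 211 1,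
  .bur 2 1 739 1, .syl 29 1, .syl 37 1, .bur 1481 1 2 0, .syl 13 1, .bur 1483 1 2 0, .syl 53 1,
  .br 11 [], .bur 2 1 743 1, .bur 1487 1 2 0, .syl 31 1, .bur 1489 1 2 0, .syl 149 1, .syl 71 1,
  .bur 2 2 373 1, .bur 1493 1 2 0, .syl 83 1, .syl 23 1, .syl 17 1, .bur 3 1 499 1, .syl 107 1,
  .bur 1499 1 2 0, .syl 5 3, .bur 19 1 79 1, .bur 2 1 751 1, .bur 3 2 167 1, .bur 2 5 47 1,
  .syl 43 1, .syl 251 1, .bur 11 1 137 1, .syl 29 1, .bur 3 1 503 1, .syl 151 1, .bur 1511 1 2 0,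
  .exc, .bur 17 1 89 1, .bur 2 1 757 1, .syl 101 1, .bur 2 2 379 1, .bur 37 1 41 1, .syl 23 1,
  .bur 7 2 31 1, .br 19 [], .bur 3 2 13 2, .bur 2 1 761 1, .bur 1523 1 2 0, .syl 127 1,
  .bur 5 2 61 1, .syl 109 1, .bur 3 1 509 1, .bur 2 3 191 1, .bur 11 1 139 1, .br 17 [],
  .bur 1531 1 2 0, .bur 2 2 383 1, .syl 73 1, .syl 59 1, .bur 5 1 307 1, .bur 2 9 3 1,
  .bur 29 1 53 1, .bur 2 1 769 1, .bur 3 4 19 1, .syl 11 1, .bur 23 1 67 1, .syl 257 1,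
  .bur 1543 1 2 0, .bur 2 3 193 1, .syl 103 1, .bur 2 1 773 1, .syl 17 1, .syl 43 1,
  .bur 1549 1 2 0, .syl 31 1, .syl 47 1, .bur 2 4 97 1, .bur 1553 1 2 0, .syl 37 1,
  .bur 5 1 311 1, .bur 2 2 389 1, .bur 3 2 173 1, .syl 41 1, .bur 1559 1 2 0, .br 13 [],
  .bur 7 1 223 1, .syl 71 1, .bur 3 1 521 1, .syl 23 1, .bur 5 1 313 1, .syl 29 1,
  .bur 1567 1 2 0, .bur 2 5 7 2, .bur 3 1 523 1, .syl 157 1, .bur 1571 1 2 0, .syl 131 1,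
  .bur 11 2 13 1, .bur 2 1 787 1, .syl 5 2, .bur 2 3 197 1, .bur 19 1 83 1, .syl 263 1,
  .bur 1579 1 2 0, .syl 79 1, .syl 31 1, .syl 113 1, .bur 1583 1 2 0, .br 11 [], .bur 5 1 317 1,
  .syl 61 1, .bur 3 1 23 2, .bur 2 2 397 1, .bur 7 1 227 1, .syl 53 1, .bur 37 1 43 1,
  .bur 2 3 199 1, .bur 3 3 59 1, .bur 2 1 797 1, .syl 29 1, .syl 19 1, .bur 1597 1 2 0,
  .syl 47 1, .syl 41 1, .bur 2 6 5 2, .bur 1601 1 2 0, .syl 89 1, .bur 7 1 229 1, .bur 2 2 401 1,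
  .syl 107 1, .syl 73 1, .bur 1607 1 2 0, .syl 67 1, .bur 1609 1 2 0, .syl 7 1, .bur 3 2 179 1,
  .syl 31 1, .bur 1613 1 2 0, .syl 269 1, .syl 19 1, .bur 2 4 101 1, .syl 11 1, .bur 2 1 809 1,
  .bur 1619 1 2 0, .br 5 [(2, 2), (3, 4)], .bur 1621 1 2 0, .bur 2 1 811 1, .bur 3 1 541 1,
  .syl 29 1, .bur 5 3 13 1, .syl 271 1, .bur 1627 1 2 0, .syl 37 1, .bur 3 2 181 1, .syl 163 1,
  .bur 7 1 233 1, .syl 17 1, .bur 23 1 71 1, .syl 43 1, .syl 109 1, .bur 2 2 409 1,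
  .bur 1637 1 2 0, .br 13 [], .bur 11 1 149 1, .syl 41 1, .bur 3 1 547 1, .bur 2 1 821 1,
  .bur 31 1 53 1, .syl 137 1, .syl 47 1, .bur 2 1 823 1, .bur 3 3 61 1, .bur 2 4 103 1,
  .bur 17 1 97 1, .syl 11 1, .bur 13 1 127 1, .syl 59 1, .syl 29 1, .bur 2 1 827 1,
  .bur 5 1 331 1, .br 23 [], .bur 1657 1 2 0, .bur 2 1 829 1, .syl 79 1, .syl 83 1,
  .bur 11 1 151 1, .syl 277 1, .bur 1663 1 2 0, .bur 2 7 13 1, .syl 37 1, .syl 17 1,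
  .bur 1667 1 2 0, .syl 139 1, .bur 1669 1 2 0, .syl 167 1, .bur 3 1 557 1, .syl 19 1,
  .bur 7 1 239 1, .syl 31 1, .bur 5 2 67 1, .bur 2 2 419 1, .syl 43 1, .bur 2 1 839 1,
  .bur 23 1 73 1, .br 5 [], .bur 41 2 2 0, .bur 2 1 29 2, .syl 17 1, .bur 2 2 421 1,
  .bur 5 1 337 1, .syl 281 1, .bur 7 1 241 1, .bur 2 3 211 1, .bur 3 1 563 1, .syl 13 2,
  .bur 19 1 89 1, .syl 47 1, .bur 1693 1 2 0, .syl 11 2, .syl 113 1, .bur 2 5 53 1,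
  .bur 1697 1 2 0, .syl 283 1, .bur 1699 1 2 0, .syl 17 1, .bur 3 5 7 1, .syl 37 1,
  .bur 13 1 131 1, .syl 71 1, .syl 31 1, .bur 2 1 853 1, .bur 3 1 569 1, .syl 61 1,
  .bur 1709 1 2 0, .syl 19 1, .bur 29 1 59 1, .bur 2 4 107 1, .bur 3 1 571 1, .bur 2 1 857 1,
  .bur 5 1 7 3, .br 3 [], .bur 17 1 101 1, .bur 2 1 859 1, .bur 3 2 191 1, .syl 43 1,
  .bur 1721 1 2 0, .br 41 [], .bur 1723 1 2 0, .bur 2 2 431 1, .syl 23 1, .bur 2 1 863 1,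
  .bur 11 1 157 1, .bur 2 6 3 3, .syl 19 1, .syl 173 1, .bur 3 1 577 1, .bur 2 2 433 1,
  .bur 1733 1 2 0, .syl 17 2, .bur 5 1 347 1, .syl 31 1, .bur 3 2 193 1, .syl 79 1,
  .bur 37 1 47 1, .br 29 [], .bur 1741 1 2 0, .syl 67 1, .syl 83 1, .bur 2 4 109 1,
  .bur 5 1 349 1, .syl 97 1, .bur 1747 1 2 0, .syl 23 1, .syl 53 1, .syl 5 3, .bur 17 1 103 1,
  .syl 73 1, .bur 1753 1 2 0, .bur 2 1 877 1, .syl 3 3, .bur 2 2 439 1, .bur 7 1 251 1,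
  .syl 293 1, .bur 1759 1 2 0, .syl 11 1, .bur 3 1 587 1, .bur 2 1 881 1, .bur 41 1 43 1,
  .syl 7 2, .bur 5 1 353 1, .bur 2 1 883 1, .syl 31 1, .syl 13 1, .bur 29 1 61 1, .syl 59 1,
  .syl 23 1, .bur 2 2 443 1, .bur 3 2 197 1, .bur 2 1 887 1, .bur 5 2 71 1, .syl 37 1,
  .bur 1777 1 2 0, .syl 127 1, .bur 3 1 593 1, .syl 89 1, .bur 13 1 137 1, .syl 11 1,
  .bur 1783 1 2 0, .bur 2 3 223 1, .br 17 [], .syl 47 1, .bur 1787 1 2 0, .syl 149 1,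
  .bur 1789 1 2 0, .syl 179 1, .bur 3 2 199 1, .bur 2 8 7 1, .bur 11 1 163 1, .syl 23 1,
  .bur 5 1 359 1, .bur 2 2 449 1, .bur 3 1 599 1, .syl 31 1, .bur 7 1 257 1, .exc,
  .bur 1801 1 2 0, .syl 53 1, .bur 3 1 601 1, .syl 41 1, .bur 5 1 19 2, .syl 43 1,
  .bur 13 1 139 1, .bur 2 4 113 1, .bur 3 3 67 1, .syl 181 1, .bur 1811 1 2 0, .syl 151 1,
  .bur 7 2 37 1, .bur 2 1 907 1, .syl 11 2, .bur 2 3 227 1, .bur 23 1 79 1, .syl 101 1,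
  .bur 17 1 107 1, .br 13 [], .bur 3 1 607 1, .bur 2 1 911 1, .bur 1823 1 2 0, .br 19 [],
  .bur 5 2 73 1, .syl 83 1, .syl 29 1, .bur 2 2 457 1, .bur 31 1 59 1, .syl 61 1,
  .bur 1831 1 2 0, .bur 2 3 229 1, .syl 47 1, .syl 131 1, .bur 5 1 367 1, .br 17 [],
  .bur 11 1 167 1, .bur 2 1 919 1, .bur 3 1 613 1, .syl 23 1, .bur 7 1 263 1, .syl 307 1,
  .bur 19 1 97 1, .bur 2 2 461 1, .syl 41 1, .syl 71 1, .bur 1847 1 2 0, .br 11 [],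
  .bur 43 2 2 0, .syl 37 1, .bur 3 1 617 1, .bur 2 2 463 1, .bur 17 1 109 1, .syl 103 1,
  .syl 53 1, .bur 2 6 29 1, .bur 3 1 619 1, .bur 2 1 929 1, .bur 11 1 13 2, .syl 31 1,
  .bur 1861 1 2 0, .syl 19 1, .bur 3 4 23 1, .bur 2 3 233 1, .bur 5 1 373 1, .syl 311 1,
  .bur 1867 1 2 0, .bur 2 2 467 1, .syl 89 1, .syl 17 1, .bur 1871 1 2 0, .br 13 [],
  .bur 1873 1 2 0, .bur 2 1 937 1, .bur 3 1 5 4, .syl 67 1, .bur 1877 1 2 0, .syl 313 1,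
  .bur 1879 1 2 0, .syl 47 1, .syl 19 1, .bur 2 1 941 1, .bur 7 1 269 1, .syl 157 1, .syl 29 1,
  .syl 41 1, .syl 37 1, .bur 2 5 59 1, .bur 1889 1 2 0, .br 7 [], .bur 31 1 61 1, .syl 11 1,
  .bur 3 1 631 1, .bur 2 1 947 1, .bur 5 1 379 1, .syl 79 1, .bur 7 1 271 1, .syl 73 1,
  .bur 3 2 211 1, .br 19 [], .bur 1901 1 2 0, .syl 317 1, .bur 11 1 173 1, .syl 17 1, .syl 127 1,
  .bur 2 1 953 1, .bur 1907 1 2 0, .syl 53 1, .bur 23 1 83 1, .syl 191 1, .syl 13 1,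
  .bur 2 3 239 1, .bur 1913 1 2 0, .syl 29 1, .bur 5 1 383 1, .bur 2 2 479 1, .bur 3 3 71 1,
  .syl 137 1, .bur 19 1 101 1, .syl 2 7, .bur 17 1 113 1, .bur 2 1 31 2, .bur 3 1 641 1,
  .syl 37 1, .syl 11 1, .syl 107 1, .bur 41 1 47 1, .bur 2 3 241 1, .bur 3 1 643 1, .syl 193 1,
  .bur 1931 1 2 0, .syl 23 1, .bur 1933 1 2 0, .bur 2 1 967 1, .syl 43 1, .bur 2 4 11 2,
  .bur 13 1 149 1, .syl 19 1, .bur 7 1 277 1, .syl 97 1, .bur 3 1 647 1, .bur 2 1 971 1,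
  .bur 29 1 67 1, .bur 2 3 3 5, .bur 5 1 389 1, .syl 139 1, .syl 59 1, .bur 2 2 487 1,
  .bur 1949 1 2 0, .syl 13 1, .bur 1951 1 2 0, .bur 2 5 61 1, .syl 7 1, .bur 2 1 977 1,
  .syl 23 1, .syl 163 1, .bur 19 1 103 1, .syl 89 1, .bur 3 1 653 1, .syl 7 2, .bur 37 1 53 1,
  .syl 109 1, .bur 13 1 151 1, .bur 2 2 491 1, .syl 131 1, .bur 2 1 983 1, .bur 7 1 281 1,
  .syl 41 1, .bur 11 1 179 1, .syl 197 1, .bur 3 3 73 1, .syl 29 1, .bur 1973 1 2 0, .syl 47 1,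
  .bur 5 2 79 1, .syl 19 1, .bur 3 1 659 1, .syl 43 1, .bur 1979 1 2 0, .br 11 [],
  .bur 7 1 283 1, .bur 2 1 991 1, .bur 3 1 661 1, .bur 2 6 31 1, .bur 5 1 397 1, .syl 331 1,
  .bur 1987 1 2 0, .syl 71 1, .syl 17 1, .syl 199 1, .bur 11 1 181 1, .syl 83 1, .bur 1993 1 2 0,
  .bur 2 1 997 1, .syl 19 1, .bur 2 2 499 1, .bur 1997 1 2 0, .syl 37 1, .bur 1999 1 2 0,
  .bur 2 4 5 3, .syl 29 1, .syl 11 1, .bur 2003 1 2 0, .syl 167 1, .bur 5 1 401 1, .syl 59 1,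
  .bur 3 2 223 1, .bur 2 3 251 1, .bur 7 2 41 1, .syl 67 1, .bur 2011 1 2 0, .bur 2 2 503 1,
  .syl 61 1, .syl 53 1, .syl 31 1, .br 7 [], .bur 2017 1 2 0, .bur 2 1 1009 1, .bur 3 1 673 1,
  .syl 101 1, .bur 43 1 47 1, .syl 337 1, .bur 7 1 17 2, .syl 23 1, .bur 3 4 5 2,
  .bur 2 1 1013 1, .bur 2027 1 2 0, .syl 13 2, .bur 2029 1 2 0, .syl 29 1, .bur 3 1 677 1,
  .bur 2 4 127 1, .bur 19 1 107 1, .syl 113 1, .syl 37 1, .bur 2 2 509 1, .syl 97 1,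
  .bur 2 1 1019 1, .bur 2039 1 2 0, .br 17 [], .bur 13 1 157 1, .bur 2 1 1021 1, .bur 3 2 227 1,
  .syl 73 1, .bur 5 1 409 1, .syl 31 1, .bur 23 1 89 1, .bur 2 11 2 0, .bur 3 1 683 1, .syl 41 1,
  .bur 7 1 293 1, .syl 19 1, .bur 2053 1 2 0, .syl 79 1, .syl 137 1, .bur 2 3 257 1,
  .bur 11 2 17 1, .syl 7 3, .bur 29 1 71 1, .syl 103 1, .bur 3 2 229 1, .bur 2 1 1031 1,
  .bur 2063 1 2 0, .syl 43 1, .syl 59 1, .bur 2 1 1033 1, .syl 53 1, .syl 47 1, .bur 2069 1 2 0,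
  .syl 23 1, .bur 19 1 109 1, .syl 37 1, .bur 3 1 691 1, .syl 61 1, .bur 5 2 83 1, .syl 173 1,
  .bur 31 1 67 1, .bur 2 1 1039 1, .syl 11 1, .br 13 [], .bur 2081 1 2 0, .syl 347 1,
  .bur 2083 1 2 0, .bur 2 2 521 1, .syl 139 1, .syl 149 1, .bur 2087 1 2 0, .syl 29 1,
  .bur 2089 1 2 0, .syl 19 1, .syl 41 1, .bur 2 2 523 1, .syl 23 1, .syl 349 1, .bur 5 1 419 1,
  .bur 2 4 131 1, .bur 3 2 233 1, .bur 2 1 1049 1, .bur 2099 1 2 0, .br 3 [], .bur 11 1 191 1,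
  .bur 2 1 1051 1, .bur 3 1 701 1, .bur 2 3 263 1, .bur 5 1 421 1, .syl 3 4, .bur 7 2 43 1,
  .syl 31 1, .syl 37 1, .syl 211 1, .bur 2111 1 2 0, .br 11 [], .bur 2113 1 2 0, .syl 151 1,
  .syl 47 1, .bur 2 2 23 2, .bur 29 1 73 1, .syl 353 1, .bur 13 1 163 1, .syl 53 1, .syl 101 1,
  .bur 2 1 1061 1, .bur 11 1 193 1, .syl 59 1, .bur 5 3 17 1, .bur 2 1 1063 1, .bur 3 1 709 1,
  .syl 19 1, .bur 2129 1 2 0, .syl 71 1, .bur 2131 1 2 0, .syl 41 1, .bur 3 3 79 1, .syl 97 1,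
  .syl 61 1, .syl 89 1, .bur 2137 1 2 0, .bur 2 1 1069 1, .syl 31 1, .syl 107 1, .bur 2141 1 2 0,
  .syl 7 1, .bur 2143 1 2 0, .bur 2 5 67 1, .syl 13 1, .syl 37 1, .bur 19 1 113 1, .syl 179 1,
  .bur 7 1 307 1, .syl 43 1, .bur 3 2 239 1, .bur 2 3 269 1, .bur 2153 1 2 0, .syl 359 1,
  .bur 5 1 431 1, .syl 11 1, .bur 3 1 719 1, .syl 83 1, .bur 17 1 127 1, .br 5 [(2, 4), (3, 3)],
  .bur 2161 1 2 0, .syl 47 1, .syl 103 1, .bur 2 2 541 1, .bur 5 1 433 1, .syl 19 2,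
  .bur 11 1 197 1, .bur 2 3 271 1, .bur 3 2 241 1, .syl 31 1, .bur 13 1 167 1, .syl 181 1,
  .bur 41 1 53 1, .bur 2 1 1087 1, .syl 29 1, .bur 2 7 17 1, .bur 7 1 311 1, .syl 11 2,
  .bur 2179 1 2 0, .syl 109 1, .bur 3 1 727 1, .bur 2 1 1091 1, .bur 37 1 59 1, .br 13 [],
  .syl 23 1, .bur 2 1 1093 1, .bur 3 7 2 0, .bur 2 2 547 1, .bur 11 1 199 1, .syl 73 1,
  .bur 7 1 313 1, .bur 2 4 137 1, .syl 43 1, .bur 2 1 1097 1, .bur 5 1 439 1, .syl 61 1,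
  .bur 13 3 2 0, .syl 157 1, .bur 3 1 733 1, .syl 5 2, .bur 31 1 71 1, .syl 367 1,
  .bur 2203 1 2 0, .syl 29 1, .syl 7 2, .bur 2 1 1103 1, .bur 2207 1 2 0, .br 23 [],
  .bur 47 2 2 0, .syl 17 1, .syl 67 1, .syl 79 1, .bur 2213 1 2 0, .syl 41 1, .bur 5 1 443 1,
  .bur 2 3 277 1, .bur 3 1 739 1, .bur 2 1 1109 1, .bur 7 1 317 1, .syl 37 1, .bur 2221 1 2 0,
  .syl 101 1, .syl 13 1, .bur 2 4 139 1, .bur 5 2 89 1, .syl 53 1, .bur 17 1 131 1,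
  .bur 2 2 557 1, .bur 3 1 743 1, .syl 223 1, .bur 23 1 97 1, .syl 31 1, .syl 29 1,
  .bur 2 1 1117 1, .syl 149 1, .syl 43 1, .bur 2237 1 2 0, .syl 373 1, .bur 2239 1 2 0, .syl 2 6,
  .bur 3 3 83 1, .syl 59 1, .bur 2243 1 2 0, .syl 17 1, .bur 5 1 449 1, .bur 2 1 1123 1,
  .syl 107 1, .bur 2 3 281 1, .bur 13 1 173 1, .syl 5 3, .bur 2251 1 2 0, .bur 2 2 563 1,
  .bur 3 1 751 1, .syl 23 1, .syl 41 1, .br 47 [], .bur 37 1 61 1, .bur 2 1 1129 1,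
  .bur 3 2 251 1, .syl 113 1, .syl 19 1, .syl 29 1, .bur 31 1 73 1, .bur 2 3 283 1, .syl 151 1,
  .syl 103 1, .bur 2267 1 2 0, .br 7 [], .bur 2269 1 2 0, .syl 227 1, .bur 3 1 757 1,
  .bur 2 5 71 1, .bur 2273 1 2 0, .syl 379 1, .syl 13 1, .bur 2 2 569 1, .syl 23 1, .syl 67 1,
  .bur 43 1 53 1, .br 19 [], .bur 2281 1 2 0, .syl 163 1, .bur 3 1 761 1, .bur 2 2 571 1,
  .bur 5 1 457 1, .syl 127 1, .bur 2287 1 2 0, .syl 13 1, .syl 109 1, .syl 229 1, .bur 29 1 79 1,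
  .syl 191 1, .bur 2293 1 2 0, .syl 37 1, .syl 17 1, .syl 41 1, .bur 2297 1 2 0, .syl 383 1,
  .bur 11 2 19 1, .syl 23 1, .syl 59 1, .bur 2 1 1151 1, .bur 7 2 47 1, .bur 2 8 3 2,
  .bur 5 1 461 1, .bur 2 1 1153 1, .bur 3 1 769 1, .bur 2 2 577 1, .bur 2309 1 2 0, .br 11 [],
  .bur 2311 1 2 0, .bur 2 3 17 2, .bur 3 2 257 1, .syl 89 1, .bur 5 1 463 1, .syl 193 1,
  .bur 7 1 331 1, .syl 61 1, .bur 3 1 773 1, .syl 29 1, .bur 11 1 211 1, .syl 43 1,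
  .bur 23 1 101 1, .syl 83 1, .syl 31 1, .bur 2 1 1163 1, .bur 13 1 179 1, .syl 97 1,
  .bur 17 1 137 1, .syl 233 1, .syl 37 1, .syl 53 1, .bur 2333 1 2 0, .syl 389 1, .bur 5 1 467 1,
  .bur 2 5 73 1, .syl 41 1, .syl 167 1, .bur 2339 1 2 0, .syl 13 1, .bur 2341 1 2 0,
  .bur 2 1 1171 1, .syl 71 1, .bur 2 3 293 1, .syl 67 1, .syl 23 1, .bur 2347 1 2 0,
  .bur 2 2 587 1, .bur 3 4 29 1, .syl 47 1, .bur 2351 1 2 0, .syl 7 2, .bur 13 1 181 1,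
  .syl 107 1, .syl 157 1, .syl 31 1, .bur 2357 1 2 0, .syl 131 1, .bur 7 1 337 1, .syl 59 1,
  .bur 3 1 787 1, .bur 2 1 1181 1, .bur 17 1 139 1, .syl 197 1, .syl 43 1, .syl 13 2,
  .bur 3 2 263 1, .bur 2 6 37 1, .bur 23 1 103 1, .syl 79 1, .bur 2371 1 2 0, .bur 2 2 593 1,
  .syl 113 1, .bur 2 1 1187 1, .bur 5 3 19 1, .br 11 [], .bur 2377 1 2 0, .syl 41 1, .syl 61 1,
  .br 17 [], .bur 2381 1 2 0, .syl 397 1, .bur 2383 1 2 0, .bur 2 4 149 1, .syl 53 1,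
  .bur 2 1 1193 1, .syl 31 1, .syl 199 1, .bur 2389 1 2 0, .syl 239 1, .bur 3 1 797 1, .syl 23 1,
  .bur 2393 1 2 0, .syl 19 1, .bur 5 1 479 1, .bur 2 2 599 1, .syl 47 1, .syl 109 1,
  .bur 2399 1 2 0, .br 3 [(2, 5), (5, 2)], .bur 7 4 2 0, .bur 2 1 1201 1, .bur 3 3 89 1,
  .bur 2 2 601 1, .syl 37 1, .syl 401 1, .bur 29 1 83 1, .syl 43 1, .syl 73 1, .syl 241 1,
  .bur 2411 1 2 0, .syl 67 1, .bur 19 1 127 1, .syl 71 1, .syl 23 1, .bur 2 4 151 1,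
  .bur 2417 1 2 0, .syl 31 1, .bur 41 1 59 1, .syl 11 2, .bur 3 2 269 1, .syl 173 1,
  .bur 2423 1 2 0, .syl 101 1, .bur 5 2 97 1, .bur 2 1 1213 1, .bur 3 1 809 1, .bur 2 2 607 1,
  .bur 7 1 347 1, .syl 3 5, .syl 17 1, .bur 2 7 19 1, .bur 3 1 811 1, .bur 2 1 1217 1,
  .bur 5 1 487 1, .syl 29 1, .bur 2437 1 2 0, .syl 53 1, .bur 3 2 271 1, .syl 61 1,
  .bur 2441 1 2 0, .syl 37 1, .bur 7 1 349 1, .syl 47 1, .syl 163 1, .bur 2 1 1223 1,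
  .bur 2447 1 2 0, .exc, .bur 31 1 79 1, .syl 5 2, .syl 43 1, .bur 2 2 613 1, .bur 11 1 223 1,
  .syl 409 1, .bur 5 1 491 1, .bur 2 3 307 1, .br 13 [], .bur 2 1 1229 1, .bur 2459 1 2 0,
  .syl 41 1, .bur 23 1 107 1, .bur 2 1 1231 1, .bur 3 1 821 1, .br 11 [], .syl 29 1, .syl 137 1,
  .bur 2467 1 2 0, .bur 2 2 617 1, .bur 3 1 823 1, .syl 19 1, .bur 7 1 353 1, .syl 103 1,
  .bur 2473 1 2 0, .bur 2 1 1237 1, .syl 5 2, .bur 2 2 619 1, .bur 2477 1 2 0, .syl 59 1,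
  .bur 37 1 67 1, .syl 31 1, .bur 3 1 827 1, .syl 73 1, .bur 13 1 191 1, .syl 23 1, .syl 71 1,
  .syl 113 1, .bur 3 1 829 1, .bur 2 3 311 1, .bur 19 1 131 1, .syl 83 1, .bur 47 1 53 1,
  .syl 89 1, .bur 3 2 277 1, .syl 43 1, .bur 5 1 499 1, .syl 13 1, .bur 11 1 227 1,
  .bur 2 1 1249 1, .syl 17 1, .bur 2 2 5 4, .bur 41 1 61 1, .syl 139 1, .bur 2503 1 2 0,
  .bur 2 3 313 1, .syl 167 1, .syl 179 1, .bur 23 1 109 1, .syl 19 1, .bur 13 1 193 1,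
  .syl 251 1, .bur 3 4 31 1, .bur 2 4 157 1, .bur 7 1 359 1, .syl 419 1, .bur 5 1 503 1,
  .syl 37 1, .bur 3 1 839 1, .bur 2 1 1259 1, .bur 11 1 229 1, .exc, .bur 2521 1 2 0, .syl 97 1,
  .bur 3 1 29 2, .bur 2 2 631 1, .bur 5 2 101 1, .syl 421 1, .bur 7 1 19 2, .bur 2 5 79 1,
  .bur 3 2 281 1, .syl 23 1, .bur 2531 1 2 0, .syl 211 1, .bur 17 1 149 1, .syl 181 1, .syl 13 2,
  .bur 2 3 317 1, .bur 43 1 59 1, .syl 47 1, .bur 2539 1 2 0, .syl 127 1, .syl 11 2, .syl 41 1,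
  .bur 2543 1 2 0, .syl 53 1, .bur 5 1 509 1, .syl 67 1, .bur 3 2 283 1, .syl 7 2,
  .bur 2549 1 2 0, .syl 17 1, .bur 2551 1 2 0, .br 29 [], .syl 37 1, .bur 2 1 1277 1, .syl 73 1,
  .syl 71 1, .bur 2557 1 2 0, .bur 2 1 1279 1, .bur 3 1 853 1, .bur 2 9 5 1, .bur 13 1 197 1,
  .syl 61 1, .bur 11 1 233 1, .bur 2 2 641 1, .syl 19 1, .bur 2 1 1283 1, .bur 17 1 151 1,
  .syl 107 1, .bur 7 1 367 1, .syl 257 1, .bur 3 1 857 1, .bur 2 2 643 1, .bur 31 1 83 1,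
  .br 13 [], .bur 5 2 103 1, .syl 23 1, .bur 3 1 859 1, .bur 2 1 1289 1, .bur 2579 1 2 0,
  .syl 43 1, .bur 29 1 89 1, .bur 2 1 1291 1, .syl 41 1, .syl 19 1, .syl 47 1, .syl 431 1,
  .bur 13 1 199 1, .bur 2 2 647 1, .bur 3 1 863 1, .syl 37 1, .bur 2591 1 2 0, .bur 2 5 3 4,
  .bur 2593 1 2 0, .bur 2 1 1297 1, .syl 173 1, .syl 59 1, .bur 7 2 53 1, .syl 433 1,
  .bur 23 1 113 1, .br 13 [], .bur 3 2 17 2, .bur 2 1 1301 1, .bur 19 1 137 1, .syl 31 1,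
  .bur 5 1 521 1, .bur 2 1 1303 1, .syl 79 1, .bur 2 4 163 1, .bur 2609 1 2 0, .br 29 [],
  .bur 7 1 373 1, .bur 2 2 653 1, .syl 67 1, .bur 2 1 1307 1, .bur 5 1 523 1, .syl 109 1,
  .bur 2617 1 2 0, .br 17 [], .bur 3 3 97 1, .syl 131 1, .bur 2621 1 2 0, .syl 23 1,
  .bur 43 1 61 1, .bur 2 6 41 1, .syl 5 3, .syl 101 1, .bur 37 1 71 1, .syl 73 1,
  .bur 11 1 239 1, .syl 263 1, .bur 3 1 877 1, .syl 47 1, .bur 2633 1 2 0, .syl 439 1, .syl 31 1,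
  .bur 2 2 659 1, .bur 3 2 293 1, .bur 2 1 1319 1, .syl 29 1, .br 11 [], .bur 19 1 139 1,
  .bur 2 1 1321 1, .bur 3 1 881 1, .bur 2 2 661 1, .bur 5 1 23 2, .syl 7 2, .bur 2647 1 2 0,
  .bur 2 3 331 1, .bur 3 1 883 1, .syl 53 1, .bur 11 1 241 1, .syl 13 1, .bur 7 1 379 1,
  .bur 2 1 1327 1, .syl 59 1, .bur 2 5 83 1, .bur 2657 1 2 0, .syl 443 1, .bur 2659 1 2 0,
  .br 19 [], .bur 3 1 887 1, .bur 2 1 11 3, .bur 2663 1 2 0, .syl 37 1, .syl 41 1, .syl 43 1,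
  .syl 127 1, .syl 29 1, .bur 17 1 157 1, .syl 89 1, .bur 2671 1 2 0, .bur 2 4 167 1,
  .bur 3 5 11 1, .syl 191 1, .bur 5 2 107 1, .syl 223 1, .bur 2677 1 2 0, .syl 103 1, .syl 47 1,
  .syl 67 1, .bur 7 1 383 1, .syl 149 1, .bur 2683 1 2 0, .syl 61 1, .syl 179 1, .syl 79 1,
  .bur 2687 1 2 0, .br 7 [], .bur 2689 1 2 0, .syl 269 1, .syl 23 1, .bur 2 2 673 1,
  .bur 2693 1 2 0, .syl 449 1, .syl 11 1, .bur 2 3 337 1, .syl 31 1, .syl 71 1, .bur 2699 1 2 0,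
  .exc, .bur 37 1 73 1, .syl 193 1, .syl 53 1, .bur 2 4 13 2, .bur 5 1 541 1, .syl 41 1,
  .bur 2707 1 2 0, .bur 2 2 677 1, .syl 43 1, .syl 271 1, .bur 2711 1 2 0, .syl 113 1,
  .bur 2713 1 2 0, .syl 59 1, .syl 181 1, .syl 97 1, .syl 19 1, .syl 151 1, .bur 2719 1 2 0,
  .syl 17 1, .bur 3 1 907 1, .bur 2 1 1361 1, .bur 7 1 389 1, .syl 227 1, .bur 5 2 109 1,
  .syl 47 1, .bur 3 3 101 1, .syl 31 1, .bur 2729 1 2 0, .br 7 [], .bur 2731 1 2 0,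
  .bur 2 2 683 1, .bur 3 1 911 1, .bur 2 1 1367 1, .bur 5 1 547 1, .syl 19 1, .syl 23 1,
  .bur 2 1 37 2, .syl 83 1, .syl 137 1, .bur 2741 1 2 0, .syl 457 1, .bur 13 1 211 1,
  .bur 2 3 7 3, .syl 61 1, .bur 2 1 1373 1, .bur 41 1 67 1, .syl 229 1, .bur 2749 1 2 0,
  .syl 11 1, .syl 131 1, .bur 2 6 43 1, .bur 2753 1 2 0, .syl 3 4, .syl 29 1, .syl 53 1,
  .bur 3 1 919 1, .syl 197 1, .bur 31 1 89 1, .br 23 [], .bur 11 1 251 1, .bur 2 1 1381 1,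
  .bur 3 2 307 1, .bur 2 2 691 1, .syl 79 1, .syl 461 1, .bur 2767 1 2 0, .bur 2 4 173 1,
  .syl 71 1, .syl 277 1, .bur 17 1 163 1, .br 11 [], .bur 47 1 59 1, .syl 73 1, .syl 5 2,
  .bur 2 3 347 1, .bur 2777 1 2 0, .syl 463 1, .bur 7 1 397 1, .syl 139 1, .bur 3 3 103 1,
  .syl 107 1, .bur 11 2 23 1, .syl 29 1, .bur 5 1 557 1, .syl 199 1, .bur 3 1 929 1, .syl 41 1,
  .bur 2789 1 2 0, .syl 31 1, .bur 2791 1 2 0, .bur 2 3 349 1, .syl 19 1, .syl 127 1, .syl 43 1,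
  .syl 233 1, .bur 2797 1 2 0, .bur 2 1 1399 1, .bur 3 2 311 1, .syl 5 2, .bur 2801 1 2 0,
  .syl 467 1, .bur 2803 1 2 0, .bur 2 2 701 1, .syl 17 1, .syl 61 1, .bur 7 1 401 1, .br 13 [],
  .bur 53 2 2 0, .syl 281 1, .bur 3 1 937 1, .syl 19 1, .bur 29 1 97 1, .syl 67 1,
  .bur 5 1 563 1, .bur 2 8 11 1, .bur 3 2 313 1, .bur 2 1 1409 1, .bur 2819 1 2 0, .syl 47 1,
  .syl 31 1, .syl 83 1, .bur 3 1 941 1, .bur 2 3 353 1, .bur 5 2 113 1, .syl 157 1,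
  .bur 11 1 257 1, .syl 101 1, .syl 41 1, .syl 283 1, .bur 19 1 149 1, .syl 59 1,
  .bur 2833 1 2 0, .syl 109 1, .syl 3 4, .bur 2 2 709 1, .bur 2837 1 2 0, .syl 43 1,
  .bur 17 1 167 1, .syl 71 1, .bur 3 1 947 1, .syl 29 1, .bur 2843 1 2 0, .syl 79 1,
  .bur 5 1 569 1, .bur 2 1 1423 1, .syl 73 1, .bur 2 5 89 1, .syl 37 1, .syl 19 1,
  .bur 2851 1 2 0, .syl 31 1, .bur 3 2 317 1, .bur 2 1 1427 1, .bur 5 1 571 1, .syl 17 1,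
  .bur 2857 1 2 0, .bur 2 1 1429 1, .bur 3 1 953 1, .syl 13 1, .bur 2861 1 2 0, .syl 3 3,
  .bur 7 1 409 1, .bur 2 4 179 1, .syl 191 1, .bur 2 1 1433 1, .bur 47 1 61 1, .syl 239 1,
  .bur 19 1 151 1, .syl 41 1, .syl 29 1, .bur 2 3 359 1, .bur 13 2 17 1, .syl 479 1,
  .bur 5 3 23 1, .bur 2 2 719 1, .syl 137 1, .bur 2 1 1439 1, .bur 2879 1 2 0, .br 5 [],
  .bur 43 1 67 1, .syl 131 1, .bur 3 1 31 2, .syl 103 1, .bur 5 1 577 1, .syl 37 1,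
  .bur 2887 1 2 0, .bur 2 3 19 2, .bur 3 3 107 1, .syl 17 2, .bur 7 2 59 1, .syl 241 1,
  .bur 11 1 263 1, .bur 2 1 1447 1, .syl 193 1, .bur 2 4 181 1, .bur 2897 1 2 0, .syl 23 1,
  .bur 13 1 223 1, .syl 29 1, .bur 3 1 967 1, .bur 2 1 1451 1, .bur 2903 1 2 0, .syl 11 2,
  .syl 83 1, .bur 2 1 1453 1, .br 19 [], .bur 2 2 727 1, .bur 2909 1 2 0, .syl 97 1,
  .bur 41 1 71 1, .syl 7 1, .bur 3 1 971 1, .syl 47 1, .syl 53 1, .bur 2 2 3 6, .bur 2917 1 2 0,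
  .bur 2 1 1459 1, .syl 139 1, .syl 73 1, .bur 23 1 127 1, .syl 487 1, .bur 37 1 79 1, .syl 43 1,
  .syl 13 1, .br 19 [], .bur 2927 1 2 0, .syl 61 1, .bur 29 1 101 1, .syl 293 1, .bur 3 1 977 1,
  .bur 2 2 733 1, .bur 7 1 419 1, .syl 163 1, .bur 5 1 587 1, .bur 2 3 367 1, .syl 89 1,
  .syl 113 1, .bur 2939 1 2 0, .syl 7 2, .bur 17 1 173 1, .bur 2 1 1471 1, .bur 3 3 109 1,
  .bur 2 7 23 1, .syl 31 1, .syl 491 1, .bur 7 1 421 1, .syl 67 1, .bur 3 1 983 1, .syl 59 1,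
  .bur 13 1 227 1, .syl 41 1, .bur 2953 1 2 0, .syl 211 1, .syl 197 1, .bur 2 2 739 1,
  .bur 2957 1 2 0, .syl 29 1, .bur 11 1 269 1, .syl 37 1, .syl 47 1, .bur 2 1 1481 1,
  .bur 2963 1 2 0, .syl 13 1, .bur 5 1 593 1, .bur 2 1 1483 1, .syl 43 1, .syl 53 1,
  .bur 2969 1 2 0, .br 11 [], .bur 2971 1 2 0, .bur 2 2 743 1, .bur 3 1 991 1, .bur 2 1 1487 1,
  .syl 5 2, .br 31 [], .bur 13 1 229 1, .bur 2 1 1489 1, .bur 3 2 331 1, .syl 149 1,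
  .bur 11 1 271 1, .syl 71 1, .bur 19 1 157 1, .bur 2 3 373 1, .syl 199 1, .bur 2 1 1493 1,
  .bur 29 1 103 1, .syl 83 1, .bur 7 2 61 1, .syl 23 1, .bur 3 1 997 1, .syl 17 1,
  .bur 41 1 73 1, .syl 499 1, .bur 5 1 599 1, .syl 107 1, .bur 3 4 37 1, .bur 2 1 1499 1,
  .bur 2999 1 2 0, .syl 5 3, .bur 3001 1 2 0, .syl 79 1, .syl 13 1, .bur 2 2 751 1,
  .bur 5 1 601 1, .syl 167 1, .bur 31 1 97 1, .bur 2 6 47 1, .syl 59 1, .syl 43 1,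
  .bur 3011 1 2 0, .syl 251 1, .bur 23 1 131 1, .syl 137 1, .syl 67 1, .syl 29 1, .bur 7 1 431 1,
  .syl 503 1, .bur 3019 1 2 0, .syl 151 1, .syl 53 1, .bur 2 1 1511 1, .bur 3023 1 2 0, .br 7 [],
  .bur 5 2 11 2, .syl 89 1, .bur 3 1 1009 1, .bur 2 2 757 1, .bur 13 1 233 1, .syl 101 1,
  .bur 7 1 433 1, .bur 2 3 379 1, .bur 3 2 337 1, .syl 41 1, .bur 5 1 607 1, .syl 23 1,
  .bur 3037 1 2 0, .syl 31 1, .bur 3 1 1013 1, .br 19 [], .bur 3041 1 2 0, .syl 13 2,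
  .bur 17 1 179 1, .bur 2 2 761 1, .syl 29 1, .bur 2 1 1523 1, .bur 11 1 277 1, .syl 127 1,
  .bur 3049 1 2 0, .syl 61 1, .bur 3 3 113 1, .syl 109 1, .bur 43 1 71 1, .syl 509 1, .syl 47 1,
  .bur 2 4 191 1, .bur 3 1 1019 1, .syl 139 1, .syl 23 1, .br 17 [], .bur 3061 1 2 0,
  .bur 2 1 1531 1, .bur 3 1 1021 1, .bur 2 3 383 1, .bur 5 1 613 1, .syl 73 1, .bur 3067 1 2 0,
  .syl 59 1, .syl 31 1, .syl 307 1, .bur 37 1 83 1, .bur 2 10 3 1, .bur 7 1 439 1, .syl 53 1,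
  .syl 41 1, .bur 2 2 769 1, .bur 17 1 181 1, .syl 19 1, .bur 3079 1 2 0, .br 11 [], .syl 79 1,
  .syl 67 1, .bur 3083 1 2 0, .syl 257 1, .bur 5 1 617 1, .bur 2 1 1543 1, .bur 3 2 7 3,
  .bur 2 4 193 1, .bur 3089 1 2 0, .syl 103 1, .bur 11 1 281 1, .bur 2 2 773 1, .bur 3 1 1031 1,
  .syl 17 1, .bur 5 1 619 1, .syl 43 1, .bur 19 1 163 1, .bur 2 1 1549 1, .bur 3 1 1033 1,
  .syl 31 1, .bur 7 1 443 1, .syl 47 1, .bur 29 1 107 1, .bur 2 5 97 1, .syl 23 1,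
  .bur 2 1 1553 1, .bur 13 1 239 1, .syl 37 1, .bur 3109 1 2 0, .syl 311 1, .syl 61 1,
  .bur 2 3 389 1, .bur 11 1 283 1, .syl 173 1, .syl 89 1, .syl 41 1, .bur 3 1 1039 1,
  .bur 2 1 1559 1, .bur 3119 1 2 0, .br 13 [], .bur 3121 1 2 0, .syl 223 1, .bur 3 2 347 1,
  .syl 71 1, .bur 5 5 2 0, .syl 521 1, .bur 53 1 59 1, .syl 23 1, .syl 149 1, .syl 313 1,
  .bur 31 1 101 1, .syl 29 1, .bur 13 1 241 1, .bur 2 1 1567 1, .syl 19 1, .bur 2 6 7 2,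
  .bur 3137 1 2 0, .syl 523 1, .bur 43 1 73 1, .syl 157 1, .bur 3 2 349 1, .bur 2 1 1571 1,
  .bur 7 1 449 1, .syl 131 1, .syl 37 1, .syl 13 1, .bur 3 1 1049 1, .bur 2 2 787 1,
  .bur 47 1 67 1, .br 2 [], .bur 23 1 137 1, .bur 2 4 197 1, .bur 3 1 1051 1, .syl 83 1,
  .bur 5 1 631 1, .syl 263 1, .syl 41 1, .bur 2 1 1579 1, .bur 3 5 13 1, .syl 79 1,
  .bur 29 1 109 1, .syl 31 1, .bur 3163 1 2 0, .syl 113 1, .syl 211 1, .bur 2 1 1583 1,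
  .bur 3167 1 2 0, .br 11 [], .bur 3169 1 2 0, .syl 317 1, .syl 151 1, .syl 61 1,
  .bur 19 1 167 1, .syl 23 2, .bur 5 2 127 1, .bur 2 3 397 1, .bur 3 2 353 1, .syl 227 1,
  .bur 11 1 17 2, .syl 53 1, .bur 3181 1 2 0, .syl 43 1, .bur 3 1 1061 1, .bur 2 4 199 1,
  .syl 13 1, .syl 59 1, .bur 3187 1 2 0, .bur 2 2 797 1, .bur 3 1 1063 1, .syl 29 1,
  .bur 3191 1 2 0, .syl 19 1, .bur 31 1 103 1, .bur 2 1 1597 1, .syl 71 1, .syl 47 1,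
  .bur 23 1 139 1, .syl 41 1, .bur 7 1 457 1, .bur 2 7 5 2, .syl 97 1, .bur 2 1 1601 1,
  .bur 3203 1 2 0, .syl 89 1, .bur 5 1 641 1, .syl 229 1, .bur 3 1 1069 1, .bur 2 3 401 1,
  .bur 3209 1 2 0, .syl 107 1, .bur 13 2 19 1, .syl 73 1, .syl 17 1, .bur 2 1 1607 1,
  .bur 5 1 643 1, .syl 67 1, .bur 3217 1 2 0, .bur 2 1 1609 1, .syl 37 1, .br 23 [],
  .bur 3221 1 2 0, .syl 179 1, .bur 11 1 293 1, .syl 31 1, .syl 43 1, .bur 2 1 1613 1,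
  .bur 7 1 461 1, .syl 269 1, .bur 3229 1 2 0, .syl 19 1, .bur 3 2 359 1, .bur 2 5 101 1,
  .bur 53 1 61 1, .syl 11 1, .bur 5 1 647 1, .bur 2 2 809 1, .syl 83 1, .bur 2 1 1619 1,
  .bur 41 1 79 1, .br 5 [], .bur 7 1 463 1, .bur 2 1 1621 1, .syl 47 1, .bur 2 2 811 1,
  .syl 59 1, .syl 541 1, .bur 17 1 191 1, .syl 29 1, .bur 3 2 19 2, .syl 13 1, .bur 3251 1 2 0,
  .syl 271 1, .bur 3253 1 2 0, .bur 2 1 1627 1, .syl 31 1, .syl 37 1, .bur 3257 1 2 0,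
  .syl 181 1, .bur 3259 1 2 0, .syl 163 1, .bur 3 1 1087 1, .syl 233 1, .bur 13 1 251 1,
  .syl 17 1, .bur 5 1 653 1, .syl 71 1, .bur 3 3 11 2, .syl 43 1, .bur 7 1 467 1, .syl 109 1,
  .bur 3271 1 2 0, .bur 2 3 409 1, .bur 3 1 1091 1, .bur 2 1 1637 1, .bur 5 2 131 1, .br 13 [],
  .bur 29 1 113 1, .syl 149 1, .bur 3 1 1093 1, .syl 41 1, .bur 17 1 193 1, .syl 547 1,
  .bur 7 2 67 1, .bur 2 2 821 1, .syl 73 1, .syl 53 1, .bur 19 1 173 1, .syl 137 1, .syl 23 1,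
  .syl 47 1, .bur 3 1 1097 1, .bur 2 2 823 1, .bur 37 1 89 1, .syl 61 1, .bur 5 1 659 1,
  .bur 2 5 103 1, .syl 157 1, .syl 97 1, .bur 3299 1 2 0, .br 11 [], .bur 3301 1 2 0, .syl 127 1,
  .bur 3 2 367 1, .syl 59 1, .bur 5 1 661 1, .syl 29 1, .bur 3307 1 2 0, .bur 2 2 827 1,
  .bur 3 1 1103 1, .syl 331 1, .syl 43 1, .br 23 [], .bur 3313 1 2 0, .bur 2 1 1657 1, .syl 17 1,
  .bur 2 2 829 1, .bur 31 1 107 1, .syl 79 1, .bur 3319 1 2 0, .syl 83 1, .bur 3 4 41 1,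
  .syl 151 1, .bur 3323 1 2 0, .syl 277 1, .syl 19 1, .bur 2 1 1663 1, .bur 3 1 1109 1,
  .bur 2 8 13 1, .bur 3329 1 2 0, .syl 37 1, .bur 3331 1 2 0, .syl 17 1, .syl 101 1,
  .bur 2 1 1667 1, .syl 29 1, .syl 139 1, .bur 47 1 71 1, .bur 2 1 1669 1, .syl 53 1, .syl 167 1,
  .bur 13 1 257 1, .syl 557 1, .bur 3343 1 2 0, .syl 19 1, .syl 223 1, .syl 239 1,
  .bur 3347 1 2 0, .syl 31 1, .bur 17 1 197 1, .syl 67 1, .bur 3 1 1117 1, .bur 2 3 419 1,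
  .bur 7 1 479 1, .syl 43 1, .syl 61 1, .bur 2 2 839 1, .bur 3 2 373 1, .syl 73 1,
  .bur 3359 1 2 0, .pair 7 [(2, 5), (3, 1), (5, 1)] 5 [(2, 5), (3, 1), (7, 1)], .bur 3361 1 2 0,
  .bur 2 1 41 2, .syl 59 1, .bur 2 2 29 2, .bur 5 1 673 1, .br 17 [], .syl 37 1, .bur 2 3 421 1,
  .bur 3 1 1123 1, .syl 337 1, .bur 3371 1 2 0, .syl 281 1, .bur 3373 1 2 0, .syl 241 1,
  .bur 3 3 5 3, .bur 2 4 211 1, .bur 11 1 307 1, .syl 563 1, .bur 31 1 109 1, .syl 13 2,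
  .syl 23 1, .syl 89 1, .bur 17 1 199 1, .syl 47 1, .bur 5 1 677 1, .bur 2 1 1693 1,
  .bur 3 1 1129 1, .syl 11 2, .bur 3389 1 2 0, .syl 113 1, .bur 3391 1 2 0, .bur 2 6 53 1,
  .syl 3 2, .bur 2 1 1697 1, .syl 97 1, .syl 283 1, .bur 43 1 79 1, .bur 2 1 1699 1, .syl 103 1,
  .syl 17 1, .bur 19 1 179 1, .syl 3 5, .bur 41 1 83 1, .syl 37 1, .syl 227 1, .syl 131 1,
  .bur 3407 1 2 0, .syl 71 1, .bur 7 1 487 1, .syl 31 1, .bur 3 2 379 1, .bur 2 2 853 1,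
  .bur 3413 1 2 0, .syl 569 1, .bur 5 1 683 1, .syl 61 1, .syl 67 1, .bur 2 1 1709 1,
  .bur 13 1 263 1, .exc, .bur 11 1 311 1, .syl 59 1, .syl 163 1, .bur 2 5 107 1, .bur 5 2 137 1,
  .syl 571 1, .bur 23 1 149 1, .bur 2 2 857 1, .bur 3 3 127 1, .syl 7 3, .bur 47 1 73 1,
  .br 13 [], .bur 3433 1 2 0, .syl 101 1, .syl 229 1, .bur 2 2 859 1, .bur 7 1 491 1, .syl 191 1,
  .bur 19 1 181 1, .syl 43 1, .syl 37 1, .bur 2 1 1721 1, .bur 11 1 313 1, .br 41 [], .syl 53 1,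
  .bur 2 1 1723 1, .bur 3 2 383 1, .bur 2 3 431 1, .bur 3449 1 2 0, .syl 23 1, .syl 29 1,
  .bur 2 2 863 1, .bur 3 1 1151 1, .syl 157 1, .bur 5 1 691 1, .bur 2 7 3 3, .bur 3457 1 2 0,
  .syl 19 1, .bur 3 1 1153 1, .syl 173 1, .bur 3461 1 2 0, .syl 577 1, .bur 3463 1 2 0,
  .bur 2 3 433 1, .br 11 [], .bur 2 1 1733 1, .bur 3467 1 2 0, .syl 17 2, .bur 3469 1 2 0,
  .syl 347 1, .syl 89 1, .syl 31 1, .bur 23 1 151 1, .syl 193 1, .bur 5 2 139 1, .syl 79 1,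
  .syl 61 1, .syl 47 1, .bur 7 2 71 1, .br 29 [], .bur 59 2 2 0, .bur 2 1 1741 1, .bur 3 4 43 1,
  .syl 67 1, .syl 41 1, .syl 83 1, .bur 11 1 317 1, .bur 2 5 109 1, .bur 3 1 1163 1, .syl 349 1,
  .bur 3491 1 2 0, .syl 97 1, .bur 7 1 499 1, .bur 2 1 1747 1, .syl 233 1, .syl 23 1,
  .bur 13 1 269 1, .syl 53 1, .bur 3499 1 2 0, .syl 5 3, .bur 3 2 389 1, .syl 103 1,
  .bur 31 1 113 1, .syl 73 1, .bur 5 1 701 1, .bur 2 1 1753 1, .syl 167 1, .bur 2 2 877 1,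
  .bur 11 2 29 1, .br 13 [], .bur 3511 1 2 0, .bur 2 3 439 1, .bur 3 1 1171 1, .syl 251 1,
  .syl 37 1, .syl 293 1, .bur 3517 1 2 0, .bur 2 1 1759 1, .syl 23 1, .br 11 [], .bur 7 1 503 1,
  .syl 587 1, .bur 13 1 271 1, .bur 2 2 881 1, .syl 47 1, .syl 43 1, .bur 3527 1 2 0, .syl 7 2,
  .bur 3529 1 2 0, .syl 353 1, .syl 107 1, .bur 2 2 883 1, .bur 3533 1 2 0, .syl 31 1,
  .syl 101 1, .syl 13 1, .bur 3 3 131 1, .syl 61 1, .bur 3539 1 2 0, .br 59 [], .bur 3541 1 2 0,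
  .syl 23 1, .bur 3 1 1181 1, .bur 2 3 443 1, .bur 5 1 709 1, .syl 197 1, .bur 3547 1 2 0,
  .bur 2 2 887 1, .syl 13 2, .syl 71 1, .bur 53 1 67 1, .syl 37 1, .syl 19 1, .bur 2 1 1777 1,
  .syl 79 1, .syl 127 1, .bur 3557 1 2 0, .syl 593 1, .bur 3559 1 2 0, .syl 89 1,
  .bur 3 1 1187 1, .syl 137 1, .bur 7 1 509 1, .br 11 [], .syl 31 1, .bur 2 1 1783 1, .syl 41 1,
  .bur 2 4 223 1, .bur 43 1 83 1, .br 17 [], .bur 3571 1 2 0, .syl 47 1, .bur 3 2 397 1,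
  .bur 2 1 1787 1, .syl 13 1, .syl 149 1, .bur 7 2 73 1, .bur 2 1 1789 1, .bur 3 1 1193 1,
  .syl 179 1, .bur 3581 1 2 0, .syl 199 1, .bur 3583 1 2 0, .bur 2 9 7 1, .syl 239 1, .syl 163 1,
  .bur 17 1 211 1, .syl 23 1, .bur 37 1 97 1, .syl 359 1, .syl 19 1, .bur 2 3 449 1,
  .bur 3593 1 2 0, .syl 599 1, .bur 5 1 719 1, .syl 31 1, .syl 109 1, .syl 257 1, .bur 59 1 61 1,
  .exc, .bur 13 1 277 1, .bur 2 1 1801 1, .bur 3 1 1201 1, .syl 53 1, .syl 103 1, .syl 601 1,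
  .bur 3607 1 2 0, .syl 41 1, .bur 3 2 401 1, .syl 19 2, .bur 23 1 157 1, .syl 43 1,
  .bur 3613 1 2 0, .syl 139 1, .syl 241 1, .bur 2 5 113 1, .bur 3617 1 2 0, .syl 67 1, .syl 47 1,
  .syl 181 1, .syl 71 1, .bur 2 1 1811 1, .bur 3623 1 2 0, .syl 151 1, .bur 5 3 29 1, .syl 37 1,
  .syl 31 1, .bur 2 2 907 1, .bur 19 1 191 1, .syl 11 2, .bur 3631 1 2 0, .bur 2 4 227 1,
  .syl 173 1, .syl 79 1, .bur 5 1 727 1, .syl 101 1, .bur 3637 1 2 0, .syl 107 1,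
  .bur 3 1 1213 1, .br 13 []
  ]

theorem certs_ok :
    H58.checkL [1404, 1512, 1800, 2448, 2520, 2700, 3420, 3600] 61 1093 certs = true := by
  decide +kernel

theorem certs_length : certs.length = 2548 := by decide +kernel

theorem arith2 {q N : ℕ} (h : Nat.gcd 2 (q - 1) * N = q * (q ^ 2 - 1)) (hN : N < 6000) :
    N ∉ [1404, 1512, 1800, 2700, 3600, 5616] := by
  have h1 : Nat.gcd 2 (q - 1) ≤ 2 := Nat.gcd_le_left _ (by norm_num)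
  have h2 : q ≤ 23 := by
    by_contra hc
    have h3 : 24 ≤ q := by omega
    have h4 : 24 ^ 2 ≤ q ^ 2 := Nat.pow_le_pow_left h3 2
    have h5 : 24 * 575 ≤ q * (q ^ 2 - 1) := Nat.mul_le_mul h3 (by omega)
    nlinarith
  interval_cases q <;> simp at h ⊢ <;> omega

theorem arith3 {q N : ℕ} (hq : 2 ≤ q) (h : Nat.gcd 3 (q - 1) * ((q - 1) * N) =
    (q ^ 3 - 1) * (q ^ 3 - q) * (q ^ 3 - q ^ 2)) (hN : N < 6000) :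
    (q = 2 ∧ N = 168) ∨ (q = 3 ∧ N = 5616) := by
  have h1 : Nat.gcd 3 (q - 1) ≤ 3 := Nat.gcd_le_left _ (by norm_num)
  have h2 : q ≤ 3 := by
    by_contra hc
    obtain ⟨r, rfl⟩ : ∃ r, q = r + 4 := ⟨q - 4, by omega⟩
    have e1 : (r + 4) ^ 3 - (r + 4) ^ 2 = (r + 4 - 1) * (r + 4) ^ 2 := by
      rw [show r + 4 - 1 = r + 3 by omega]
      exact Nat.sub_eq_of_eq_add (by ring)
    have e2 : 63 ≤ (r + 4) ^ 3 - 1 := Nat.le_sub_of_add_le (by nlinarith [sq_nonneg r])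
    have e3 : 60 ≤ (r + 4) ^ 3 - (r + 4) := Nat.le_sub_of_add_le (by nlinarith [sq_nonneg r])
    have e4 : 16 ≤ (r + 4) ^ 2 := by nlinarith
    rw [e1, ← mul_assoc, mul_comm (Nat.gcd _ _), mul_assoc, mul_left_comm _ (r + 4 - 1)] at h
    have h3 := Nat.eq_of_mul_eq_mul_left (by omega) h
    have h4 : 63 * 60 * 16 ≤ ((r + 4) ^ 3 - 1) * ((r + 4) ^ 3 - (r + 4)) * (r + 4) ^ 2 :=
      Nat.mul_le_mul (Nat.mul_le_mul e2 e3) e4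
    nlinarith
  interval_cases q <;> simp at h ⊢ <;> omega

theorem arithU {q N : ℕ} (h : Nat.gcd 3 (q + 1) * ((q + 1) * N) =
    q ^ 3 * ((q + 1) * (q ^ 2 - 1) * (q ^ 3 + 1))) (hN : N < 6000) : N ≤ 72 := by
  have h1 : Nat.gcd 3 (q + 1) ≤ 3 := Nat.gcd_le_left _ (by norm_num)
  have h2 : q ≤ 3 := by
    by_contra hc
    have e1 : 4 ^ 3 ≤ q ^ 3 := Nat.pow_le_pow_left (by omega) 3
    have e2 : 4 ^ 2 ≤ q ^ 2 := Nat.pow_le_pow_left (by omega) 2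
    rw [mul_left_comm, mul_assoc (q + 1), mul_left_comm (q ^ 3)] at h
    have h3 := Nat.eq_of_mul_eq_mul_left (by omega) h
    have h4 : 64 * (15 * 65) ≤ q ^ 3 * ((q ^ 2 - 1) * (q ^ 3 + 1)) :=
      Nat.mul_le_mul e1 (Nat.mul_le_mul (by omega) (by omega))
    nlinarith
  interval_cases q <;> simp at h ⊢ <;> omega

theorem ree_big {G : Type*} [Group G] (h : IsRee G) : 19683 ∣ Nat.card G := by
  obtain ⟨-, m, hm, h⟩ := h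
  rw [h, mul_assoc, ← pow_mul]
  exact (pow_dvd_pow 3 (by omega : 9 ≤ (2 * m + 1) * 3)).mul_right _

variable {G : Type*} [Group G] [Finite G] [IsSimpleGroup G]

theorem exc_cases (hG : ¬ IsMulCommutative G)
    (h : Nat.card G ∈ [1404, 1512, 1800, 2700, 3600, 5616]) :
    Nat.card G = 5616 ∧ Nonempty (G ≃* Matrix.ProjectiveSpecialLinearGroup (Fin 3) (ZMod 3)) := by
  have h' := h
  simp only [List.mem_cons, List.not_mem_nil, or_false] at h'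
  rcases small_two hG (by omega) with ⟨F, _, _, ⟨e⟩⟩ | ⟨F, _, _, ⟨e⟩⟩ | ⟨F, _, _, q, hq, ⟨e⟩⟩ |
    h1 | h1 | h1 | h1
  · have := H28.card_PSL2 (F := F) rfl
    rw [← Nat.card_congr e.toEquiv] at this
    exact absurd h (arith2 this (by omega))
  · have := card_psl3 (F := F)
    rw [← Nat.card_congr e.toEquiv] at this
    rcases arith3 Fintype.one_lt_card this (by omega) with ⟨-, h2⟩ | ⟨h2, h3⟩
    · omega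
    · have : Fact (Nat.Prime 3) := ⟨by norm_num⟩
      exact ⟨h3, ⟨e.trans (H28.pslEquiv (FiniteField.ringEquivOfCardEq (K := F) (K' := ZMod 3)
        (by simpa using h2)) (Fin 3))⟩⟩
  · have := card_psu3 hq
    rw [← Nat.card_congr e.toEquiv] at this
    have := arithU this (by omega)
    omega
  · omega
  · omega
  · omega
  · have := Nat.le_of_dvd Nat.card_pos (ree_big h1)
    omega

theorem simple_orders (hG : ¬ IsMulCommutative G) (h : Nat.card G < 6000) :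
    Nat.card G ∈ [60, 168, 360, 504, 660, 1092, 2448, 2520, 3420, 4080, 5616] := by
  simp only [List.mem_cons, List.not_mem_nil, or_false]
  by_cases h1 : Nat.card G ≤ 1092
  · have := S0496.result hG h1
    omega
  by_cases h2 : 3640 < Nat.card G
  · have := S0983.result hG h2 (by omega)
    omega
  have h3 := H58.checkL_sound hG certs 1093 certs_ok (by omega) (by rw [certs_length]; omega)
  have h4 := exc_cases hG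
  simp only [List.mem_cons, List.not_mem_nil, or_false] at h3 h4
  by_contra hc
  have := (h4 (by omega)).1
  omega

end Cfsg.Agent.H58.DG
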