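import Cfsg.Agent.H58.Q4Defs
import Cfsg.Agent.H90.Basic
import Cfsg.Agent.S0058
import Cfsg.Agent.S3900

/-!
# Toolkit for the four-fold transitive project
-/

set_option autoImplicit false

namespace Cfsg.Agent.H58.Q4

open Subgroup Equiv Function
open scoped Pointwise commutatorElement

universe u

variable {G Ω : Type u} [Group G] [MulAction G Ω]

theorem Tw.of_mem {R : Subgroup G} (hR : IsPGroup 2 R) {g : G} (hg : g ∈ R) : Tw g := by
  obtain ⟨n, hn⟩ := hR ⟨g, hg⟩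
  exact ⟨n, congrArg Subtype.val hn⟩

theorem isPGroup_of_tw {R : Subgroup G} (h : ∀ g ∈ R, Tw g) : IsPGroup 2 R := by
  intro g
  obtain ⟨n, hn⟩ := h g g.2
  exact ⟨n, Subtype.ext hn⟩

theorem Tw.conj {x : G} (h : Tw x) (g : G) : Tw (g * x * g⁻¹) := by
  obtain ⟨n, hn⟩ := h
  exact ⟨n, by rw [conj_pow, hn, mul_one, mul_inv_cancel]⟩

theorem Tw.of_sq {x : G} (h : x * x = 1) : Tw x := ⟨1, by rw [pow_one, pow_two, h]⟩

theorem Tw.isPGroup {x : G} (h : Tw x) : IsPGroup 2 (zpowers x) := by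
  obtain ⟨n, hn⟩ := h
  exact H90.isPGroup_zpowers hn

theorem Tw.eq_one {x : G} (h : Tw x) (ho : Odd (orderOf x)) : x = 1 := by
  obtain ⟨n, hn⟩ := h
  have h1 := orderOf_dvd_of_pow_eq_one hn
  have h2 : (orderOf x).Coprime (2 ^ n) := (Nat.coprime_two_right.2 ho).pow_right n
  exact orderOf_eq_one_iff.1 (Nat.eq_one_of_dvd_coprimes h2 dvd_rfl h1)

theorem Tw.coprime {x y : G} (h : Tw x) (ho : Odd (orderOf y)) :
    (orderOf x).Coprime (orderOf y) := by
  obtain ⟨n, hn⟩ := h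
  exact Nat.Coprime.coprime_dvd_left (orderOf_dvd_of_pow_eq_one hn)
    ((Nat.coprime_two_left.2 ho).pow_left n)

theorem exists_two_odd [Finite G] (x : G) :
    ∃ a b : ℕ, x ^ a * x ^ b = x ∧ Tw (x ^ a) ∧ Odd (orderOf (x ^ b)) := by
  obtain ⟨a, b, k, h1, h2, h3⟩ := H90.exists_pPart 2 x
  exact ⟨a, b, h1, ⟨k, h2⟩, Nat.not_even_iff_odd.1 fun h => h3 (even_iff_two_dvd.1 h)⟩

theorem commute_of_nil [Finite G] {K : Subgroup G} (hK : Group.IsNilpotent K) {x y : G}
    (hx : x ∈ K) (hy : y ∈ K) (h : (orderOf x).Coprime (orderOf y)) : Commute x y := by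
  have := H90.commute_of_coprime_of_isNilpotent (G := K) (x := ⟨x, hx⟩) (y := ⟨y, hy⟩)
    (by rwa [orderOf_mk, orderOf_mk])
  exact congrArg Subtype.val this.eq

theorem mem_Nm_iff {U : Subgroup G} {g : G} : g ∈ Nm U ↔ ∀ x, x ∈ U ↔ g * x * g⁻¹ ∈ U :=
  mem_normalizer_iff

theorem mem_Nm_of_finite [Finite G] {U : Subgroup G} {g : G}
    (h : ∀ x ∈ U, g * x * g⁻¹ ∈ U) : g ∈ Nm U :=
  mem_normalizer_fintype h

theorem conj_mem_of_Nm {U : Subgroup G} {g x : G} (hg : g ∈ Nm U) (hx : x ∈ U) :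
    g * x * g⁻¹ ∈ U := (mem_Nm_iff.1 hg x).1 hx

theorem mem_Ce {g x : G} : x ∈ Ce g ↔ Commute x g := by
  rw [mem_centralizer_singleton_iff]; rfl

theorem Ce_le_Nm (c : G) : Ce c ≤ Nm (zpowers c) := by
  intro g hg
  have h := mem_Ce.1 hg
  rw [mem_Nm_iff]
  intro x
  constructor
  · rintro ⟨i, rfl⟩
    have : g * c ^ i * g⁻¹ = c ^ i := by rw [(h.zpow_right i).eq, mul_inv_cancel_right]
    simp only [this]
    exact ⟨i, rfl⟩
  · rintro ⟨i, hi⟩
    have : x = c ^ i := by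
      have h2 : g⁻¹ * c ^ i * g = x := by simp only [hi]; group
      rw [← h2, ← (h.zpow_right i).inv_left.eq.symm, inv_mul_cancel_right]
    exact ⟨i, this.symm⟩

/-- A `p`-group normalising a nontrivial `p`-group centralises an element of order `p`. -/
theorem exists_fix_prime [Finite G] {p : ℕ} [hp : Fact p.Prime] {A R : Subgroup G}
    (hA : IsPGroup p A) (hR : IsPGroup p R) (hne : R ≠ ⊥) (hAR : A ≤ Nm R) :
    ∃ w ∈ R, orderOf w = p ∧ ∀ a ∈ A, Commute a w := by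
  let _ : MulAction A R :=
    { smul := fun a r => ⟨a.1 * r.1 * a.1⁻¹, conj_mem_of_Nm (hAR a.2) r.2⟩
      one_smul := fun r => Subtype.ext (by
        change ((1 : A) : G) * r.1 * ((1 : A) : G)⁻¹ = r.1; simp)
      mul_smul := fun a b r => Subtype.ext (by
        change ((a * b : A) : G) * r.1 * ((a * b : A) : G)⁻¹ =
          a.1 * (b.1 * r.1 * b.1⁻¹) * a.1⁻¹
        simp [mul_assoc]) }
  have hsm : ∀ (a : A) (r : R), ((a • r : R) : G) = a.1 * r.1 * a.1⁻¹ := fun _ _ => rfl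
  have hd : p ∣ Nat.card R := by
    obtain ⟨n, hn⟩ := IsPGroup.iff_card.1 hR
    rw [hn]
    refine dvd_pow_self p ?_
    rintro rfl
    exact hne (card_eq_one.1 (by simpa using hn))
  have h1 : (1 : R) ∈ MulAction.fixedPoints A R := fun a => Subtype.ext (by rw [hsm]; simp)
  obtain ⟨b, hb, hb1⟩ := hA.exists_fixed_point_of_prime_dvd_card_of_fixed_point R hd h1
  have hc : ∀ a ∈ A, Commute a b.1 := fun a ha => by
    have := congrArg Subtype.val (hb ⟨a, ha⟩)
    rw [hsm] at this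
    exact mul_inv_eq_iff_eq_mul.1 this
  obtain ⟨n, hn⟩ := IsPGroup.iff_orderOf.1 hR b
  have hn0 : n ≠ 0 := by
    rintro rfl
    exact hb1 (orderOf_eq_one_iff.1 (by simpa using hn)).symm
  obtain ⟨m, rfl⟩ := Nat.exists_eq_succ_of_ne_zero hn0
  refine ⟨b.1 ^ p ^ m, R.pow_mem b.2 _, ?_, fun a ha => (hc a ha).pow_right _⟩
  have hb' : orderOf b.1 = p ^ (m + 1) := by rw [← hn, orderOf_coe]
  rw [orderOf_pow' _ (pow_ne_zero _ hp.out.ne_zero), hb', pow_succ,
    Nat.gcd_mul_right_left, Nat.mul_div_cancel_left _ (pow_pos hp.out.pos _)]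

theorem exists_fix_invol [Finite G] {A R : Subgroup G}
    (hA : IsPGroup 2 A) (hR : IsPGroup 2 R) (hne : R ≠ ⊥) (hAR : A ≤ Nm R) :
    ∃ w ∈ R, w ≠ 1 ∧ w * w = 1 ∧ ∀ a ∈ A, Commute a w := by
  obtain ⟨w, hw, ho, hc⟩ := exists_fix_prime hA hR hne hAR
  refine ⟨w, hw, fun h => by simp [h] at ho, ?_, hc⟩
  rw [← pow_two, ← ho, pow_orderOf_eq_one]

theorem smul_eq_of_pow {o : G} {k : ℕ} (hk : k.Coprime (orderOf o)) {x : Ω}
    (h : o ^ k • x = x) : o • x = x := by
  obtain ⟨m, hm⟩ := exists_pow_eq_self_of_coprime hk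
  have : o ^ k ∈ MulAction.stabilizer G x := h
  have := (MulAction.stabilizer G x).pow_mem this m
  rwa [hm] at this

theorem smul_eq_of_sq {o : G} (ho : Odd (orderOf o)) {x : Ω} (h : o • o • x = x) :
    o • x = x :=
  smul_eq_of_pow (k := 2) (Nat.coprime_two_left.2 ho) (by rwa [pow_two, mul_smul])

/-- An element of odd order commuting with a fixed point free involution on at most four points
is trivial there. -/
theorem odd_fix_of_le_four [Finite Ω] {o z : G} (ho : Odd (orderOf o)) (hc : Commute o z)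
    {S : Set Ω} (hS : S.ncard ≤ 4) (hoS : ∀ x ∈ S, o • x ∈ S) (hzS : ∀ x ∈ S, z • x ∈ S)
    (hz : ∀ x ∈ S, z • x ≠ x) (hzz : ∀ x ∈ S, z • z • x = x) {x : Ω} (hx : x ∈ S) :
    o • x = x := by
  have com : ∀ y : Ω, o • z • y = z • o • y := fun y => by rw [← mul_smul, hc.eq, mul_smul]
  by_contra hne
  have h1 : o • x ≠ z • x := fun h => hne (smul_eq_of_sq ho (by rw [h, com, h, hzz x hx]))
  have hy := hoS x hx
  have h2 : x ≠ z • o • x := fun h => h1 (by
    have := hzz _ hy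
    rw [← h] at this
    exact this.symm)
  have h3 : z • x ≠ z • o • x := fun h => hne (smul_left_cancel z h).symm
  have hsub : ({x, z • x, o • x, z • o • x} : Set Ω) ⊆ S := by
    rintro y (rfl | rfl | rfl | rfl)
    exacts [hx, hzS _ hx, hy, hzS _ hy]
  have hc4 : ({x, z • x, o • x, z • o • x} : Set Ω).ncard = 4 :=
    Set.ncard_eq_four.2 ⟨_, _, _, _, (hz x hx).symm, fun h => hne h.symm, h2, h1.symm, h3,
      (hz _ hy).symm, rfl⟩
  have heq := Set.eq_of_subset_of_ncard_le hsub (by omega) (Set.toFinite _)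
  have h4 := hoS _ hy
  rw [← heq] at h4
  rcases h4 with h | h | h | h
  · exact hne (smul_eq_of_sq ho h)
  · refine hne (smul_eq_of_pow (k := 4) ((Nat.coprime_two_left.2 ho).pow_left 2) ?_)
    have h' : o • o • x = z • x := h
    rw [show o ^ 4 = o * o * o * o by simp only [pow_succ, pow_zero, one_mul], mul_smul, mul_smul,
      mul_smul, h', com, com, h', hzz x hx]
  · exact hne (smul_left_cancel o h)
  · have h' : o • o • o • x = o • x := by
      rw [show o • o • x = z • o • x from h, com, show o • o • x = z • o • x from h, hzz _ hy]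
    exact hne (smul_left_cancel o (smul_eq_of_sq ho h'))

theorem smul_mem_F1 {g c : G} (h : Commute g c) {x : Ω} (hx : x ∈ F1 Ω c) : g • x ∈ F1 Ω c := by
  rw [mem_F1] at hx ⊢
  rw [← mul_smul, ← h.eq, mul_smul, hx]

theorem F1_conj (g c : G) : F1 Ω (g * c * g⁻¹) = g • F1 Ω c := by
  ext x
  rw [Set.mem_smul_set_iff_inv_smul_mem, mem_F1, mem_F1, mul_smul, mul_smul, ← eq_inv_smul_iff]

theorem Fx_zpowers (c : G) : Fx Ω (zpowers c) = F1 Ω c := by
  ext x
  refine ⟨fun h => h c (mem_zpowers c), fun h g hg => ?_⟩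
  have : zpowers c ≤ MulAction.stabilizer G x := zpowers_le.2 h
  exact this hg

theorem smul_mem_Fx {U : Subgroup G} {g : G} (hg : g ∈ Nm U) {x : Ω} (hx : x ∈ Fx Ω U) :
    g • x ∈ Fx Ω U := by
  intro a ha
  have h1 : g⁻¹ * a * g⁻¹⁻¹ ∈ U := conj_mem_of_Nm (inv_mem hg) ha
  have := hx _ h1
  rw [inv_inv, mul_smul, mul_smul, inv_smul_eq_iff] at this
  exact this

theorem conj_mem_St {F : Set Ω} {g x : G} : g * x * g⁻¹ ∈ St G (g • F) ↔ x ∈ St G F := by
  simp only [mem_St]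
  constructor
  · intro h y hy
    have := h (g • y) (Set.smul_mem_smul_set hy)
    rwa [mul_smul, mul_smul, inv_smul_smul, smul_left_cancel_iff] at this
  · rintro h _ ⟨y, hy, rfl⟩
    simp only [mul_smul, inv_smul_smul, h y hy]

theorem smul_eq_of_mapsTo [Finite Ω] {g : G} {S : Set Ω} (h : ∀ x ∈ S, g • x ∈ S) :
    g • S = S := by
  refine Set.eq_of_subset_of_ncard_le ?_ (Set.ncard_smul_set g S).ge (Set.toFinite _)
  rintro _ ⟨x, hx, rfl⟩
  exact h x hx

theorem mem_Nm_St [Finite G] {F : Set Ω} {g : G} (h : g • F = F) : g ∈ Nm (St G F) :=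
  mem_Nm_of_finite fun _ hx => h ▸ conj_mem_St.2 hx

/-- The elements of odd order of a nilpotent subgroup. -/
def oddPart [Finite G] (K : Subgroup G) (hK : Group.IsNilpotent K) : Subgroup G where
  carrier := {k | k ∈ K ∧ Odd (orderOf k)}
  one_mem' := ⟨K.one_mem, by simp⟩
  inv_mem' := fun h => ⟨K.inv_mem h.1, by simpa using h.2⟩
  mul_mem' := fun {a b} ha hb => by
    refine ⟨K.mul_mem ha.1 hb.1, ?_⟩
    have := S3900.odd_mul (Y := K) (x := ⟨a, ha.1⟩) (y := ⟨b, hb.1⟩)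
      (by rw [orderOf_mk]; exact Nat.coprime_two_right.2 ha.2)
      (by rw [orderOf_mk]; exact Nat.coprime_two_right.2 hb.2)
    rw [← orderOf_coe] at this
    exact Nat.coprime_two_right.1 this

theorem mem_oddPart [Finite G] {K : Subgroup G} {hK : Group.IsNilpotent K} {k : G} :
    k ∈ oddPart K hK ↔ k ∈ K ∧ Odd (orderOf k) := Iff.rfl

theorem odd_card_of_forall [Finite G] {O : Subgroup G} (h : ∀ k ∈ O, Odd (orderOf k)) :
    Odd (Nat.card O) := by
  by_contra hc
  obtain ⟨x, hx⟩ := exists_prime_orderOf_dvd_card' (G := O) 2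
    (even_iff_two_dvd.1 (Nat.not_odd_iff_even.1 hc))
  have := h x x.2
  rw [orderOf_coe, hx] at this
  exact absurd this (by decide)

theorem orderOf_conj' (g x : G) : orderOf (g * x * g⁻¹) = orderOf x :=
  (MulAut.conj g).orderOf_eq x

theorem Nm_le_Nm_oddPart [Finite G] {K : Subgroup G} (hK : Group.IsNilpotent K) :
    Nm K ≤ Nm (oddPart K hK) := fun _ hg =>
  mem_Nm_of_finite fun x hx => ⟨conj_mem_of_Nm hg hx.1, by rw [orderOf_conj']; exact hx.2⟩

/-- Generation by the centralisers of a four-group. -/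
theorem le_of_four [Finite G] {O U : Subgroup G} (hO : Odd (Nat.card O)) {w w' : G}
    (hw : w * w = 1) (hw' : w' * w' = 1) (hw1 : w ≠ 1) (hw1' : w' ≠ 1) (hne : w ≠ w')
    (hc : Commute w w') (hN : w ∈ Nm O) (hN' : w' ∈ Nm O)
    (h1 : O ⊓ Ce w ≤ U) (h2 : O ⊓ Ce w' ≤ U) (h3 : O ⊓ Ce (w * w') ≤ U) : O ≤ U := by
  have e1 : ∀ x, w * (w * x) = x := fun x => by rw [← mul_assoc, hw, one_mul]
  have e2 : ∀ x, w' * (w' * x) = x := fun x => by rw [← mul_assoc, hw', one_mul]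
  have e3 : ∀ x, w' * (w * x) = w * (w' * x) := fun x => by
    rw [← mul_assoc, ← hc.eq, mul_assoc]
  have e4 : w' * w = w * w' := hc.eq.symm
  have sq : ∀ x, x = 1 ∨ x = w ∨ x = w' ∨ x = w * w' → x * x = 1 := by
    rintro x (rfl | rfl | rfl | rfl) <;> simp [hw, hw', mul_assoc, e1, e3]
  let A : Subgroup G :=
    { carrier := {x | x = 1 ∨ x = w ∨ x = w' ∨ x = w * w'}
      one_mem' := Or.inl rfl
      mul_mem' := by
        rintro a b (rfl | rfl | rfl | rfl) (rfl | rfl | rfl | rfl) <;>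
          simp [hw, hw', mul_assoc, e1, e3, e4]
      inv_mem' := fun {x} hx => by
        rw [inv_eq_of_mul_eq_one_right (sq x hx)]; exact hx }
  have hA : ∀ x, x ∈ A ↔ x = 1 ∨ x = w ∨ x = w' ∨ x = w * w' := fun _ => Iff.rfl
  have : IsMulCommutative A := ⟨⟨fun a b => Subtype.ext (by
    have h1 := sq _ (a * b).2
    have h2 := sq _ a.2
    have h3 := sq _ b.2
    change a.1 * b.1 = b.1 * a.1
    change a.1 * b.1 * (a.1 * b.1) = 1 at h1
    rw [← inv_eq_of_mul_eq_one_right h1, mul_inv_rev, inv_eq_of_mul_eq_one_right h2,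
      inv_eq_of_mul_eq_one_right h3])⟩⟩
  have hnc : ¬ IsCyclic A := by
    rintro ⟨g, hg⟩
    have hg2 : g ^ (2 : ℤ) = 1 := Subtype.ext (by
      rw [zpow_two]; exact sq _ g.2)
    have key : ∀ x : A, x ≠ 1 → x = g := fun x hx => by
      obtain ⟨i, rfl⟩ := hg x
      rcases Int.even_or_odd' i with ⟨j, rfl | rfl⟩
      · exact absurd (by simp only [zpow_mul, hg2, one_zpow]) hx
      · simp only [zpow_add, zpow_mul, hg2, one_zpow, one_mul, zpow_one]
    have h1 := key ⟨w, Or.inr (Or.inl rfl)⟩ fun h => hw1 (congrArg Subtype.val h)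
    have h2 := key ⟨w', Or.inr (Or.inr (Or.inl rfl))⟩ fun h => hw1' (congrArg Subtype.val h)
    exact hne (congrArg Subtype.val (h1.trans h2.symm))
  have hAO : A ≤ Nm O := by
    rintro x (rfl | rfl | rfl | rfl)
    exacts [one_mem _, hN, hN', mul_mem hN hN']
  have hp : IsPGroup 2 A := isPGroup_of_tw fun g hg => Tw.of_sq (sq g hg)
  obtain ⟨n, hn⟩ := IsPGroup.iff_card.1 hp
  rw [← S0058.result A O hnc hAO (hn ▸ (Nat.coprime_two_left.2 hO).pow_left n)]
  refine iSup₂_le ?_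
  rintro a ⟨rfl | rfl | rfl | rfl, ha⟩
  exacts [absurd rfl ha, h1, h2, h3]

/-- A group acting semiregularly on an invariant set has order dividing its size. -/
theorem card_dvd_of_semi [Finite G] [Finite Ω] {R : Subgroup G} {S : Set Ω}
    (hS : ∀ r ∈ R, ∀ x ∈ S, r • x ∈ S) (h : ∀ r ∈ R, ∀ x ∈ S, r • x = x → r = 1) :
    Nat.card R ∣ S.ncard := by
  let _ : MulAction R S :=
    { smul := fun r x => ⟨r.1 • x.1, hS _ r.2 _ x.2⟩
      one_smul := fun x => Subtype.ext (one_smul G x.1)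
      mul_smul := fun a b x => Subtype.ext (mul_smul a.1 b.1 x.1) }
  have hfree : ∀ x : S, MulAction.stabilizer R x = ⊥ := fun x => by
    rw [eq_bot_iff]
    intro r hr
    exact Subtype.ext (h _ r.2 _ x.2 (congrArg Subtype.val hr))
  have e := MulAction.selfEquivOrbitsQuotientProd hfree
  rw [← Nat.card_coe_set_eq, Nat.card_congr e, Nat.card_prod]
  exact Dvd.intro_left _ rfl

end Cfsg.Agent.H58.Q4
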