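import Cfsg.Agent.H56.SpDefs
import Cfsg.Agent.H60.OddInv

/-! Project CY, chapter SP: the Brauer-Wielandt count. -/

set_option autoImplicit false

namespace Cfsg.Agent.H58.SpBw

open Subgroup MulAction Cfsg.Agent.H11.Cy Cfsg.Agent.H56.Sp
open Cfsg.Agent.H45.Iv (Fx)

variable {G : Type} [Group G] {Ω : Type} [MulAction G Ω]

theorem cardmul (K : Subgroup G) (y : Ω) :
    Nat.card K = Nat.card ↥(K ⊓ stabilizer G y) * (orbit K y).ncard := by
  have j : (stabilizer G y).relIndex K = (orbit K y).ncard := index_stabilizer K y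
  rw [← j, inf_comm, ← inf_relIndex_right, ← relIndex_bot_left, ← relIndex_bot_left,
    relIndex_mul_relIndex _ _ _ bot_le inf_le_right]

theorem nrm {O : Subgroup G} {x : Ω} (h3 : stabilizer G x ≤ normalizer (O : Set G)) {b : G}
    (bb : b * b = 1) (bx : b • x = x) : ∀ h ∈ O, b * h * b ∈ O := fun h hh => by
  have := (mem_normalizer_iff.1 (h3 (mem_stabilizer_iff.2 bx)) h).1 hh
  rwa [inv_eq_of_mul_eq_one_right bb] at this

theorem nrm' {O : Subgroup G} {x w : Ω} (h3 : stabilizer G x ≤ normalizer (O : Set G)) {b : G}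
    (bb : b * b = 1) (bx : b • x = x) (bw : b • w = w) :
    ∀ h ∈ O ⊓ stabilizer G w, b * h * b ∈ O ⊓ stabilizer G w := fun h hh =>
  ⟨nrm h3 bb bx h hh.1, by
    show (b * h * b) • w = w
    rw [mul_smul, mul_smul, bw, mem_stabilizer_iff.1 hh.2, bw]⟩

theorem orb {O : Subgroup G} {x y : Ω} (hxy : x ≠ y) (h1 : Odd (Nat.card O))
    (h2 : O ≤ stabilizer G x) (h3 : stabilizer G x ≤ normalizer (O : Set G))
    (h4 : ∀ y y', y ≠ x → y' ≠ x → ∃ o ∈ O, o • y = y') {a b : G} (aa : a * a = 1)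
    (bb : b * b = 1) (ab : a * b = b * a) (ax : a • x = x) (bx : b • x = x) (ay : a • y = y)
    (by' : b • y = y) :
    orbit ↥(O ⊓ centralizer {a, b}) y = (Fx Ω a ∩ Fx Ω b) \ {x} := by
  ext w
  constructor
  · rintro ⟨o, rfl⟩
    have ca : a * (o : G) = o * a := o.2.2 a (by simp)
    have cb : b * (o : G) = o * b := o.2.2 b (by simp)
    refine ⟨⟨?_, ?_⟩, fun e => hxy ?_⟩
    · show a • (o : G) • y = (o : G) • y
      rw [← mul_smul, ca, mul_smul, ay]
    · show b • (o : G) • y = (o : G) • y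
      rw [← mul_smul, cb, mul_smul, by']
    · have e' : (o : G) • y = x := e
      have ox : (o : G) • x = x := mem_stabilizer_iff.1 (h2 o.2.1)
      exact smul_left_cancel (o : G) (ox.trans e'.symm)
  · rintro ⟨⟨aw, bw⟩, wx⟩
    have aw : a • w = w := aw
    have bw : b • w = w := bw
    obtain ⟨o, ho, rfl⟩ := h4 y w hxy.symm wx
    have ox : o • x = x := mem_stabilizer_iff.1 (h2 ho)
    have oix : o⁻¹ • x = x := by rw [inv_smul_eq_iff, ox]
    have key : ∀ c : G, c * c = 1 → c • x = x → c • y = y → c • o • y = o • y →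
        c * (o * c * o⁻¹) ∈ O ⊓ stabilizer G (o • y) := fun c cc cx cy cw => ⟨by
      have := O.mul_mem (nrm h3 cc cx o ho) (O.inv_mem ho)
      show c * (o * c * o⁻¹) ∈ O
      simpa only [mul_assoc] using this, by
      show (c * (o * c * o⁻¹)) • o • y = o • y
      rw [mul_smul, mul_smul, mul_smul, inv_smul_smul, cy, cw]⟩
    obtain ⟨k, hk, k1, k2⟩ := H60.exists_conj_pair_of_odd (H := O ⊓ stabilizer G (o • y))
      (H60.odd_card_of_le h1 inf_le_left) (a := o * a * o⁻¹) (b := o * b * o⁻¹) (a' := a) (b' := b)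
      (by rw [conj_mul, aa]; simp) (by rw [conj_mul, bb]; simp) aa bb
      (by rw [conj_mul, conj_mul, ab]) ab
      (nrm' h3 (by rw [conj_mul, bb]; simp) (by rw [mul_smul, mul_smul, oix, bx, ox])
        (by rw [mul_smul, mul_smul, inv_smul_smul, by']))
      (key a aa ax ay aw) (key b bb bx by' bw)
    refine ⟨⟨k * o, O.mul_mem hk.1 ho, ?_⟩, ?_⟩
    · intro c hc
      rcases hc with rfl | rfl
      · calc c * (k * o) = k * (o * c * o⁻¹) * k⁻¹ * (k * o) := by rw [k1]
          _ = k * o * c := by group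
      · calc c * (k * o) = k * (o * c * o⁻¹) * k⁻¹ * (k * o) := by rw [k2]
          _ = k * o * c := by group
    · show (k * o) • y = o • y
      rw [mul_smul, mem_stabilizer_iff.1 hk.2]

theorem bw : BwStmt := by
  intro G _ _ Ω _ _ p A h hy ot x y hxy z hz t ht tt _ _
  obtain ⟨O, h1, h2, h3, h4⟩ := ot x
  have l := hy.lf x y hxy
  have zK := l.cen z hz
  have fx : ∀ k ∈ Kl A x y, ∀ w ∈ Ln A x y, k • w = w := fun k hk =>
    (hy.mc.ep.kfix x y hxy k).1 hk
  have tx := fx t ht x l.mem.1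
  have ty := fx t ht y l.mem.2
  have zx := fx z zK x l.mem.1
  have zy := fx z zK y l.mem.2
  have zz := hz.2.2
  have tz : t * z = z * t := (ht z hz.1).symm
  have uu : t * z * (t * z) = 1 := by
    rw [mul_assoc, ← mul_assoc z, ← tz, mul_assoc, zz, mul_one, tt]
  have ux : (t * z) • x = x := by rw [mul_smul, zx, tx]
  have uy : (t * z) • y = y := by rw [mul_smul, zy, ty]
  have one : ∀ c : G, c * c = 1 → c • x = x → c • y = y →
      Nat.card ↥(O ⊓ centralizer {c}) =
        Nat.card ↥(O ⊓ stabilizer G y ⊓ centralizer {c}) * ((Fx Ω c).ncard - 1) := by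
    intro c cc cx cy
    have := orb hxy h1 h2 h3 h4 cc cc rfl cx cx cy cy
    rw [Set.pair_eq_singleton, Set.inter_self] at this
    rw [cardmul _ y, this, inf_right_comm, Set.ncard_sdiff_singleton_of_mem (show x ∈ Fx Ω c from cx)]
  have fz : (Fx Ω z).ncard - 1 = p := by rw [hy.fz x y hxy z hz, l.ln]; rfl
  have two : Nat.card ↥(O ⊓ centralizer {t, z}) =
      Nat.card ↥(O ⊓ stabilizer G y ⊓ centralizer {t, z}) * p := by
    have e : Fx Ω t ∩ Fx Ω z = Fx Ω z := Set.inter_eq_right.2 fun w hw =>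
      fx t ht w (by rw [← hy.fz x y hxy z hz]; exact hw)
    rw [cardmul _ y, orb hxy h1 h2 h3 h4 tt zz tz tx zx ty zy, inf_right_comm, e,
      Set.ncard_sdiff_singleton_of_mem (show x ∈ Fx Ω z from zx), fz]
  have all : Nat.card O = Nat.card ↥(O ⊓ stabilizer G y) * (Nat.card Ω - 1) := by
    have e : orbit O y = Set.univ \ {x} := by
      ext w
      constructor
      · rintro ⟨o, rfl⟩
        refine ⟨trivial, fun e => hxy ?_⟩
        have e' : (o : G) • y = x := e
        have ox : (o : G) • x = x := mem_stabilizer_iff.1 (h2 o.2)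
        exact smul_left_cancel (o : G) (ox.trans e'.symm)
      · rintro ⟨-, wx⟩
        obtain ⟨o, ho, e⟩ := h4 y w hxy.symm wx
        exact ⟨⟨o, ho⟩, e⟩
    rw [cardmul _ y, e, Set.ncard_sdiff_singleton_of_mem (Set.mem_univ x), Set.ncard_univ]
  have b1 := H60.brauer_wielandt h1 tt zz tz (nrm h3 tt tx) (nrm h3 zz zx)
  have b2 := H60.brauer_wielandt (H := O ⊓ stabilizer G y) (H60.odd_card_of_le h1 inf_le_left)
    tt zz tz (nrm' h3 tt tx ty) (nrm' h3 zz zx zy)
  rw [all, two, one t tt tx ty, one z zz zx zy, one _ uu ux uy, fz] at b1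
  have pos : 0 < Nat.card ↥(O ⊓ stabilizer G y) *
      Nat.card ↥(O ⊓ stabilizer G y ⊓ centralizer {t, z}) ^ 2 * p :=
    Nat.mul_pos (Nat.mul_pos Nat.card_pos (pow_pos Nat.card_pos 2)) h.pp.pos
  refine Nat.eq_of_mul_eq_mul_left pos ?_
  calc _ = Nat.card ↥(O ⊓ stabilizer G y) * (Nat.card Ω - 1) *
        (Nat.card ↥(O ⊓ stabilizer G y ⊓ centralizer {t, z}) * p) ^ 2 := by ring
    _ = _ := b1
    _ = _ := by rw [b2]; ring

end Cfsg.Agent.H58.SpBw
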