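import Cfsg.Agent.H17.TwA
import Cfsg.Agent.H89.BRa

/-!
# Lifting the local facts from the quotient of the centraliser by its core
-/

set_option autoImplicit false

namespace Cfsg.Agent.H58.A12Up

open Subgroup Cfsg.Agent.H89 Cfsg.Agent.H89.TG Cfsg.Agent.H89.Rec Cfsg.Agent.H17.Ya
  Cfsg.Agent.H17.Tw

universe u v

section

variable {G : Type u} [Group G] [Finite G] {X : Type v} [Group X] [Finite X]
  {j : T →* G} {π : CT j →* X} {k : T →* X}

omit [Finite G] in
theorem mem_CT (j : T →* G) (u : T) : j u ∈ CT j :=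
  mem_centralizer_singleton_iff.2 ((tc' u).map j).eq

/-- The frame inside the centraliser. -/
noncomputable def io (j : T →* G) : T →* CT j := j.codRestrict _ (mem_CT j)

omit [Finite G] in
theorem io_val (u : T) : (io j u : G) = j u := rfl

theorem fr_io (h : Fr j) : Fr (io j) := by
  have e : (io j).range = j.range.subgroupOf (CT j) := by
    ext x
    exact ⟨fun ⟨u, e⟩ => ⟨u, congrArg Subtype.val e⟩, fun ⟨u, e⟩ => ⟨u, Subtype.ext e⟩⟩
  have h1 : Syl j.range (CT j) := h.sylK (by rintro _ ⟨u, rfl⟩; exact mem_CT j u)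
  refine ⟨fun a b e => h.inj (congrArg Subtype.val e), le_top, e ▸ h1.isPGroup, ?_⟩
  rw [relIndex_top_right, e]
  exact h1.odd

omit [Finite G] [Finite X] in
theorem pi_io (hq : Qt j π k) (u : T) : π (io j u) = k u := hq.comp u _

omit [Finite X] in
theorem fr_k (h : Fr j) (hq : Qt j π k) : Fr k := by
  have h1 := fr_io h
  have e : k.range = (io j).range.map π := by
    ext x
    exact ⟨fun ⟨u, e⟩ => ⟨_, ⟨u, rfl⟩, (pi_io hq u).trans e⟩,
      by rintro ⟨_, ⟨u, rfl⟩, rfl⟩; exact ⟨u, (pi_io hq u).symm⟩⟩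
  refine ⟨(injective_iff_map_eq_one _).2 fun u hu => h1.inj ?_, le_top, e ▸ h1.syl.grp.map π, ?_⟩
  · rw [map_one]
    exact eq_one_of_mem hq.odd h1.syl.grp (show π _ = 1 from (pi_io hq u).trans hu) ⟨u, rfl⟩
  · have h2 := h1.syl.odd
    rw [relIndex_top_right] at h2 ⊢
    rw [e]
    exact h2.of_dvd_nat (index_map_dvd _ hq.surj)

theorem lift (h : Fr j) (hq : Qt j π k) (b : X) :
    ∃ g : CT j, π g = b ∧ ∀ u u', Cj k b u u' → Cj j g u u' := by
  obtain ⟨g, h1, h2⟩ := (fr_k h hq).lift_cj hq.surj (fr_io h) (pi_io hq) b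
  exact ⟨g, h1, fun u u' e => congrArg Subtype.val (h2 u u' e)⟩

omit [Finite X] in
theorem ker_le (hq : Qt j π k) {x : CT j} (hx : π x = 1) : (x : G) ∈ oc (CT j) := by
  refine le_oc (O := π.ker.map (CT j).subtype) (map_subtype_le _) (by
    rw [card_map_of_injective (CT j).subtype_injective]; exact hq.odd) (fun g hg => mem_nrm ?_)
    ⟨x, hx, rfl⟩
  rintro _ ⟨x, hx, rfl⟩
  exact ⟨_, π.normal_ker.conj_mem x hx ⟨g, hg⟩, rfl⟩

omit [Finite G] in
theorem cj_of_comm {M : Type*} [Group M] {ι : M →* G} {g : G} {u : M} :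
    Cj ι g u u ↔ ι u * g = g * ι u := by
  unfold Cj
  rw [mul_inv_eq_iff_eq_mul, eq_comm]

theorem lift_cent (h : Fr j) (hq : Qt j π k) {a c : T} {b : X}
    (hb : b ∈ centralizer ({k a, k c} : Set X)) :
    ∃ g : CT j, π g = b ∧ (g : G) ∈ centralizer ({j (tv 21), j a, j c} : Set G) := by
  obtain ⟨g, h1, h2⟩ := lift h hq b
  refine ⟨g, h1, mem_centralizer_iff.2 ?_⟩
  rintro _ (rfl | rfl | rfl)
  · exact (mem_centralizer_singleton_iff.1 g.2).symm
  · exact cj_of_comm.1 (h2 _ _ (cj_of_comm.2 (hb _ (by simp))))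
  · exact cj_of_comm.1 (h2 _ _ (cj_of_comm.2 (hb _ (by simp))))

omit [Finite G] [Finite X] in
theorem comm_down (hq : Qt j π k) {y : CT j} {a : T} (e : Commute (y : G) (j a)) :
    Commute (π y) (k a) := by
  rw [← pi_io hq]
  exact Commute.map (show Commute y (io j a) from Subtype.ext e.eq) π

theorem oc_cent (h : Fr j) (hq : Qt j π k) {a c : T}
    (h0 : oc (centralizer ({k a, k c} : Set X)) = ⊥) :
    oc (centralizer ({j (tv 21), j a, j c} : Set G)) ≤ oc (CT j) := by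
  set C := centralizer ({j (tv 21), j a, j c} : Set G) with hC
  have hCH : C ≤ CT j := fun y hy =>
    mem_centralizer_singleton_iff.2 (hy _ (by simp)).symm
  have h1 : ((oc C).subgroupOf (CT j)).map π ≤ oc (centralizer ({k a, k c} : Set X)) := by
    refine le_oc ?_ ?_ fun b hb => ?_
    · rintro _ ⟨y, hy, rfl⟩
      have hy' : (y : G) ∈ C := oc_le _ hy
      refine mem_centralizer_iff.2 ?_
      rintro _ (rfl | rfl)
      · exact (comm_down hq (show Commute (y : G) (j a) from (hy' _ (by simp)).symm)).eq.symm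
      · exact (comm_down hq (show Commute (y : G) (j c) from (hy' _ (by simp)).symm)).eq.symm
    · refine Odd.of_dvd_nat ?_ (card_map_dvd _ _)
      rw [Nat.card_congr (subgroupOfEquivOfLe ((oc_le C).trans hCH)).toEquiv]
      exact oc_odd C
    · obtain ⟨g, rfl, hg⟩ := lift_cent h hq hb
      refine mem_nrm ?_
      rintro _ ⟨y, hy, rfl⟩
      exact ⟨g * y * g⁻¹, ((oc_nrm (le_normalizer hg)) _).1 hy, by simp⟩
  intro y hy
  exact ker_le hq (x := ⟨y, hCH (oc_le _ hy)⟩) (h0.le (h1 ⟨_, hy, rfl⟩))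

end

theorem up : UpStmt.{u, v} := by
  intro G _ _ X _ _ j π k h hq hl
  refine ⟨fun i l hi hl' hil => oc_cent h hq (hl.hb i l hi hl' hil),
    fun i l n hi hl' hn h1 h2 h3 y hy ho c1 c2 => ?_, fun K h1 h2 h3 y hy => ?_⟩
  · have := hl.hc i l n hi hl' hn h1 h2 h3 (π ⟨y, hy⟩)
      (Odd.of_dvd_nat (by rwa [← Subgroup.orderOf_coe]) (orderOf_map_dvd _ _))
      (comm_down hq c1) (comm_down hq c2)
    refine ker_le hq (x := ⟨y, hy⟩ * io j (cv l) * (⟨y, hy⟩ : CT j)⁻¹ * io j (cv l)) ?_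
    rw [map_mul, map_mul, map_mul, map_inv, pi_io hq, this.eq, mul_inv_cancel_right, ← map_mul,
      show cv l * cv l = 1 from tv_sq (cN_lt l), map_one]
  · have e := hl.gen ((K.subgroupOf (CT j)).map π) (fun b hb => by
      obtain ⟨g, rfl, hg⟩ := lift_cent h hq hb
      exact ⟨g, h2 hg, rfl⟩) fun b hb => by
        obtain ⟨g, rfl, hg⟩ := lift h hq b
        exact ⟨g, h3 g g.2 fun a ha => let ⟨c, hc, e⟩ := hb a ha; ⟨c, hc, hg _ _ e⟩, rfl⟩
    obtain ⟨g, hg, e'⟩ := e.ge (mem_top (π ⟨y, hy⟩))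
    have h4 := h1 (ker_le hq (x := ⟨y, hy⟩ * g⁻¹) (by rw [map_mul, map_inv, e', mul_inv_cancel]))
    simpa using K.mul_mem h4 hg

end Cfsg.Agent.H58.A12Up
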