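import Cfsg.Agent.H97.BcDefs
import Cfsg.Agent.H97.Meta2
import Cfsg.Agent.H89.SecRank
import Cfsg.Agent.H5.Gen3
import Cfsg.Agent.S0572

/-! The structure of bicyclic `2`-groups that are not metacyclic (piece STR of S5217). -/

set_option autoImplicit false
set_option linter.unusedSectionVars false

namespace Cfsg.Agent.H58.BcStr

open Cfsg Cfsg.Agent.H97.Bc Cfsg.Agent.H5 Cfsg.Agent.H9.Bic Subgroup
open scoped commutatorElement

universe u

variable {G : Type*} [Group G]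

theorem sq_zpow (a : G) (s : ℤ) : (a ^ s) ^ 2 = (a ^ 2) ^ s := by
  rw [sq, sq, (Commute.refl a).mul_zpow]

theorem comm_mem (a b : G) : ⁅a, b⁆ ∈ _root_.commutator G :=
  commutator_mem_commutator (mem_top a) (mem_top b)

theorem rel4 {K N : Subgroup G} (hK : IsMetacyclic K) (h : ∀ x ∈ K, x ^ 2 ∈ N) :
    N.relIndex K ∣ 2 ^ 2 := by
  have : (N.subgroupOf K).Normal := ⟨fun n hn x => by
    rw [show x * n * x⁻¹ = (x * n) ^ 2 * n⁻¹ * x⁻¹ ^ 2 by simp only [sq]; group]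
    exact mul_mem (mul_mem (h _ (x * n).2) (inv_mem hn)) (h _ x⁻¹.2)⟩
  rw [relIndex, ← relIndex_top_right]
  exact H90.relIndex_dvd_sq_of_metacyclic hK fun x _ => h x x.2

theorem mul_mem_two {W B : Subgroup G} (h : W.relIndex B ∣ 2) {a b : G} (ha : a ∈ B) (hb : b ∈ B)
    (h1 : a ∉ W) (h2 : b ∉ W) : a * b ∈ W := by
  rcases (Nat.dvd_prime Nat.prime_two).1 h with h | h
  · exact (h1 (relIndex_eq_one.1 h ha)).elim
  · exact (mul_mem_iff_of_index_two h (a := ⟨a, ha⟩) (b := ⟨b, hb⟩)).2 (iff_of_false h1 h2)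

theorem four_aux {α β : G} [(zpowers α).Normal] (ht : zpowers α ⊔ zpowers β = ⊤) {H : Subgroup G}
    (hH : ∀ p ∈ H, ∃ k : ℤ, p * α * p⁻¹ = α ^ (1 + 4 * k)) {a b : G} (ha : a ∈ H) (hb : b ∈ H) :
    ∃ c ∈ H, ⁅a, b⁆ = c ^ 4 := by
  have : IsCyclic (H.map (QuotientGroup.mk' (zpowers α))) :=
    isCyclic_of_le (H' := zpowers (QuotientGroup.mk' (zpowers α) β)) (by
      rintro _ ⟨g, -, rfl⟩
      obtain ⟨y, hy, _, ⟨j, rfl⟩, rfl⟩ := mem_sup_of_normal_left.1 (ht.ge (mem_top g))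
      exact ⟨j, by simp [(QuotientGroup.eq_one_iff y).2 hy]⟩)
  obtain ⟨_, e⟩ := (Subgroup.isCyclic_iff_exists_zpowers_eq_top _).1 this
  obtain ⟨h, hh, rfl⟩ := e.le (mem_zpowers _)
  have k : ∀ a ∈ H, ∃ i j m : ℤ, a = α ^ i * h ^ j ∧ α ^ i ∈ H ∧
      h ^ j * α * (h ^ j)⁻¹ = α ^ (1 + 4 * m) := fun a ha => by
    obtain ⟨j, hj⟩ := e.ge (mem_map_of_mem _ ha)
    obtain ⟨i, hi⟩ : a * (h ^ j)⁻¹ ∈ zpowers α := by
      rw [← QuotientGroup.eq_one_iff, QuotientGroup.mk_mul, QuotientGroup.mk_inv, mul_inv_eq_one]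
      exact hj.symm
    obtain ⟨m, hm⟩ := hH _ (zpow_mem hh j)
    replace hi : α ^ i = a * (h ^ j)⁻¹ := hi
    exact ⟨i, j, m, by rw [hi]; group, hi ▸ mul_mem ha (inv_mem (zpow_mem hh j)), hm⟩
  obtain ⟨i, j, m, rfl, a1, a2⟩ := k a ha
  obtain ⟨i', j', m', rfl, b1, b2⟩ := k b hb
  refine ⟨(α ^ i') ^ m * (α ^ i) ^ (-m'), mul_mem (zpow_mem b1 _) (zpow_mem a1 _), ?_⟩
  calc _ = α ^ i * (h ^ j * α * (h ^ j)⁻¹) ^ i' * (h ^ j' * α * (h ^ j')⁻¹) ^ (-i) * α ^ (-i') := by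
        rw [conj_zpow, conj_zpow, commutatorElement_def]; group
    _ = _ := by rw [a2, b2]; group

variable [Finite G] (hG : IsPGroup 2 G) {x y : G} (h : Bi x y) (hm : ¬ IsMetacyclic G)
include hG h hm

theorem not_mem : y ∉ frattini G ⊔ zpowers x := fun hy => by
  have h1 := frattini_nongenerating (K := zpowers x)
    (h.eq_top (mem_sup_left (mem_zpowers x)) (sup_comm (frattini G) _ ▸ hy))
  exact hm (meta_of_commutator_le (a := x) (b := x) (h1 ▸ le_top) (by rw [h1, sup_idem]))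

theorem idx2 : (frattini G ⊔ zpowers x).index = 2 := by
  have := Fact.mk Nat.prime_two
  have k : ∀ i j : ℤ, x ^ i * y ^ (2 * j) ∈ frattini G ⊔ zpowers x := fun i j =>
    mul_mem (mem_sup_right ⟨i, rfl⟩) (mem_sup_left (by
      rw [zpow_mul]; exact zpow_mem (by exact_mod_cast H3.pow_mem_frattini hG y) j))
  refine ((Nat.dvd_prime Nat.prime_two).1 (index_dvd_two_iff.2 ⟨y, fun g => ?_⟩)).resolve_left
    fun e => not_mem hG h hm ((index_eq_one.1 e).ge (mem_top y))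
  obtain ⟨i, j, rfl⟩ := h g
  obtain ⟨j, rfl | rfl⟩ := Int.even_or_odd' j
  · exact Or.inr (k i j)
  · exact Or.inl (by convert k i (j + 1) using 1; group)

theorem mem_iff (i j : ℤ) : x ^ i * y ^ j ∈ frattini G ↔ Even i ∧ Even j := by
  have := Fact.mk Nat.prime_two
  have k : ∀ (a : G) (i : ℤ), Even i → a ^ i ∈ frattini G := by
    rintro a _ ⟨i, rfl⟩
    rw [zpow_add, ← sq]; exact H3.pow_mem_frattini hG _
  refine ⟨fun e => ⟨?_, ?_⟩, fun e => mul_mem (k _ _ e.1) (k _ _ e.2)⟩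
  · exact (zpow_mem_iff (idx2 hG h.symm hm) (not_mem hG h.symm hm) i).1
      ((mul_mem_cancel_right (mem_sup_right (zpow_mem_zpowers y j))).1 (mem_sup_left e))
  · exact (zpow_mem_iff (idx2 hG h hm) (not_mem hG h hm) j).1
      ((mul_mem_cancel_left (mem_sup_right (zpow_mem_zpowers x i))).1 (mem_sup_left e))

theorem xP : x ∉ frattini G := fun e => not_mem hG h.symm hm (mem_sup_left e)

theorem idx : (frattini G).index = 4 := by
  have h1 := idx2 hG h hm
  have h2 := index_inf_le (H := frattini G ⊔ zpowers x) (K := frattini G ⊔ zpowers y)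
  have h3 := relIndex_mul_index (show frattini G ≤ frattini G ⊔ zpowers x from le_sup_left)
  have h4 : (frattini G).relIndex (frattini G ⊔ zpowers x) ≠ 1 := fun e =>
    xP hG h hm (relIndex_eq_one.1 e (mem_sup_right (mem_zpowers x)))
  have h5 := (frattini G).index_ne_zero_of_finite
  rw [h1, idx2 hG h.symm hm, show (frattini G ⊔ zpowers x) ⊓ (frattini G ⊔ zpowers y) = frattini G
    from le_antisymm (fun g hg => by
      obtain ⟨i, j, rfl⟩ := h g
      exact (mem_iff hG h hm i j).2 ⟨(zpow_mem_iff (idx2 hG h.symm hm) (not_mem hG h.symm hm) i).1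
        ((mul_mem_cancel_right (mem_sup_right (zpow_mem_zpowers y j))).1 hg.2),
        (zpow_mem_iff h1 (not_mem hG h hm) j).1
          ((mul_mem_cancel_left (mem_sup_right (zpow_mem_zpowers x i))).1 hg.1)⟩) (le_inf le_sup_left le_sup_left)]
    at h2
  rw [h1] at h3
  omega

theorem rel2 {N : Subgroup G} (hN : N.index = 2) (hle : frattini G ≤ N) :
    (frattini G).relIndex N ∣ 2 := by
  have := relIndex_mul_index hle
  rw [idx hG h hm, hN] at this
  exact ⟨1, by omega⟩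

theorem le_sq : frattini G ≤ zpowers (x ^ 2) ⊔ _root_.commutator G := fun g hg => by
  obtain ⟨i, j, rfl⟩ := h g
  obtain ⟨⟨i, rfl⟩, j, rfl⟩ := (mem_iff hG h hm i j).1 hg
  obtain ⟨s, t, -, ht, e⟩ := h.exists_sq hG hm
  rw [zpow_add, zpow_add, ← sq, ← sq, sq_zpow, sq_zpow]
  refine mul_mem (mem_sup_left ⟨i, rfl⟩) (zpow_mem (mem_of_odd hG ht ?_) j)
  rw [show (x ^ s * y ^ t) ^ 2 = (x ^ s) ^ 2 * ⁅(x ^ s)⁻¹, y ^ t⁆ * (y ^ t) ^ 2 by
    simp only [sq, commutatorElement_def]; group, sq_zpow, sq_zpow] at e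
  exact (mul_mem_cancel_left (mul_mem (mem_sup_left (zpow_mem_zpowers _ s))
    (mem_sup_right (comm_mem _ _)))).1 (mem_sup_right e)

theorem memP {g : G} (hg : g ∈ frattini G) :
    ∃ i : ℤ, ∃ a ∈ _root_.commutator G, g = x ^ (2 * i) * a := by
  obtain ⟨_, ⟨i, rfl⟩, a, ha, rfl⟩ := mem_sup_of_normal_right.1 (le_sq hG h hm hg)
  exact ⟨i, a, ha, by rw [zpow_mul]; norm_cast⟩

theorem sq_not {g : G} (hg : g ^ 2 ∈ _root_.commutator G) : x * g ∉ frattini G := fun e => by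
  obtain ⟨i, a, ha, e⟩ := memP hG h hm e
  refine h.sq_not_mem hG hm (mem_of_odd hG (s := 2 * i - 1) ⟨i - 1, by ring⟩ ?_)
  rw [← of_eq_one] at hg ha ⊢
  rw [show g = x ^ (2 * i - 1) * a by rw [← mul_right_inj x, e]; group, map_pow, map_mul, ha,
    mul_one, ← map_pow, sq_zpow] at hg
  exact hg

theorem triv {a : G} (ha : a ∈ frattini G) (g : G) : ⁅a, g⁆ ∈ Phi (frattini G) := by
  have := Fact.mk Nat.prime_two
  have hA := H3.commutator_le_frattini hG
  have hP := hG.to_subgroup (frattini G)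
  have hn : (Phi (frattini G)).Normal := inferInstance
  have h1 : ¬ frattini G ≤ _root_.commutator G ⊔ Phi (frattini G) := fun e => by
    have h2 : Phi (frattini G) ≤ zpowers ((x ^ 2) ^ 2) ⊔ _root_.commutator G :=
      Phi_le_of' (p := 2) ((commutator_mono le_top le_top).trans le_sup_right) fun g hg => by
        obtain ⟨_, ⟨i, rfl⟩, a, ha, rfl⟩ := mem_sup_of_normal_right.1 (le_sq hG h hm hg)
        rw [show ((x ^ 2) ^ i * a) ^ 2 = ((x ^ 2) ^ i) ^ 2 * ⁅((x ^ 2) ^ i)⁻¹, a⁆ * a ^ 2 by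
          generalize (x ^ 2) ^ i = b; simp only [sq, commutatorElement_def]; group, sq_zpow]
        exact mul_mem (mul_mem (mem_sup_left ⟨i, rfl⟩) (mem_sup_right (comm_mem _ _)))
          (mem_sup_right (pow_mem ha 2))
    obtain ⟨_, ⟨i, rfl⟩, a, ha, e⟩ := mem_sup_of_normal_right.1
      ((sup_le le_sup_right h2) (e (H3.pow_mem_frattini hG x)))
    refine h.sq_not_mem hG hm (mem_of_odd hG (s := 1 - 2 * i) ⟨-i, by ring⟩ ?_)
    convert ha using 1
    rw [← mul_right_inj (((x ^ 2) ^ 2) ^ i), e]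
    generalize x ^ 2 = b
    group
  have h2 : (Phi (frattini G)).relIndex (_root_.commutator G ⊔ Phi (frattini G)) ∣ 2 := by
    have h3 := rel4 (N := Phi (frattini G)) (H71.isMetacyclic_of_le (h.meta_of_mem hG hm
      (idx2 hG h hm) (mem_sup_right (mem_zpowers x))) le_sup_left) fun _ => pow_mem_Phi hP
    rw [← relIndex_mul_relIndex _ (_root_.commutator G ⊔ Phi (frattini G)) _ le_sup_right
      (sup_le hA (Phi_le _))] at h3
    obtain ⟨k, hk, e⟩ := (Nat.dvd_prime_pow Nat.prime_two).1 (Dvd.dvd.trans (dvd_mul_left _ _) h3)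
    have : k ≠ 0 := fun e' => h1 (relIndex_eq_one.1 (by rw [e, e', pow_zero]))
    obtain ⟨k, rfl⟩ := Nat.exists_eq_succ_of_ne_zero this
    rw [e, pow_succ, ← mul_assoc, sq] at h3
    exact (dvd_mul_right _ _).trans (Nat.dvd_of_mul_dvd_mul_right two_pos h3)
  have h3 : ∀ a ∈ _root_.commutator G, ∀ g, ⁅a, g⁆ ∈ Phi (frattini G) := fun a ha g => by
    rw [show ⁅a, g⁆ = a * (g * a⁻¹ * g⁻¹) by rw [commutatorElement_def]; group]
    by_cases e : a ∈ Phi (frattini G)
    · exact mul_mem e (hn.conj_mem _ (inv_mem e) g)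
    · exact mul_mem_two h2 (mem_sup_left ha) (mem_sup_left (Normal.conj_mem inferInstance _
        (inv_mem ha) g)) e fun e' => e (by simpa [mul_assoc] using inv_mem (hn.conj_mem _ e' g⁻¹))
  have h4 : ∀ a, a ∈ (centralizer {QuotientGroup.mk' (Phi (frattini G)) g}).comap
      (QuotientGroup.mk' _) ↔ ⁅a, g⁆ ∈ Phi (frattini G) := fun a => by
    rw [mem_comap, mem_centralizer_singleton_iff, ← commutatorElement_eq_one_iff_mul_comm,
      ← map_commutatorElement, QuotientGroup.mk'_apply, QuotientGroup.eq_one_iff]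
  refine (h4 a).1 (sup_le (zpowers_le.2 ((h4 _).2 ?_)) (fun a ha => (h4 a).2 (h3 a ha g))
    (le_sq hG h hm ha))
  rw [show ⁅x ^ 2, g⁆ = ⁅⁅x, g⁆, x⁆⁻¹ * ⁅x, g⁆ ^ 2 by
    simp only [sq, commutatorElement_def, mul_inv_rev, inv_inv, mul_assoc, inv_mul_cancel_left,
      mul_inv_cancel_left]]
  exact mul_mem (inv_mem (h3 _ (comm_mem _ _) x)) (pow_mem_Phi hP (hA (comm_mem _ _)))

theorem four {H : Subgroup G} (hH : H ≤ frattini G) {a b : G} (ha : a ∈ H) (hb : b ∈ H) :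
    ∃ c ∈ H, ⁅a, b⁆ = c ^ 4 := by
  obtain ⟨M, hM, hi⟩ : ∃ M, M = frattini G ⊔ zpowers x ∧ M.index = 2 := ⟨_, rfl, idx2 hG h hm⟩
  have hx : x ∈ M := hM ▸ mem_sup_right (mem_zpowers x)
  have hP : frattini G ≤ M := hM ▸ le_sup_left
  obtain ⟨α, β, hn, ht⟩ := H71.isMetacyclic_iff.1 (h.meta_of_mem hG hm hi hx)
  have dec : ∀ g : M, ∃ i j : ℤ, α ^ i * β ^ j = g := fun g => by
    obtain ⟨_, ⟨i, rfl⟩, _, ⟨j, rfl⟩, e⟩ := mem_sup_of_normal_left.1 (ht.ge (mem_top g))
    exact ⟨i, j, e⟩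
  have cj : ∀ g : M, ∃ r : ℤ, α ^ r = g * α * g⁻¹ := fun g => hn.conj_mem _ (mem_zpowers α) g
  obtain ⟨c, hc, e⟩ := four_aux ht (H := H.subgroupOf M) (fun p hp => by
    replace hp : (p : G) ∈ frattini G := hH hp
    by_cases hα : (α : G) ∈ frattini G
    · let T : Submonoid M :=
        { carrier := {p | ∃ k : ℤ, p * α * p⁻¹ = α ^ (1 + 4 * k)}
          one_mem' := ⟨0, by simp⟩
          mul_mem' := fun {p q} ⟨k, a⟩ ⟨l, b⟩ => ⟨k + l + 4 * k * l, by
            rw [show p * q * α * (p * q)⁻¹ = p * (q * α * q⁻¹) * p⁻¹ by group, b, ← conj_zpow, a]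
            group⟩ }
      obtain ⟨i, j, rfl⟩ := dec p
      obtain ⟨j, rfl⟩ : Even j := Int.not_odd_iff_even.1 fun hj => by
        have hβ : (β : G) ∈ frattini G :=
          mem_of_odd hG hj ((mul_mem_cancel_left (zpow_mem hα i)).1 hp)
        obtain ⟨i, j, e⟩ := dec ⟨x, hx⟩
        exact xP hG h hm ((show (α : G) ^ i * (β : G) ^ j = x from congrArg Subtype.val e) ▸
          mul_mem (zpow_mem hα i) (zpow_mem hβ j))
      have hT : β ^ 2 ∈ T := by
        obtain ⟨r, hr⟩ := cj β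
        obtain ⟨r, rfl | rfl⟩ := Int.even_or_odd' r
        · obtain ⟨m, e⟩ := cj β⁻¹
          have : α ∈ (⊥ : Subgroup M) :=
            mem_of_odd (hG.to_subgroup M) (s := 2 * r * m - 1) ⟨r * m - 1, by ring⟩ (by
              rw [mem_bot, zpow_sub_one, zpow_mul, hr, conj_zpow, e]; group)
          exact ⟨0, by simp [mem_bot.1 this]⟩
        · exact ⟨r * r + r, by
            rw [show β ^ 2 * α * (β ^ 2)⁻¹ = β * (β * α * β⁻¹) * β⁻¹ by rw [sq]; group, ← hr,
              ← conj_zpow, ← hr]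
            group⟩
      rw [zpow_add β, ← sq, sq_zpow]
      exact T.mul_mem ⟨0, by group⟩
        (Submonoid.powers_le.2 hT (mem_powers_iff_mem_zpowers.2 ⟨j, rfl⟩))
    · have h1 : (α : G) ^ 2 ∉ _root_.commutator G := fun e => sq_not hG h hm e
        (mul_mem_two (rel2 hG h hm hi hP) hx α.2 (xP hG h hm) hα)
      obtain ⟨r, hr⟩ := cj p
      have h2 : (α : G) ^ (r - 1) ∈ _root_.commutator G := by
        rw [zpow_sub_one, show (α : G) ^ r = p * α * (p : G)⁻¹ from congrArg Subtype.val hr]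
        exact comm_mem _ _
      obtain ⟨k, rfl | rfl | e⟩ : ∃ k, r = 1 + 4 * k ∨ r = 2 * (2 * k + 1) + 1 ∨ r - 1 = 2 * k + 1 :=
        ⟨if r % 2 = 0 then r / 2 - 1 else r / 4, by split_ifs <;> omega⟩
      · exact ⟨k, hr.symm⟩
      · refine (h1 (mem_of_odd hG ⟨k, rfl⟩ ?_)).elim
        rw [add_sub_cancel_right, zpow_mul] at h2
        exact_mod_cast h2
      · exact (h1 (pow_mem (mem_of_odd hG ⟨k, e⟩ h2) 2)).elim)
    (a := ⟨a, hP (hH ha)⟩) (b := ⟨b, hP (hH hb)⟩) ha hb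
  exact ⟨c, hc, congrArg Subtype.val e⟩

theorem aut : IsPGroup 2 (MulAut G) := by
  have := Fact.mk Nat.prime_two
  obtain ⟨Q, hQ, hQ'⟩ : ∃ Q : Subgroup G, Q ≠ ⊤ ∧ ¬ IsMetacyclic Q := by
    by_contra! e
    refine hm (H89.Sec4.isMetacyclic (fun K N hK => Nat.le_of_dvd (by norm_num) ?_) hG)
    by_cases hT : K = ⊤
    · subst hT
      rw [relIndex_top_right, ← idx hG h hm]
      refine index_dvd_of_le (H3.frattini_le_of_elementary_quotient Nat.prime_two
        (commutator_le.2 fun a _ b _ => ?_) fun a => hK a trivial)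
      rw [show ⁅a, b⁆ = (a * b) ^ 2 * (b⁻¹ * a⁻¹ * b) ^ 2 * b⁻¹ ^ 2 by
        simp only [sq, commutatorElement_def]; group]
      exact mul_mem (mul_mem (hK _ trivial) (hK _ trivial)) (hK _ trivial)
    · exact rel4 (e K hT) hK
  obtain ⟨N, hN, hle⟩ := (eq_top_or_exists_le_coatom Q).resolve_left hQ
  have hi := H8.index_eq_of_coatom_of_isPGroup hG hN
  have k : ∀ N : Subgroup G, N.index = 2 → ¬ IsMetacyclic N → ∀ i j : ℤ,
      x ^ i * y ^ j ∈ N ↔ (Even i ↔ Even j) := fun N a b i j => by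
    rw [mul_mem_iff_of_index_two a, zpow_mem_iff a fun e => b (h.meta_of_mem hG hm a e),
      zpow_mem_iff a fun e => b (h.symm.meta_of_mem hG hm a e)]
  have hN' : ¬ IsMetacyclic N := fun e => hQ' (H71.isMetacyclic_of_le e hle)
  have : N.Characteristic := characteristic_iff_comap_eq.2 fun φ => Subgroup.ext fun g => by
    obtain ⟨i, j, rfl⟩ := h g
    rw [k N hi hN', k _ ((index_comap_of_surjective _ φ.surjective).trans hi) fun e => hN'
      (map_comap_eq_self_of_surjective (f := φ.toMonoidHom) φ.surjective N ▸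
        H71.isMetacyclic_map e φ.toMonoidHom)]
  exact H97.isPGroup_mulAut_of_char_index_two hG (by rw [idx hG h hm]; rfl) hi

omit hG h hm in
theorem str : StrStmt.{u} := by
  intro G _ _ hG x y h hm
  have := Fact.mk Nat.prime_two
  have hi := idx2 hG h hm
  have hM := h.meta_of_mem hG hm hi (mem_sup_right (mem_zpowers x))
  refine ⟨hG, hm, aut hG h hm, fun a ha b hb => ?_, idx hG h hm, fun g g' h1 h2 h3 => ?_,
    xP hG h hm, fun g => sq_not hG h hm, ?_, fun g => memP hG h hm, fun a ha => triv hG h hm ha,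
    fun H hH a ha b hb => four hG h hm hH ha hb, fun E hE h2 => not_lt.1 fun h3 =>
      not_meta h3 h2 (H71.isMetacyclic_of_le hM (hE.trans le_sup_left)), ⟨_, hi, hM⟩, fun H => ?_⟩
  · have h1 := S0572.result (zpowers x) (zpowers y) fun g =>
      let ⟨i, j, e⟩ := h g; ⟨_, ⟨i, rfl⟩, _, ⟨j, rfl⟩, e⟩
    exact commutatorElement_eq_one_iff_commute.1
      (mem_bot.1 (h1.le (commutator_mem_commutator ha hb)))
  · by_contra e
    obtain ⟨N, hN, hle⟩ := (eq_top_or_exists_le_coatom _).resolve_left e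
    exact h3 (mul_mem_two (rel2 hG h hm (H8.index_eq_of_coatom_of_isPGroup hG hN)
      (frattini_le_coatom hN)) (hle (subset_closure (by simp))) (hle (subset_closure (by simp)))
      h1 h2)
  · obtain ⟨s, t, hs, -, e⟩ := h.exists_sq hG hm
    exact ⟨_, fun e' => Int.not_even_iff_odd.2 hs ((mem_iff hG h hm s t).1 e').1, e⟩
  · have hn := normal_of_index_eq_two hi
    have h1 : Phi H ≤ (frattini G ⊔ zpowers x) ⊓ H := le_inf (Phi_le_of' (p := 2)
      ((commutator_mono le_top le_top).trans ((H3.commutator_le_frattini hG).trans le_sup_left))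
      fun g _ => mem_sup_left (H3.pow_mem_frattini hG g)) (Phi_le H)
    rw [← relIndex_mul_relIndex _ _ _ h1 inf_le_right, pow_succ, inf_relIndex_right]
    exact mul_dvd_mul (rel4 (H71.isMetacyclic_of_le hM inf_le_left) fun g hg =>
      pow_mem_Phi (hG.to_subgroup H) hg.2) (hi ▸ relIndex_dvd_index_of_normal _ _)

end Cfsg.Agent.H58.BcStr
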