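import Cfsg.Agent.H58.DegC
import Cfsg.Agent.H13.M12Rec
import Cfsg.Agent.H13.M11Iso

/-! Simple groups of order dividing `95040` and divisible by `11`; degrees of `M₁₂`. -/

namespace Cfsg.Agent.H58.DG

open Cfsg Cfsg.Agent.H24 Cfsg.Agent.H13 Cfsg.Agent.H13.BrTools Cfsg.Agent.H13.ChTools MulAction

def certs11 : List (ℕ × ℕ × Cert) := [
  (11, 3, .bur 11 1 2 0), (22, 4, .bur 2 1 11 1), (33, 5, .bur 3 1 11 1), (44, 6, .bur 2 2 11 1),
  (55, 7, .bur 5 1 11 1), (66, 8, .syl 11 1), (88, 9, .bur 2 3 11 1), (99, 9, .bur 3 2 11 1),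
  (110, 10, .syl 11 1), (132, 11, .br 11 []), (165, 12, .syl 11 1), (176, 13, .bur 2 4 11 1),
  (198, 14, .syl 11 1), (220, 14, .syl 11 1), (264, 16, .br 11 []), (297, 17, .bur 3 3 11 1),
  (330, 18, .syl 11 1), (352, 18, .bur 2 5 11 1), (396, 19, .br 11 []), (440, 20, .syl 11 1),
  (495, 22, .br 11 []), (528, 22, .br 11 []), (594, 24, .syl 11 1), (660, 25, .exc),
  (704, 26, .bur 2 6 11 1), (792, 28, .br 11 []), (880, 29, .syl 11 1), (990, 31, .br 5 []),
  (1056, 32, .br 11 []), (1188, 34, .br 11 []), (1320, 36, .br 11 []), (1485, 38, .br 11 []),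
  (1584, 39, .br 11 []), (1760, 41, .syl 11 1), (1980, 44, .br 11 []), (2112, 45, .br 11 []),
  (2376, 48, .br 11 []), (2640, 51, .br 11 []), (2970, 54, .br 11 []), (3168, 56, .br 11 []),
  (3520, 59, .br 11 []), (3960, 62, .br 11 []), (4752, 68, .br 11 []), (5280, 72, .br 11 []),
  (5940, 77, .br 11 []), (6336, 79, .br 11 []), (7920, 88, .exc), (9504, 97, .br 11 []),
  (10560, 102, .br 11 []), (11880, 108, .br 11 [(2, 3), (3, 3), (5, 1)]), (15840, 125, .exc),
  (19008, 137, .br 11 []), (23760, 154, .br 11 []), (31680, 177, .br 11 []), (47520, 217, .exc),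
  (95040, 308, .exc)]

theorem certs11_ok : (certs11.all fun x =>
    check [660, 7920, 15840, 47520, 95040] x.2.1 x.1 x.2.2) = true := by decide +kernel

theorem certs11_all : ∀ k ∈ Nat.divisors 8640, 11 * k ∈ certs11.map (·.1) := by decide +kernel

theorem t15840 : brTest 15840 11 [] 125 (fun n e v _ => n == 144 && e == 10 && v == 1) = true := by
  decide +kernel

theorem t47520 : brTest 47520 11 [] 217 (fun n e v _ => n == 144 && e == 10 && v == 3) = true := by
  decide +kernel

theorem degs15840 : ∀ d ∈ List.range 126, d ∣ 1440 → (d % 11 = 1 ∨ d % 11 = 10) →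
    d = 1 ∨ d = 12 ∨ d = 32 ∨ 5 ∣ d := by decide +kernel

section
variable {G : Type*} [Group G] [Fintype G]

/-- The value at an involution inverting `P` is bounded by the dimension of the fixed space. -/
theorem invol_val {P : Subgroup G} {s : G} (hs : s * s = 1) (hsP : s ∉ P)
    (hinv : ∀ x ∈ P, s * x * s = x⁻¹) (hsq : ∀ x ∈ P, ∃ w ∈ P, w * w = x) {χ : G → ℂ}
    (hχ : IsCharacter G χ) : ∃ k ≤ fixDim P χ, χ s = 2 * k - fixDim P χ := by
  have hs' : s⁻¹ = s := inv_eq_of_mul_eq_one_right hs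
  have hc : ∀ x ∈ P, s * x * s ∈ P := fun x hx => hinv x hx ▸ P.inv_mem hx
  let D : Subgroup G :=
    { carrier := {g | g ∈ P ∨ g * s ∈ P}
      one_mem' := Or.inl P.one_mem
      mul_mem' := by
        rintro a b (ha | ha) (hb | hb)
        · exact Or.inl (P.mul_mem ha hb)
        · exact Or.inr (by rw [mul_assoc]; exact P.mul_mem ha hb)
        · refine Or.inr ?_
          have : a * b * s = a * s * (s * b * s) := by
            rw [← mul_assoc, ← mul_assoc, mul_assoc a s s, hs, mul_one]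
          rw [this]
          exact P.mul_mem ha (hc b hb)
        · refine Or.inl ?_
          have : a * b = a * s * (s * (b * s) * s) := by
            rw [mul_assoc s, mul_assoc b, hs, mul_one, ← mul_assoc, mul_assoc a s s, hs, mul_one]
          rw [this]
          exact P.mul_mem ha (hc _ hb)
      inv_mem' := by
        rintro a (ha | ha)
        · exact Or.inl (P.inv_mem ha)
        · refine Or.inr ?_
          have : a⁻¹ * s = (s * (a * s) * s)⁻¹ := by
            rw [mul_assoc s, mul_assoc a, hs, mul_one, mul_inv_rev, hs']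
          rw [this]
          exact P.inv_mem (hc _ ha) }
  have hPD : P ≤ D := fun x hx => Or.inl hx
  have hi : P.relIndex D = 2 := by
    rw [Subgroup.relIndex_eq_two_iff]
    refine ⟨s, Or.inr (hs ▸ P.one_mem), fun b hb => ?_⟩
    by_cases h : b ∈ P
    · exact Or.inr ⟨h, fun h' => hsP ((P.mul_mem_cancel_left h).1 h')⟩
    · exact Or.inl ⟨hb.resolve_left h, h⟩
  have hcard : Nat.card D = 2 * Nat.card P := by
    have := (P.subgroupOf D).card_mul_index
    rw [Nat.card_congr (Subgroup.subgroupOfEquivOfLe hPD).toEquiv] at this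
    rw [← this, mul_comm]
    exact congrArg (· * _) hi
  have h1 := sumOn_of_le hPD (f := χ) (c := χ s) fun g hg hgP => by
    obtain ⟨w, hw, he⟩ := hsq _ (hg.resolve_left hgP)
    have h2 : g = w * s * w⁻¹ := by
      rw [← hinv w hw, ← mul_assoc, ← mul_assoc, mul_assoc w s s, hs, mul_one, he, mul_assoc, hs,
        mul_one]
    rw [h2]
    exact H11.isClassFunction_of_isCharacter hχ _ _
  rw [← card_mul_fixDim D hχ, ← card_mul_fixDim P hχ, hcard] at h1
  refine ⟨_, fixDim_anti hPD hχ, ?_⟩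
  have h0 : (Nat.card P : ℂ) ≠ 0 := Nat.cast_ne_zero.2 Nat.card_pos.ne'
  refine mul_left_cancel₀ h0 ?_
  push_cast at h1
  linear_combination -h1

variable [IsSimpleGroup G]

theorem card_ne_15840 (hG' : ¬ IsMulCommutative G) : Nat.card G ≠ 15840 := by
  classical
  intro hG
  have : Fact (Nat.Prime 11) := ⟨by norm_num⟩
  have : Fact (Nat.Prime 5) := ⟨by norm_num⟩
  obtain ⟨P⟩ : Nonempty (Sylow 11 G) := inferInstance
  obtain ⟨hP, e, t, v, D, l, he, -, het, hv, -, h⟩ := brTest_sound hG' hG t15840 P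
  have h1 := relIndex_mul_card_centralizer (P : Subgroup G)
  have hi := index_centralizer_sylow P
  rw [he, hv] at h1
  rw [he] at hi
  simp only [Bool.and_eq_true, beq_iff_eq] at h
  obtain ⟨⟨hn, rfl⟩, rfl⟩ := h
  obtain rfl : t = 1 := by omega
  rw [hn] at hi
  have hS := selfCent_of_card_centralizer P hP hv.le
  obtain ⟨s, hs, hs1⟩ := exists_invol (H := Subgroup.normalizer ((P : Subgroup G) : Set G))
    (by rw [← h1]; norm_num)
  have hs' : (s : G) * s = 1 := congrArg Subtype.val hs
  have hs1' : (s : G) ≠ 1 := fun h => hs1 (Subtype.ext h)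
  have hos : orderOf (s : G) = 2 := orderOf_invol hs' hs1'
  have h2 := hS.card_inf_centralizer (by norm_num) P hs' hs1' s.2
  obtain ⟨x, hx⟩ := exists_prime_orderOf_dvd_card'
    (G := ↥(Subgroup.normalizer ((P : Subgroup G) : Set G) ⊓ Subgroup.centralizer {(s : G)})) 5
    (by rw [← h1] at h2; exact ⟨2, by omega⟩)
  have hox : orderOf (x : G) = 5 := by rw [Subgroup.orderOf_coe, hx]
  have hxs : Commute (x : G) s := (Subgroup.mem_centralizer_iff.1 x.2.2 s rfl).symm
  have hperf := H58.commutator_eq_top hG'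
  have key : ∀ χ ∈ all D.toBrPre, χ ≠ H21.triv G → ∃ a : ℤ, χ.1 s = 5 * a := by
    intro χ hχ hχ1
    obtain ⟨b, hb⟩ := H15.exists_int_apply_of_orderOf_eq_two (H11.irr_isCharacter χ) hos
    have hd : charDegree χ.1 ∣ 1440 := by
      rcases (mem_all _).1 hχ with h | h
      · exact (D.degX_dvd hP h).trans hi.dvd
      · rw [D.degY χ h]; exact (D.z_dvd hP one_pos).trans hi.dvd
    have hm := sgn1_mod D.toBrPre hP hχ
    have hpm := sgn1_pm D.toBrPre χ
    have hle : charDegree χ.1 < 126 := by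
      have := charDegree_sq_le χ
      rw [hG] at this
      nlinarith
    suffices (5 : ℤ) ∣ b by
      obtain ⟨a, rfl⟩ := this
      exact ⟨a, by rw [hb]; push_cast; rfl⟩
    rcases degs15840 _ (List.mem_range.2 hle) hd (by omega) with h | h | h | h
    · exact absurd (eq_triv_of_deg_one hperf h) hχ1
    · obtain ⟨k, hk, hk'⟩ := invol_val (P := P) hs'
        (fun h => hs1' (hS.eq_one_of_inv_eq (by norm_num) P h hs'))
        (fun x hx => hS.invol_inverts (by norm_num) P hs' hs1' s.2 hx)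
        (fun x hx => hS.exists_sq_eq (by norm_num) P hx) (H11.irr_isCharacter χ)
      have h3 := card_mul_fixDim (P : Subgroup G) (H11.irr_isCharacter χ)
      rw [sumOn_of_const (c := (sgn1 D.toBrPre χ : ℤ))
        (fun x hx hx1 => sgn1_val D.toBrPre hχ hx hx1), hP, ← H21.cast_deg χ, h] at h3
      have h4 : (11 : ℤ) * fixDim P χ.1 = 12 + 10 * sgn1 D.toBrPre χ := by
        have : ((11 * fixDim P χ.1 : ℤ) : ℂ) = ((12 + 10 * sgn1 D.toBrPre χ : ℤ) : ℂ) := by
          push_cast at h3 ⊢
          linear_combination h3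
        exact_mod_cast this
      have h5 := four_dvd hperf χ hos hb
      have h6 : b = 2 * k - fixDim P χ.1 := by exact_mod_cast hb.symm.trans hk'
      rw [h] at h5
      omega
    · have := vanish_of_not_dvd χ (r := 2) (c := 495) (by norm_num) (by rw [hG, h]) (by norm_num)
        hos.symm.dvd
      rw [hb] at this
      obtain rfl : b = 0 := by exact_mod_cast this
      simp
    · obtain ⟨c, hc⟩ := deg_dvd_card χ.2
      have h3 := vanish_of_not_dvd χ (r := 5) (by norm_num) hc (fun h' => by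
          have := mul_dvd_mul h h'
          rw [← hc, hG] at this
          norm_num at this) (g := x * s) (by
        rw [hxs.orderOf_mul_eq_mul_orderOf_of_coprime (by rw [hox, hos]; norm_num), hox]
        exact dvd_mul_right _ _)
      have h4 := int_cong (p := 5) (by norm_num) (H11.irr_isCharacter χ) (k := 1)
        (by rw [pow_one, ← hox, pow_orderOf_eq_one]) hxs (a := 0) (by simpa using h3) hb
      simpa using h4
  choose! a ha using key
  have h3 := sgn1_rel D.toBrPre (g := s) (by rw [hos]; norm_num)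
  have ht : H21.triv G ∈ all D.toBrPre := (mem_all _).2 (Or.inl D.triv_mem)
  rw [← Finset.add_sum_erase _ _ ht, Finset.sum_congr rfl fun χ hχ => by
    rw [ha χ (Finset.mem_of_mem_erase hχ) (Finset.ne_of_mem_erase hχ)], H21.triv_apply] at h3
  have h4 : sgn1 D.toBrPre (H21.triv G) * 1 +
      ∑ χ ∈ (all D.toBrPre).erase (H21.triv G), sgn1 D.toBrPre χ * (5 * a χ) = 0 := by
    exact_mod_cast h3
  have h5 : (5 : ℤ) ∣ ∑ χ ∈ (all D.toBrPre).erase (H21.triv G), sgn1 D.toBrPre χ * (5 * a χ) :=
    Finset.dvd_sum fun χ _ => (dvd_mul_right 5 _).mul_left _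
  have h6 := sgn1_pm D.toBrPre (H21.triv G)
  omega

theorem card_ne_47520 (hG' : ¬ IsMulCommutative G) : Nat.card G ≠ 47520 := by
  intro hG
  have : Fact (Nat.Prime 11) := ⟨by norm_num⟩
  obtain ⟨P⟩ : Nonempty (Sylow 11 G) := inferInstance
  obtain ⟨hP, e, t, v, D, l, he, -, het, hv, -, h⟩ := brTest_sound hG' hG t47520 P
  have h1 := relIndex_mul_card_centralizer (P : Subgroup G)
  rw [he, hv] at h1
  simp only [Bool.and_eq_true, beq_iff_eq] at h
  obtain ⟨⟨hn, rfl⟩, rfl⟩ := h
  obtain ⟨U, hU, hUC, hNU⟩ := exists_char_sub hP (r := 3) (a := 1) (m := 1) (by norm_num)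
    (hv.trans (by norm_num)) (by norm_num) (fun k hk _ => Nat.dvd_one.1 hk)
  have : Fact (Nat.Prime 3) := ⟨by norm_num⟩
  have h9 := Sylow.prime_pow_dvd_card_normalizer (by rw [hG]; norm_num) hU
  obtain ⟨n, hn1, hn2⟩ := sylow_count_sub P (Subgroup.le_normalizer.trans hNU)
  rw [inf_eq_left.2 hNU, ← h1] at hn2
  have hne := normalizer_ne_top (H := U) (by rintro rfl; simp at hU)
    (by rintro rfl; rw [Subgroup.card_top, hG] at hU; norm_num at hU)
  have h3 := (Subgroup.normalizer (U : Set G)).card_mul_index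
  obtain ⟨g, hg⟩ := M11.exists_orderOf_mul (r := 3) (by norm_num) (by norm_num) hP
    (by rw [hv]; norm_num)
  have h4 := add_le_index hne (by norm_num) (by norm_num) (by norm_num) hg
  rw [← hn2, hG] at h3
  rw [← hn2] at h9
  generalize (Subgroup.normalizer (U : Set G)).index = i at *
  have h5 : n * i = 144 := by nlinarith
  have h6 : n ≤ 10 := by nlinarith
  interval_cases n <;> omega

theorem orders11 (hG : ¬ IsMulCommutative G) (h1 : 11 ∣ Nat.card G) (h2 : Nat.card G ∣ 95040) :
    Nat.card G = 660 ∨ Nat.card G = 7920 ∨ Nat.card G = 95040 := by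
  obtain ⟨k, hk⟩ := h1
  have h3 : k ∣ 8640 := Nat.dvd_of_mul_dvd_mul_left (by norm_num : 0 < 11) (hk ▸ h2)
  obtain ⟨x, hx, hx'⟩ := List.mem_map.1 (certs11_all k (Nat.mem_divisors.2 ⟨h3, by norm_num⟩))
  have h4 := check_sound hG (hk.trans hx'.symm) (List.all_eq_true.1 certs11_ok x hx)
  rw [hx', ← hk] at h4
  have h5 := card_ne_15840 hG
  have h6 := card_ne_47520 hG
  simp only [List.mem_cons, List.not_mem_nil, or_false] at h4
  omega

theorem cd_M12 (hG : Nat.card G = 95040) :
    55 ∈ charDegrees G ∧ ∃ d ∈ charDegrees G, 33 ∣ d := by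
  classical
  obtain ⟨S⟩ := M12.nonempty_S2 hG
  constructor
  · obtain ⟨χ, -, -, h, -, hfs, -⟩ := S.exists_pair hG
    refine mem_cd.2 ⟨_, S.alt_irr hG h hfs, deg_eq ?_⟩
    rw [mul_one, ← H21.cast_deg χ, h]
    norm_num
  by_contra hn
  push Not at hn
  have h1 := S.rel_B (g := 1) (by simp)
  have h2 : ∑ ψ ∈ S.B, S.u ψ * charDegree ψ.1 = 0 := by
    simp only [← H21.cast_deg] at h1
    exact_mod_cast h1
  rw [← Finset.add_sum_erase _ _ S.triv_B, S.u_triv, H21.triv_coe, H21.charDegree_one] at h2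
  have h3 : (2 : ℤ) ∣ ∑ ψ ∈ S.B.erase (H21.triv G), S.u ψ * charDegree ψ.1 := by
    refine Finset.dvd_sum fun ψ hψ => Dvd.dvd.mul_left ?_ _
    have hB := Finset.mem_of_mem_erase hψ
    have hu := S.u_B hB
    have h5 : ¬ 5 ∣ charDegree ψ.1 := fun h => by have := S.u_zero hG h; omega
    have h11 : charDegree ψ.1 ≠ 11 := fun h => S.not_B11 hG h hB
    have h33 := hn _ ⟨ψ, rfl⟩
    rcases S.cases' hG ψ with h | h | h | h | h | h | h
    · exact absurd h.1 (Finset.ne_of_mem_erase hψ)
    · omega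
    · omega
    · omega
    · omega
    · omega
    · obtain ⟨k, hk⟩ := h
      have h6 : k ∣ 8640 := Nat.dvd_of_mul_dvd_mul_left (by norm_num : 0 < 11)
        (hk ▸ (deg_dvd_card ψ.2).trans hG.dvd)
      by_contra h7
      have h8 : k.Coprime 8640 := by
        rw [show 8640 = 2 ^ 6 * 3 ^ 3 * 5 ^ 1 by norm_num]
        refine Nat.Coprime.mul_right (Nat.Coprime.mul_right ?_ ?_) ?_ <;>
          refine Nat.Coprime.pow_right _
            ((Nat.Prime.coprime_iff_not_dvd (by norm_num)).2 (by omega)).symm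
      have := Nat.Coprime.eq_one_of_dvd h8 h6
      omega
  omega

end

end Cfsg.Agent.H58.DG
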