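import Mathlib
import Cfsg.Agent.H71.FSDefs

/-!
# Project FS2, piece P3: the Clifford step over a linear constituent
-/

set_option autoImplicit false

namespace Cfsg.Agent.H58.FsP3

open Cfsg Subgroup H23 H71.FS2
open scoped ComplexConjugate

universe u

section Res

variable {H H' : Type*} [Group H] [Group H'] [Finite H]

/-- Restriction along `f` stays irreducible when `H = Z(χ) · f(H')`. -/
theorem irr_comp_of_charCenter {χ : H → ℂ} (hχ : IsIrrCharacter H χ) (f : H' →* H)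
    (hf : ∀ h : H, ∃ z ∈ H11.charCenter χ, ∃ x, h = z * f x) :
    IsIrrCharacter H' (fun x => χ (f x)) := by
  obtain ⟨n, ρ, hρ, rfl⟩ := hχ
  refine ⟨n, ρ.comp f, ?_, rfl⟩
  rw [H11.isIrreducible_iff] at hρ ⊢
  refine ⟨hρ.1, fun W hW => hρ.2 W fun g v hv => ?_⟩
  obtain ⟨z, hz, x, rfl⟩ := hf g
  obtain ⟨ω, hω⟩ := (H11.mem_charCenter_character_iff ρ).1 hz
  rw [map_mul, Module.End.mul_apply, hω, LinearMap.smul_apply, LinearMap.id_apply]
  exact W.smul_mem _ (hW x v hv)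

end Res

variable {G : Type u} [Group G]

theorem units_sq (e : ℤˣ) : ((e : ℤ)) * e = 1 := by
  rw [← Units.val_mul, Int.units_mul_self, Units.val_one]

/-- The twisted stabiliser of a linear character inside `K ≤ N(A)`. -/
def tsub (π : G →* ℤˣ) (A K : Subgroup G) (hK : K ≤ normalizer (A : Set G)) (lam : A →* ℂˣ) :
    Subgroup G where
  carrier := {k | k ∈ K ∧ TS π A lam k}
  one_mem' := ⟨one_mem _, fun a a' e => by
    rw [show a' = a from Subtype.ext (by simpa using e)]; simp⟩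
  mul_mem' := by
    rintro k l ⟨hk, tk⟩ ⟨hl, tl⟩
    refine ⟨mul_mem hk hl, fun a a' e => ?_⟩
    have h1 := tl a ⟨l * a * l⁻¹, H4.conj_mem_of_mem_normalizer (hK hl) a.2⟩ rfl
    have h2 := tk ⟨l * a * l⁻¹, H4.conj_mem_of_mem_normalizer (hK hl) a.2⟩ a' (by
      rw [e]; simp [mul_assoc])
    rw [h2, h1, ← zpow_mul, map_mul, Units.val_mul, mul_comm]
  inv_mem' := by
    rintro k ⟨hk, tk⟩
    refine ⟨inv_mem hk, fun a a' e => ?_⟩
    have h1 := tk a' a (by rw [e]; simp [mul_assoc])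
    rw [map_inv, Int.units_inv_eq_self, h1, ← zpow_mul, units_sq, zpow_one]

theorem mem_tsub {π : G →* ℤˣ} {A K : Subgroup G} {hK : K ≤ normalizer (A : Set G)}
    {lam : A →* ℂˣ} {k : G} : k ∈ tsub π A K hK lam ↔ k ∈ K ∧ TS π A lam k := Iff.rfl

theorem ts_of_mem {π : G →* ℤˣ} {A : Subgroup G} (lam : A →* ℂˣ) {a : G} (ha : a ∈ A)
    (h1 : π a = 1) : TS π A lam a := fun b b' e => by
  rw [show b' = ⟨a, ha⟩ * b * ⟨a, ha⟩⁻¹ from Subtype.ext (by simpa using e), h1, map_mul, map_mul,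
    map_inv, mul_comm (lam _) (lam b)]
  simp

variable [Finite G]

/-- The Clifford correspondent over the twisted stabiliser. -/
theorem exists_corr (h1 : C1.{u}) (h2 : C2.{u}) (π : G →* ℤˣ) {K A T : Subgroup G}
    (hA : A ≤ ev π K) (hK : K ≤ normalizer (A : Set G)) {ψ : IrrCharacter (ev π K)}
    {θ : IrrCharacter A} {lam : A →* ℂˣ} (hψ : eps π K ψ.1 = -1) (hm : mult hA ψ θ ≠ 0)
    (hθ : ∀ a, θ.1 a = lam a) (hT : ∀ k, k ∈ T ↔ k ∈ K ∧ TS π A lam k) (hAT : A ≤ ev π T) :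
    HasOdd π T ∧ ∃ χ : IrrCharacter (ev π T), SC π T χ.1 ∧ eps π T χ.1 = -1 ∧
      mult hAT χ θ ≠ 0 := by
  have hTK : T ≤ K := fun k hk => ((hT k).1 hk).1
  obtain ⟨⟨γ, hγ, ho⟩, hs⟩ := (h1 π K ψ).2.1 (by rw [hψ]; norm_num)
  have hst : invStab A θ.1 ⊓ ev π K ≤ ev π T := by
    rintro x ⟨⟨-, hx⟩, hxK, hx1⟩
    refine ⟨(hT x).2 ⟨hxK, fun a a' e => ?_⟩, hx1⟩
    have hx1' : π x = 1 := hx1
    rw [hx1', Units.val_one, zpow_one]
    exact Units.ext (by rw [← hθ, ← hθ]; exact hx a a' e)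
  have hKn : ev π K ≤ normalizer (A : Set G) := (ev_le π K).trans hK
  -- an odd element of `T`
  have htw : ∀ {δ : G} (hδ : δ ∈ K) (φ : IrrCharacter (ev π K)),
      mult hA (tw π hδ φ) (bar (cj A ⟨δ, hK hδ⟩ θ)) = mult hA φ θ := fun hδ φ => by
    rw [tw, mult_bar, mult_cj]
  have hm' : mult hA ψ (bar (cj A ⟨γ, hK hγ⟩ θ)) ≠ 0 := by
    rw [← (sc_iff_tw hγ ho ψ).1 hs, htw hγ ψ]; exact hm
  obtain ⟨g, hg⟩ := exists_cj_eq_of_mult_ne_zero hA hKn hm' hm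
  have hδK : (g : G) * γ ∈ K := mul_mem g.2.1 hγ
  have hδo : π ((g : G) * γ) = -1 := by
    rw [map_mul, show π g = 1 from g.2.2, one_mul, ho]
  have hfix : bar (cj A ⟨g * γ, hK hδK⟩ θ) = θ := by
    rw [cj_bar, ← cj_mul] at hg
    exact hg
  have hδT : (g : G) * γ ∈ T := by
    refine (hT _).2 ⟨hδK, fun a a' e => Units.ext ?_⟩
    have := congrFun (congrArg Subtype.val hfix) a'
    rw [bar_apply, cj_apply_of_eq _ θ e, ← H12.IsCharacter_inv (H11.irr_isCharacter θ), hθ,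
      hθ] at this
    rw [← this, hδo, map_inv]
    simp
  obtain ⟨χ, c1, c2⟩ := exists_between hAT (ev_mono hTK) (χ := ψ) (ξ := θ) hm
  have e1 := (clifford_aux hAT (ev_mono hTK) hKn hst c2 c1).1
  have hsc : SC π T χ.1 := by
    refine (sc_iff_tw hδT hδo χ).2 (clifford_unique_under hAT (ev_mono hTK) hKn hst c2 c1 ?_ ?_)
    · rw [← hfix, tw, mult_bar, mult_cj]; exact c2
    · rw [← (sc_iff_tw hδK hδo ψ).1 hs, mult_tw hTK hδT]; exact c1
  exact ⟨⟨_, hδT, hδo⟩, χ, hsc,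
    (h2 π hTK ψ χ ⟨_, hδT, hδo⟩ hs hsc (by rw [e1]; exact odd_one)).symm.trans hψ, c2⟩

theorem pb' (h1 : C1.{u}) (h2 : C2.{u}) : PB'.{u} := by
  intro G _ _ π K A L M hA hK hL hfac ψ θ lam hψ hm hθ hM hNB
  set T := tsub π A K hK lam with hTdef
  have hAT : A ≤ ev π T := fun a ha =>
    ⟨⟨(hA ha).1, ts_of_mem lam ha (hA ha).2⟩, (hA ha).2⟩
  obtain ⟨⟨δ, hδ, ho⟩, χ, hsc, he, c2⟩ :=
    exists_corr h1 h2 π hA hK hψ hm hθ (T := T) (fun _ => mem_tsub) hAT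
  have hMT : M ≤ T := fun l hl => ⟨hL ((hM l).1 hl).1, ((hM l).1 hl).2⟩
  have hdec : ∀ k ∈ T, ∃ a ∈ A, ∃ l ∈ M, k = a * l ∧ π l = π k := fun k hk => by
    obtain ⟨a, ha, l, hl, e⟩ := hfac k hk.1
    have hlT : l ∈ T := by
      rw [show l = a⁻¹ * k by rw [e]; simp]
      exact mul_mem (inv_mem (hAT ha).1) hk
    exact ⟨a, ha, l, (hM l).2 ⟨hl, hlT.2⟩, e, by
      rw [e, map_mul, show π a = 1 from (hA ha).2, one_mul]⟩
  have hodd : HasOdd π M := by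
    obtain ⟨a, -, l, hl, -, e⟩ := hdec δ hδ
    exact ⟨l, hl, e.trans ho⟩
  have hTn : ev π T ≤ normalizer (A : Set G) := fun x hx => hK hx.1.1
  have hinv : InvBy A (ev π T) θ.1 := fun s hs a a' e => by
    have := hs.1.2 a a' e
    rw [show π s = 1 from hs.2, Units.val_one, zpow_one] at this
    rw [hθ, hθ, this]
  have hcen : ∀ a (ha : a ∈ A), (⟨a, hAT ha⟩ : ev π T) ∈ H11.charCenter χ.1 := fun a ha => by
    rw [H11.mem_charCenter_iff (H11.irr_isCharacter χ)]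
    have e1 := res_eq_mult_smul hAT hTn c2 hinv ⟨a, ha⟩
    have e2 := res_eq_mult_smul hAT hTn c2 hinv 1
    have e3 : ‖((lam ⟨a, ha⟩ : ℂˣ) : ℂ)‖ = 1 := by
      haveI : NeZero (orderOf (⟨a, ha⟩ : A)) := ⟨(orderOf_pos _).ne'⟩
      exact Complex.norm_eq_one_of_mem_rootsOfUnity (n := orderOf (⟨a, ha⟩ : A))
        (by rw [mem_rootsOfUnity, ← map_pow, pow_orderOf_eq_one, map_one])
    rw [show (1 : ev π T) = ⟨((1 : A) : G), hAT (1 : A).2⟩ from rfl, e1, e2, norm_mul, norm_mul, hθ,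
      hθ, e3, map_one, Units.val_one, norm_one]
  have hirr : IsIrrCharacter (ev π M) (fun x => χ.1 (inclusion (ev_mono hMT) x)) := by
    refine irr_comp_of_charCenter χ.2 _ fun h => ?_
    obtain ⟨a, ha, l, hl, e, e'⟩ := hdec h h.2.1
    exact ⟨_, hcen a ha, ⟨l, hl, e'.trans h.2.2⟩, Subtype.ext e⟩
  let φ : IrrCharacter (ev π M) := ⟨_, hirr⟩
  have hφ : SC π M φ.1 := fun γ hγ hγo g g' e =>
    hsc γ (hMT hγ) hγo (inclusion (ev_mono hMT) g) (inclusion (ev_mono hMT) g') e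
  have hm1 : mult (ev_mono hMT) χ φ = 1 := mult_eq_one_of_res_eq _ fun _ => rfl
  exact hNB φ ((h2 π hMT χ φ hodd hsc hφ (by rw [hm1]; exact odd_one)).symm.trans he)

theorem pb (h : PB'.{u}) : PB.{u} := by
  intro G _ _ π K A L hA hK hL hfac hab hNB ψ hψ
  obtain ⟨θ, hm⟩ := exists_under hA ψ
  obtain ⟨lam, hl⟩ := H11.exists_monoidHom_of_apply_one_eq_one (H11.irr_isCharacter θ)
    (H11.irr_apply_one_of_comm (fun a b => Subtype.ext (hab a a.2 b b.2)) θ.2)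
  exact h π K A L (tsub π A L (hL.trans hK) lam) hA hK hL hfac ψ θ lam hψ hm
    (fun a => congrFun hl a) (fun _ => mem_tsub) (hNB lam _ fun _ => mem_tsub)

/-- Piece P3 of FS2. -/
theorem p3 (h1 : C1.{u}) (h2 : C2.{u}) : PB'.{u} ∧ PB.{u} := ⟨pb' h1 h2, pb (pb' h1 h2)⟩

end Cfsg.Agent.H58.FsP3
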