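import Cfsg.Agent.H58.LinM
import Cfsg.Agent.H12.Blichfeldt

/-! Eigenspace projections and first consequences for linear groups of degree at most `p - 2`. -/

namespace Cfsg.Agent.H58

open Cfsg Module
open scoped ComplexConjugate

set_option linter.unusedSectionVars false

universe v

variable {G : Type v} [Group G] {p : ℕ} [hp : Fact p.Prime]

section Proj

variable {V : Type*} [AddCommGroup V] [Module ℂ V] (ρ : G →* End ℂ V) {u : G}

/-- The projection onto an eigenspace of `u`. -/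
noncomputable def prj (u : G) (s : ZMod p) : End ℂ V :=
  (p : ℂ)⁻¹ • ∑ i : ZMod p, ee (-(s * i)) • ρ (upow u i)

theorem upow_mul_prj (hu : u ^ p = 1) (s j : ZMod p) :
    ρ (upow u j) * prj ρ u s = ee (s * j) • prj ρ u s := by
  simp only [prj, mul_smul_comm, Finset.mul_sum, ← map_mul, ← upow_add hu]
  rw [smul_comm, Finset.smul_sum (r := ee (s * j)), ← Equiv.sum_comp (Equiv.addLeft j)
    fun i => ee (s * j) • ee (-(s * i)) • ρ (upow u i)]
  congr 1
  refine Finset.sum_congr rfl fun i _ => ?_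
  rw [smul_smul, ← ee_add, Equiv.coe_addLeft]
  congr 2
  ring

theorem mul_prj (hu : u ^ p = 1) (s : ZMod p) : ρ u * prj ρ u s = ee s • prj ρ u s := by
  simpa [upow_one] using upow_mul_prj ρ hu s 1

theorem prj_mul_prj (hu : u ^ p = 1) (s : ZMod p) : prj ρ u s * prj ρ u s = prj ρ u s := by
  conv_lhs => rw [show prj ρ u s * prj ρ u s =
    ((p : ℂ)⁻¹ • ∑ i : ZMod p, ee (-(s * i)) • ρ (upow u i)) * prj ρ u s from rfl]
  simp only [smul_mul_assoc, Finset.sum_mul, upow_mul_prj ρ hu, smul_smul, ← ee_add,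
    neg_add_cancel, ee_zero, one_smul, Finset.sum_const, Finset.card_univ, ZMod.card]
  rw [← Nat.cast_smul_eq_nsmul ℂ, smul_smul, inv_mul_cancel₀ p_ne_zero, one_smul]

theorem commute_prj {g : G} (h : Commute u g) (s : ZMod p) : Commute (prj ρ u s) (ρ g) :=
  (Commute.sum_left _ _ _ fun i _ => (((commute_upow h i).map ρ).smul_left _)).smul_left _

theorem sum_prj (u : G) : ∑ s : ZMod p, prj ρ u s = 1 := by
  simp only [prj, ← Finset.smul_sum]
  rw [Finset.sum_comm]
  simp only [← Finset.sum_smul, show ∀ s i : ZMod p, -(s * i) = -i * s from fun _ _ => by ring,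
    sum_ee, neg_eq_zero, ite_smul, zero_smul, Finset.sum_ite_eq', Finset.mem_univ, if_true,
    upow_zero, map_one, smul_smul, inv_mul_cancel₀ (p_ne_zero (p := p)), one_smul]

variable [FiniteDimensional ℂ V]

theorem trace_prj_mul (u g : G) (s : ZMod p) : LinearMap.trace ℂ V (prj ρ u s * ρ g) =
    fco (fun i => Representation.character ρ (upow u i * g)) s := by
  simp only [prj, fco, smul_mul_assoc, Finset.sum_mul, ← map_mul, map_smul, map_sum, smul_eq_mul,
    Representation.character, mul_comm]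

theorem trace_eq_finrank {E : End ℂ V} (h : E * E = E) :
    LinearMap.trace ℂ V E = finrank ℂ (LinearMap.range E) :=
  (LinearMap.IsIdempotentElem.isProj_range E h).trace

theorem eq_zero_of_trace {E : End ℂ V} (h : E * E = E) (h0 : LinearMap.trace ℂ V E = 0) :
    E = 0 := by
  rw [trace_eq_finrank h, Nat.cast_eq_zero, Submodule.finrank_eq_zero] at h0
  exact LinearMap.range_eq_bot.1 h0

theorem finrank_range_prj [Finite G] (hu : u ^ p = 1) (s : ZMod p) :
    finrank ℂ (LinearMap.range (prj ρ u s)) = mu u (Representation.character ρ) s := by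
  have h1 := trace_prj_mul ρ u 1 s
  simp only [map_one, mul_one] at h1
  rw [trace_eq_finrank (prj_mul_prj ρ hu s),
    ← cast_mu (H11.isCharacter_character ρ) hu] at h1
  exact_mod_cast h1

end Proj

variable [Finite G]

theorem mu_add_mu_le {χ : G → ℂ} (hχ : IsIrrCharacter G χ) (hd : χ 1 ≠ 1) {y y' : G}
    (hy : y ^ p = 1) (hy' : y' ^ p = 1) (h : Subgroup.closure {y, y'} = ⊤) (s s' : ZMod p) :
    mu y χ s + mu y' χ s' ≤ charDegree χ := by
  obtain ⟨n, ρ, hρ, rfl⟩ := hχ
  rw [← finrank_range_prj ρ hy, ← finrank_range_prj ρ hy',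
    show charDegree ρ.character = finrank ℂ (Fin n → ℂ) from H21.charDegree_eq (by simp)]
  refine Submodule.finrank_add_finrank_le_of_disjoint (Submodule.disjoint_def.2 ?_)
  rintro _ ⟨v, rfl⟩ ⟨v', hv'⟩
  by_contra h0
  have h1 : ∀ g : G, ∀ w ∈ ℂ ∙ prj ρ y s v, ρ g w ∈ ℂ ∙ prj ρ y s v := fun g => by
    refine Subgroup.closure_induction_left (p := fun g _ => ∀ w ∈ ℂ ∙ prj ρ y s v,
      ρ g w ∈ ℂ ∙ prj ρ y s v) (by simp) (fun a ha b _ hb w hw => ?_) (fun a ha b _ hb w hw => ?_)
      (h ▸ Subgroup.mem_top g)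
    all_goals
      have h2 : ∀ j : ZMod p, ρ (upow a j) (prj ρ y s v) ∈ ℂ ∙ prj ρ y s v := fun j => by
        rcases ha with rfl | rfl
        · rw [← End.mul_apply, upow_mul_prj ρ hy]
          exact Submodule.smul_mem _ _ (Submodule.mem_span_singleton_self _)
        · rw [← hv', ← End.mul_apply, upow_mul_prj ρ hy']
          exact Submodule.smul_mem _ _ (Submodule.mem_span_singleton_self _)
      obtain ⟨c, hc⟩ := Submodule.mem_span_singleton.1 (hb w hw)
      rw [map_mul, End.mul_apply, ← hc, map_smul]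
      refine Submodule.smul_mem _ _ ?_
    · simpa [upow_one] using h2 1
    · have h3 : a ^ p = 1 := by rcases ha with rfl | rfl <;> assumption
      simpa [upow_neg h3, upow_one] using h2 (-1)
  rcases ((H11.isIrreducible_iff ρ).1 hρ).2 _ h1 with h2 | h2
  · exact h0 (Submodule.span_singleton_eq_bot.1 h2)
  · have h3 := finrank_span_singleton (K := ℂ) h0
    rw [h2, finrank_top] at h3
    exact hd (by rw [Representation.char_one, h3, Nat.cast_one])

theorem isCharacter_eig {χ : G → ℂ} (hχ : IsCharacter G χ) {u : G} (hu : u ^ p = 1) (s : ZMod p) :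
    IsCharacter (Subgroup.centralizer ({u} : Set G))
      fun c => fco (fun i => χ (upow u i * c)) s := by
  obtain ⟨n, ρ, rfl⟩ := hχ
  have h3 := isCharacter_trace_comp (ρ.comp (Subgroup.centralizer ({u} : Set G)).subtype)
    (prj ρ u s) (fun v => LinearMap.congr_fun (prj_mul_prj ρ hu s) v) fun g v =>
      LinearMap.congr_fun (commute_prj ρ
        (Subgroup.mem_centralizer_singleton_iff.1 g.2).symm s).symm.eq v
  convert h3 using 2 with g
  exact (trace_prj_mul ρ u g s).symm

theorem mu_eq_degree {χ : G → ℂ} (hχ : IsCharacter G χ) {y : G} (hy : y ^ p = 1) {c : ZMod p}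
    (h : ∀ i, χ (upow y i) = ee (c * i) * χ 1) (s : ZMod p) :
    mu y χ s = if s = c then charDegree χ else 0 := by
  have h1 := cast_mu hχ hy s
  rw [fco_eq (c := fun t => if t = c then χ 1 else 0) fun i => by simp [h, mul_comm],
    ← H21.cast_charDegree hχ] at h1
  split_ifs at h1 ⊢ <;> exact_mod_cast h1

theorem mu_of_mem_ker {χ : G → ℂ} (hχ : IsCharacter G χ) {y : G} (hy : y ^ p = 1)
    (h : y ∈ H11.charKer χ) (s : ZMod p) : mu y χ s = if s = 0 then charDegree χ else 0 :=
  mu_eq_degree hχ hy (fun i => by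
    rw [zero_mul, ee_zero, one_mul]
    exact H11.apply_eq_of_mem_charKer (pow_mem h _)) s

theorem exists_ee_of_center {χ : G → ℂ} (hχ : IsCharacter G χ) {z : G} (hz : z ^ p = 1)
    (h : z ∈ H11.charCenter χ) : ∃ c : ZMod p, ∀ i g, χ (upow z i * g) = ee (c * i) * χ g := by
  by_cases h0 : χ 1 = 0
  · exact ⟨0, fun i g => by simp [H11.eq_zero_of_apply_one_eq_zero hχ h0]⟩
  obtain ⟨c, hc⟩ := h
  have h3 : ∀ (j : ℕ) g, χ (z ^ j * g) = c ^ j * χ g := fun j g => by
    induction j with
    | zero => simp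
    | succ j ih => rw [pow_succ', mul_assoc, hc, ih]; ring
  obtain ⟨s, hs⟩ := exists_ee (z := c) (p := p) (mul_right_cancel₀ h0
    (by rw [← h3, hz, one_mul, one_mul]))
  exact ⟨s, fun i g => by rw [upow, h3, ← hs, ee_pow, ZMod.natCast_zmod_val]⟩

theorem apply_of_mu_eq_degree {χ : G → ℂ} (hχ : IsCharacter G χ) {y : G} (hy : y ^ p = 1)
    {c : ZMod p} (h : mu y χ c = charDegree χ) : χ y = ee c * χ 1 := by
  have h1 := sum_mu hχ hy
  rw [← Finset.add_sum_erase _ _ (Finset.mem_univ c), h, add_eq_left, Finset.sum_eq_zero_iff] at h1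
  have h2 := apply_upow hχ hy 1
  rw [← Finset.add_sum_erase _ _ (Finset.mem_univ c), Finset.sum_eq_zero fun s hs => by
    rw [h1 s hs, Nat.cast_zero, zero_mul], h, H21.cast_charDegree hχ] at h2
  simpa [upow_one, mul_comm] using h2

theorem mu_add {χ ψ η : G → ℂ} (hψ : IsCharacter G ψ) (hη : IsCharacter G η) (h : χ = ψ + η)
    {y : G} (hy : y ^ p = 1) (s : ZMod p) : mu y χ s = mu y ψ s + mu y η s := by
  have h1 := cast_mu (h ▸ H11.isCharacter_add hψ hη) hy s
  rw [h] at h1 ⊢
  simp only [Pi.add_apply] at h1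
  rw [fco_add, ← cast_mu hψ hy, ← cast_mu hη hy] at h1
  exact_mod_cast h1

theorem mu_le {χ : G → ℂ} (hχ : IsCharacter G χ) {y : G} (hy : y ^ p = 1) (s : ZMod p) :
    mu y χ s ≤ charDegree χ :=
  sum_mu hχ hy ▸ Finset.single_le_sum (f := mu y χ) (fun _ _ => Nat.zero_le _) (Finset.mem_univ s)

theorem mu_shift {χ : G → ℂ} {y v : G} {c : ZMod p}
    (h : ∀ i, χ (upow y i) = ee (c * i) * χ (upow v i)) (s : ZMod p) :
    mu y χ s = mu v χ (s - c) := by
  simp only [mu, fco, h]
  congr 4 with i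
  rw [mul_right_comm, mul_comm, ← ee_add]
  congr 2
  ring

theorem mu_conj_eq {χ : G → ℂ} (hχ : IsClassFunction G χ) (g y : G) (s : ZMod p) :
    mu (g * y * g⁻¹) χ s = mu y χ s := by
  simp only [mu, ← conj_upow, hχ _ g]

theorem degree_add {χ ψ η : G → ℂ} (hψ : IsCharacter G ψ) (hη : IsCharacter G η) (h : χ = ψ + η) :
    charDegree χ = charDegree ψ + charDegree η :=
  H21.charDegree_eq (by rw [h, Nat.cast_add, H21.cast_charDegree hψ, H21.cast_charDegree hη]; rfl)

theorem card_le_mu_zero {χ : G → ℂ} (hχ : IsCharacter G χ) {u : G} (hu : u ^ p = 1)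
    {y : Subgroup.centralizer ({u} : Set G)} (hy : y ^ p = 1) (hc : y ∈ commutator _)
    (A : Finset (ZMod p)) (hA : ∀ s ∈ A, mu u χ s = 1) : A.card ≤ mu (y : G) χ (0 : ZMod p) := by
  have h1 := mu_sum Finset.univ (fun _ => 1) _ (fun s _ => isCharacter_eig hχ hu s)
    (H11.isCharacter_restrict hχ _) (fun g => by
      simp only [Nat.cast_one, one_mul, sum_fco, upow_zero]) hy (0 : ZMod p)
  refine le_of_le_of_eq ?_ h1.symm
  rw [Finset.card_eq_sum_ones]
  refine (Finset.sum_le_sum fun s hs => ?_).trans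
    (Finset.sum_le_sum_of_subset (Finset.subset_univ A))
  have h2 : (fun c : Subgroup.centralizer ({u} : Set G) => fco (fun i => χ (upow u i * c)) s) 1 =
      ((1 : ℕ) : ℂ) := by
    simp only [OneMemClass.coe_one, mul_one, ← cast_mu hχ hu, hA s hs]
  rw [mu_of_mem_ker (isCharacter_eig hχ hu s) hy (H11.commutator_le_charKer
    (isCharacter_eig hχ hu s) (h2.trans Nat.cast_one) hc), if_pos rfl, H21.charDegree_eq h2]

namespace Sett

variable {P : Sylow p G} {u x : G} {α : ZMod p} {e : ℕ} (S : Sett P u x α e)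
include S

theorem of_mem {v : G} (hv : v ∈ (P : Subgroup G)) (h1 : v ≠ 1) : Sett P v x α e := by
  obtain ⟨i, rfl⟩ := exists_upow S.ou (S.hP ▸ hv)
  refine ⟨eq_zpowers_of_card_prime hp.out S.card_P hv h1,
    orderOf_upow S.ou fun h => h1 (by rw [h, upow_zero]), ?_, S.α0, S.oα, S.xreg, fun g hg => ?_⟩
  · rw [conj_upow, S.xu, upow_upow S.up, upow_upow S.up, mul_comm]
  · obtain ⟨j, hj⟩ := S.gen g hg
    exact ⟨j, by rw [conj_upow, hj, upow_upow S.up, upow_upow S.up, mul_comm]⟩

theorem eig (hn : ¬ (P : Subgroup G).Normal) {ζ : G → ℂ} (hζ : IsIrrCharacter G ζ)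
    (hf : ∀ g, ζ g = ζ 1 → g = 1) (hd : charDegree ζ + 2 ≤ p) :
    (∀ s : ZMod p, mu u ζ s ≤ 1) ∧ p + 2 * mu u ζ (0 : ZMod p) ≤ 2 * charDegree ζ + 1 := by
  have := Fintype.ofFinite G
  have hζ' := H11.isCharacter_of_irr hζ
  have h0 : e + 1 = p ∨ 2 * e + 1 ≤ p := by
    obtain ⟨t, ht⟩ := S.e_dvd
    have := hp.out.two_le
    rcases t with _ | _ | t
    · omega
    · omega
    · right; nlinarith [Nat.sub_add_cancel hp.out.one_le]
  rcases S.small_cases hn (ζ := ⟨ζ, hζ⟩) hf hd with ⟨a, ha, f, hf0, h1, h2⟩ |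
    ⟨-, h1, ω, ψ, a, ha, F, h2⟩
  · change charDegree ζ = _ at h1
    change ∀ s ∉ _, mu u ζ s = 0 at h2
    have h3 : e ≤ e * f := Nat.le_mul_of_pos_right _ hf0
    obtain ⟨-, K, -, -, -, h4 | ⟨h4, -⟩⟩ := S.cases_of_small hn hζ' hf hd
      (Or.inr ⟨cst α e a, by rw [S.card_cst ha]; omega, h2⟩)
    · omega
    have h5 : f = 1 := by
      by_contra h
      have : e * 2 ≤ e * f := Nat.mul_le_mul_left _ (by omega)
      omega
    have h6 := S.mul_mu_le hζ' ha
    refine ⟨fun s => ?_, by rw [h2 0 (S.zero_notMem_cst ha), h1, h5]; omega⟩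
    by_cases hs : s ∈ cst α e a
    · rw [S.mu_eq_of_mem (H11.isClassFunction_of_isCharacter hζ') hs]
      exact Nat.le_of_mul_le_mul_left (show e * _ ≤ e * 1 by rw [← h5, ← h1]; omega) S.e_pos
    · rw [h2 s hs]; omega
  · have h3 := F.mu_eq a ha
    have h4 := F.mu_zero S ha
    rw [← h2] at h3 h4
    change charDegree ζ + e = p at h1
    change mu u ζ 0 = 1 at h4
    refine ⟨fun s => ?_, ?_⟩
    · have := h3 s
      change (mu u ζ s : ℤ) = _ at this
      split_ifs at this <;> omega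
    · rcases h0 with h0 | h0
      · refine (hn ⟨fun a ha g => ?_⟩).elim
        have h5 := H11.commutator_le_charKer hζ' (by
          rw [← H21.cast_charDegree hζ', show charDegree ζ = 1 by omega, Nat.cast_one])
          (Subgroup.commutator_mem_commutator (Subgroup.mem_top g) (Subgroup.mem_top a))
        rwa [(commutatorElement_eq_one_iff_commute.1
          (hf _ (H11.apply_eq_of_mem_charKer h5))).eq, mul_inv_cancel_right]
      · omega

end Sett

theorem normal_of_small {χ : G → ℂ} (hχ : IsCharacter G χ) (hf : ∀ g, χ g = χ 1 → g = 1)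
    (hd : 2 * charDegree χ + 1 < p) (P : Sylow p G) : (P : Subgroup G).Normal := by
  refine H12.sylow_normal_aux (n := charDegree χ) (by omega) _ G rfl χ hχ
    (eq_bot_iff.2 fun g hg => hf g (H11.apply_eq_of_mem_charKer hg))
    (H21.cast_charDegree hχ).symm (Or.inr fun K hK Q => ?_) P
  by_cases h : p ∣ Nat.card K
  · obtain ⟨u, x, α, e, S⟩ := exists_sett Q (card_sylow_eq_of_not_sq_dvd h hK Q)
    by_contra hn
    have := (S.equiv_of_small hn (H11.isCharacter_restrict hχ K)
      (fun g hg => Subtype.ext (hf g hg)) (show 2 * charDegree χ + 1 ≤ p by omega)).1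
    exact hd.ne this
  · rw [Subgroup.card_eq_one.1 (Q.2.card_eq_or_dvd.resolve_right fun h' =>
      h (h'.trans (Subgroup.card_subgroup_dvd_card _)))]
    infer_instance

theorem sup_ker_normal {χ : G → ℂ} (hχ : IsCharacter G χ) (hd : 2 * charDegree χ + 1 < p)
    (P : Sylow p G) : ((P : Subgroup G) ⊔ H11.charKer χ).Normal := by
  have := H11.charKer_normal (H11.isClassFunction_of_isCharacter hχ)
  obtain ⟨θ, h1, h2⟩ := H11.exists_character_lift hχ _ le_rfl
  have h6 : charDegree θ = charDegree χ := by rw [charDegree, charDegree, ← h2]; rfl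
  have h3 := (normal_of_small h1 (fun g hg => by
    obtain ⟨g, rfl⟩ := QuotientGroup.mk_surjective g
    exact (QuotientGroup.eq_one_iff g).2 ((H11.mem_charKer_iff hχ).2
      (by rw [← h2, hg, ← h2]; rfl))) (h6 ▸ hd)
    (P.mapSurjective (QuotientGroup.mk'_surjective (H11.charKer χ)))).comap
      (QuotientGroup.mk' (H11.charKer χ))
  rwa [Sylow.coe_mapSurjective, Subgroup.comap_map_eq, QuotientGroup.ker_mk'] at h3

end Cfsg.Agent.H58
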