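import Cfsg.Agent.H58.LinT1
import Cfsg.Agent.H28.PSL2Small
import Cfsg.Agent.S0199

/-! Decomposition of a faithful character of degree at most `p - 2`. -/

namespace Cfsg.Agent.H58

open Cfsg Module
open scoped ComplexConjugate commutatorElement

set_option linter.unusedSectionVars false

universe v

variable {G : Type v} [Group G] [Finite G] {p : ℕ} [hp : Fact p.Prime]

theorem apply_mul_of_split {χ : G → ℂ} (hχ : IsCharacter G χ) {z t : G} (hz : z ^ p = 1)
    (ht : t * t = 1) (hc : Commute z t) {ε : ℂ} (hε : ε * ε = 1) {c : ZMod p}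
    (h : ∀ i, χ (upow z i) + ε * χ (upow z i * t) = ee (c * i) * (χ 1 + ε * χ t)) (g : G) :
    χ (z * g) + ε * χ (z * t * g) = ee c * (χ g + ε * χ (t * g)) := by
  obtain ⟨n, ρ, rfl⟩ := hχ
  let E : End ℂ (Fin n → ℂ) := (2 : ℂ)⁻¹ • (1 + ε • ρ t)
  have h1 : E * E = E := by
    simp only [E, smul_mul_smul_comm, mul_add, add_mul, mul_one, one_mul, ← map_mul, ht, map_one,
      hε, one_smul]
    module
  have h2 : ∀ s : ZMod p, Commute (prj ρ z s) E := fun s =>
    ((Commute.one_right _).add_right ((commute_prj ρ hc s).smul_right _)).smul_right _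
  have h3 : ∀ s : ZMod p, s ≠ c → prj ρ z s * E = 0 := fun s hs => by
    refine eq_zero_of_trace (by rw [(h2 s).symm.mul_mul_mul_comm, prj_mul_prj ρ hz, h1]) ?_
    have h4 := trace_prj_mul ρ z 1 s
    simp only [map_one, mul_one] at h4
    simp only [E, mul_smul_comm, mul_add, map_smul, map_add, h4, trace_prj_mul, smul_eq_mul,
      ← fco_const_mul, ← fco_add, mul_one, h]
    rw [fco_eq (c := fun s => if s = c then 2⁻¹ * (ρ.character 1 + ε * ρ.character t) else 0)
      fun i => by simp; ring, if_neg hs]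
  have h4 : ρ z * E = ee c • E := by
    have h5 : prj ρ z c * E = E := by
      conv_rhs => rw [← one_mul E, ← sum_prj (p := p) ρ z, Finset.sum_mul,
        Finset.sum_eq_single c (fun s _ => h3 s) (by simp)]
    rw [← h5, ← mul_assoc, mul_prj ρ hz, smul_mul_assoc]
  have h5 := congrArg (fun A => 2 * LinearMap.trace ℂ _ (A * ρ g)) h4
  simp only [E, mul_smul_comm, smul_mul_assoc, mul_add, add_mul, mul_one, one_mul, ← map_mul,
    map_smul, map_add, smul_eq_mul] at h5
  simp only [Representation.character]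
  linear_combination h5

theorem eq_one_of_congr {χ : G → ℂ} (hχ : IsCharacter G χ) (hf : ∀ g, χ g = χ 1 → g = 1)
    (hd : charDegree χ < p) (h0 : pCore p G = ⊥) {M : Ideal AlgInt} (hM : IsPModular p M) {z : G}
    (hz : ∀ g, H19.val M (χ (z * g) - χ g) < 1) : z = 1 := by
  have hc := H11.isClassFunction_of_isCharacter hχ
  let N : Subgroup G :=
    { carrier := {z | ∀ g, H19.val M (χ (z * g) - χ g) < 1}
      one_mem' := fun g => by simp
      mul_mem' := fun {a b} ha hb g => by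
        simpa [mul_assoc] using H19.val_add_lt_one (ha (b * g)) (hb g)
      inv_mem' := fun {a} ha g => by simpa using H19.val_neg_lt_one (ha (a⁻¹ * g)) }
  have : N.Normal := ⟨fun a ha x g => by
    have h1 := ha (x⁻¹ * g * x)
    rwa [H11.classFun_conj_inv hc, ← hc _ x,
      show x * (a * (x⁻¹ * g * x)) * x⁻¹ = x * a * x⁻¹ * g by group] at h1⟩
  have h1 : IsPGroup p N := by
    refine IsPGroup.iff_card.2 ⟨_, Nat.eq_prime_pow_of_unique_prime_dvd Nat.card_pos.ne'
      fun {q} hq hd' => ?_⟩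
    by_contra hqp
    have := Fact.mk hq
    obtain ⟨⟨g, hg⟩, ho⟩ := exists_prime_orderOf_dvd_card' q hd'
    rw [← Subgroup.orderOf_coe] at ho
    have hg1 : g ^ q = 1 := ho ▸ pow_orderOf_eq_one g
    have h2 := H19.val_sum_lt_one (s := Finset.univ) (f := fun i : ZMod q => χ (upow g i) - χ 1)
      fun i _ => by simpa [upow] using (pow_mem hg i.val : upow g i ∈ N) 1
    have h3 := cast_mu hχ hg1 0
    simp only [fco, zero_mul, neg_zero, ee_zero, mul_one] at h3
    rw [Finset.sum_sub_distrib, ← (eq_inv_mul_iff_mul_eq₀ p_ne_zero).1 h3, Finset.sum_const,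
      Finset.card_univ, ZMod.card, nsmul_eq_mul, ← H21.cast_charDegree hχ, ← neg_sub,
      Valuation.map_neg, ← mul_sub, ← Nat.cast_sub (mu_le hχ hg1 0), ← Nat.cast_mul,
      H19.val_natCast_lt_one_iff hM, hp.out.dvd_mul, Nat.prime_dvd_prime_iff_eq hp.out hq] at h2
    have h4 := Nat.eq_zero_of_dvd_of_lt (h2.resolve_left (Ne.symm hqp)) (by omega)
    have h5 := apply_of_mu_eq_degree hχ hg1 (c := 0) (by have := mu_le hχ hg1 0; omega)
    obtain rfl := hf g (by rwa [ee_zero, one_mul] at h5)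
    exact hq.one_lt.ne (by simpa using ho)
  exact Subgroup.mem_bot.1 (h0 ▸ H3.le_pCore h1 (show z ∈ N from hz))

theorem mem_of_pow_eq_one {M : Subgroup G} [M.Normal] (h : ¬ p ∣ M.index) {x : G} {k : ℕ}
    (hx : x ^ p ^ k = 1) : x ∈ M := by
  obtain ⟨j, -, hj⟩ := (Nat.dvd_prime_pow hp.out).1 (orderOf_dvd_of_pow_eq_one hx)
  exact le_of_not_dvd_index (isPGroup_zpowers_of_orderOf hj) h (Subgroup.mem_zpowers x)

theorem not_dvd_index_of_le {P : Sylow p G} {M : Subgroup G} (h : (P : Subgroup G) ≤ M) :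
    ¬ p ∣ M.index := fun h' => P.not_dvd_index (h'.trans (Subgroup.index_dvd_of_le h))

theorem eq_top_of_closure {S : Set G} (hS : ∀ s ∈ S, ∃ k, s ^ p ^ k = 1)
    (Q : Sylow p (Subgroup.closure S)) (M : Subgroup (Subgroup.closure S)) (hM : M.Normal)
    (h : (Q : Subgroup _) ≤ M) : M = ⊤ := by
  rw [eq_top_iff, ← Subgroup.closure_closure_coe_preimage, Subgroup.closure_le]
  intro s hs
  obtain ⟨k, hk⟩ := hS s hs
  exact mem_of_pow_eq_one (not_dvd_index_of_le h) (Subtype.ext hk)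

theorem commutator_le_of_sup {P K : Subgroup G} [K.Normal] (hP : ∀ a ∈ P, ∀ b ∈ P, a * b = b * a)
    (h : P ⊔ K = ⊤) : commutator G ≤ K := by
  have h1 : ∀ g : G, ∃ a ∈ P, (g : G ⧸ K) = a := fun g => by
    obtain ⟨a, ha, k, hk, rfl⟩ := Subgroup.mem_sup_of_normal_right.1 (h ▸ Subgroup.mem_top g)
    exact ⟨a, ha, QuotientGroup.mk_mul_of_mem a hk⟩
  refine Subgroup.commutator_le.2 fun a _ b _ => (QuotientGroup.eq_one_iff _).1 ?_
  obtain ⟨a', ha, ha'⟩ := h1 a
  obtain ⟨b', hb, hb'⟩ := h1 b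
  rw [← QuotientGroup.mk'_apply, map_commutatorElement, commutatorElement_eq_one_iff_mul_comm]
  simp only [QuotientGroup.mk'_apply, ha', hb', ← QuotientGroup.mk_mul, hP _ ha _ hb]

theorem normal_of_commutator_eq_bot (h : commutator G = ⊥) (K : Subgroup G) : K.Normal :=
  Subgroup.Normal.of_commutator_le G (h ▸ bot_le)

variable {χ ψ η : G → ℂ}

section

variable (hχ : IsCharacter G χ) (hf : ∀ g, χ g = χ 1 → g = 1)
include hχ hf

theorem ker_eq_bot : H11.charKer χ = ⊥ :=
  eq_bot_iff.2 fun g hg => hf g (H11.apply_eq_of_mem_charKer hg)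

theorem comm_of_lt (hd : charDegree χ < p) {P : Subgroup G} (hP : IsPGroup p P) :
    ∀ a ∈ P, ∀ b ∈ P, a * b = b * a := fun _ ha _ hb =>
  H12.comm_of_isPGroup_of_degree_lt hχ (ker_eq_bot hχ hf) hp.out (H21.cast_charDegree hχ).symm hd
    hP ha hb

theorem eq_one_of_center (hd : charDegree χ < p) {z : G} (h1 : z ∈ Subgroup.center G)
    (h2 : z ∈ commutator G) {k : ℕ} (h3 : z ^ p ^ k = 1) : z = 1 := by
  obtain ⟨P⟩ : Nonempty (Sylow p G) := inferInstance
  obtain ⟨j, -, hj⟩ := (Nat.dvd_prime_pow hp.out).1 (orderOf_dvd_of_pow_eq_one h3)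
  obtain ⟨Q, hQ⟩ := (isPGroup_zpowers_of_orderOf hj).exists_le_sylow
  have h4 := H8.center_inf_commutator_inf_sylow_le Q ⟨⟨h1, h2⟩, hQ (Subgroup.mem_zpowers z)⟩
  rwa [Subgroup.commutator_eq_bot_iff_le_centralizer.2
    fun a ha b hb => comm_of_lt hχ hf hd Q.2 b hb a ha] at h4

variable (hd : charDegree χ + 2 ≤ p) {P : Sylow p G}
  (hM : ∀ M : Subgroup G, M.Normal → (P : Subgroup G) ≤ M → M = ⊤)
include hd hM

theorem pCore_le_center : pCore p G ≤ Subgroup.center G := fun z hz => by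
  have := H3.pCore_characteristic p G
  have h1 := hM (Subgroup.centralizer (pCore p G : Set G)) inferInstance fun a ha b hb =>
    comm_of_lt hχ hf (by omega) P.2 b (H3.pCore_le_sylow P hb) a ha
  exact Subgroup.mem_center_iff.2 fun g => ((h1 ▸ Subgroup.mem_top g :
    g ∈ Subgroup.centralizer (pCore p G : Set G)) z hz).symm

theorem exists_big (hn : ¬ (P : Subgroup G).Normal) : ∃ ψ η, IsIrrCharacter G ψ ∧
    IsCharacter G η ∧ χ = ψ + η ∧ p ≤ 2 * charDegree ψ + 1 ∧
      (P : Subgroup G) ⊔ H11.charKer η = ⊤ := by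
  have := Fintype.ofFinite G
  obtain ⟨ψ, hψ, h1, h2⟩ : ∃ ψ, IsIrrCharacter G ψ ∧ classInner χ ψ ≠ 0 ∧
      p ≤ 2 * charDegree ψ + 1 := by
    by_contra h
    push Not at h
    refine hn (normal_of_commutator_eq_bot (eq_bot_iff.2 fun g hg => ?_) _)
    rw [← ker_eq_bot hχ hf, H11.mem_charKer_iff_forall_constituent hχ]
    intro ψ hψ h0
    have := H11.charKer_normal (H11.isClassFunction_of_irr hψ)
    exact commutator_le_of_sup (comm_of_lt hχ hf (by omega) P.2) (hM _ (sup_ker_normal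
      (H11.isCharacter_of_irr hψ) (h ψ hψ h0) P) le_sup_left) hg
  have h3 := H11.isCharacter_sub_irr hχ hψ h1
  have h4 : χ = ψ + (χ - ψ) := by ring
  have h5 := degree_add (H11.isCharacter_of_irr hψ) h3 h4
  exact ⟨ψ, χ - ψ, hψ, h3, h4, h2, hM _ (sup_ker_normal h3 (by omega) P) le_sup_left⟩

end

theorem mu_coe {H : Subgroup G} (χ : G → ℂ) (y : H) (s : ZMod p) :
    mu y (fun g : H => χ g) s = mu (y : G) χ s := rfl

variable (p) in
/-- The shape of a faithful character of degree at most `p - 2`. -/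
structure Dec (χ ψ η : G → ℂ) : Prop where
  irr : IsIrrCharacter G ψ
  chr : IsCharacter G η
  add : χ = ψ + η
  le : charDegree χ + 2 ≤ p
  big : p ≤ 2 * charDegree ψ + 1
  ker : commutator G ≤ H11.charKer η
  cen : pCore p G ≤ Subgroup.center G
  sup : commutator G ⊔ pCore p G = ⊤
  inf : ∀ z ∈ commutator G, z ∈ pCore p G → z = 1
  card : ∀ Q : Sylow p (commutator G), Nat.card Q = p
  nn : ∀ Q : Sylow p (commutator G), ¬ (Q : Subgroup (commutator G)).Normal
  faith : ∀ g : commutator G, ψ g = ψ 1 → g = 1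

theorem exists_dec (hχ : IsCharacter G χ) (hf : ∀ g, χ g = χ 1 → g = 1)
    (hd : charDegree χ + 2 ≤ p) {P : Sylow p G}
    (hM : ∀ M : Subgroup G, M.Normal → (P : Subgroup G) ≤ M → M = ⊤)
    (hn : ¬ (P : Subgroup G).Normal) (hS : ¬ p ^ 2 ∣ (pCore p G).index) :
    ∃ ψ η, Dec p χ ψ η := by
  obtain ⟨ψ, η, h1, h2, h3, h4, h5⟩ := exists_big hχ hf hd hM hn
  have := H11.charKer_normal (H11.isClassFunction_of_isCharacter h2)
  have := H3.pCore_characteristic p G
  have h6 := commutator_le_of_sup (comm_of_lt hχ hf (by omega) P.2) h5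
  have h7 := pCore_le_center hχ hf hd hM
  have h8 : ∀ z ∈ commutator G, z ∈ pCore p G → z = 1 := fun z h h' => by
    obtain ⟨k, hk⟩ := H3.pCore_isPGroup p G ⟨z, h'⟩
    exact eq_one_of_center hχ hf (by omega) (h7 h') h (congrArg Subtype.val hk)
  have h9 : (pCore p G).relIndex (commutator G) = Nat.card (commutator G) := by
    rw [← H3.card_inf_mul_relIndex (pCore p G), show pCore p G ⊓ commutator G = ⊥ from
      eq_bot_iff.2 fun z hz => h8 z hz.2 hz.1, Subgroup.card_bot, one_mul]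
  have h10 : p ∣ Nat.card (commutator G) := by
    by_contra h
    have := (S4468.result χ hχ hf _ rfl p hp.out (H24.isPSolvable_of_normal_of_quotient
      (commutator G) (Or.inr ((Nat.Prime.coprime_iff_not_dvd hp.out).2 h).symm)
      (H24.isPSolvable_of_isSolvable hp.out (Abelianization G) inferInstance)) (by omega) P hn).1
    omega
  have h11 : ∀ K : Subgroup G, pCore p G ≤ K → p ∣ (pCore p G).relIndex K → ¬ p ∣ K.index :=
    fun K hK h h' => hS (by rw [← Subgroup.relIndex_mul_index hK, sq]; exact mul_dvd_mul h h')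
  have h12 : ∀ Q : Sylow p (commutator G), Nat.card Q = p := card_sylow_eq_of_not_sq_dvd h10
    fun h => hS (h.trans (h9 ▸ Subgroup.relIndex_dvd_index_of_normal _ _))
  refine ⟨ψ, η, h1, h2, h3, hd, h4, h6, h7, hM _ inferInstance (le_of_not_dvd_index P.2
    (h11 _ le_sup_right (by rwa [Subgroup.relIndex_sup_right, h9]))), h8, h12, fun Q hQ => ?_,
    fun g hg => Subtype.ext (hf _ ?_)⟩
  · have := Q.characteristic_of_normal hQ
    have h13 : (Q : Subgroup _).map (commutator G).subtype ≤ pCore p G := H3.le_pCore (Q.2.map _)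
    obtain ⟨u, hu, hu1⟩ := exists_mem_ne_one (h12 Q)
    exact hu1 (Subtype.ext (h8 u u.2 (h13 ⟨u, hu, rfl⟩)))
  · rw [h3, Pi.add_apply, Pi.add_apply, hg, H11.apply_eq_of_mem_charKer (h6 g.2)]

theorem exists_dec_closure (hχ : IsCharacter G χ) (hf : ∀ g, χ g = χ 1 → g = 1)
    (hd : charDegree χ + 2 ≤ p) {S : Set G} (hS : ∀ s ∈ S, ∃ k, s ^ p ^ k = 1) {H : Subgroup G}
    (hH : H = Subgroup.closure S) (hn : ¬ IsPGroup p H) (h : ¬ p ^ 2 ∣ (pCore p H).index) :
    ∃ ψ η, Dec p (fun g : H => χ g) ψ η := by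
  subst hH
  obtain ⟨P⟩ : Nonempty (Sylow p (Subgroup.closure S)) := inferInstance
  exact exists_dec (H11.isCharacter_restrict hχ _) (fun g hg => Subtype.ext (hf g hg)) hd
    (eq_top_of_closure hS P) (fun h => hn ((eq_top_of_closure hS P _ h le_rfl ▸ P.2).of_equiv
      Subgroup.topEquiv)) h

namespace Dec

variable (D : Dec p χ ψ η)
include D

theorem chr' : IsCharacter G ψ := H11.isCharacter_of_irr D.irr

theorem deg : charDegree χ = charDegree ψ + charDegree η := degree_add D.chr' D.chr D.add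

theorem irr' : IsIrrCharacter (commutator G) fun g => ψ g :=
  isIrr_restrict_of_sup_center D.irr (eq_top_iff.2 (D.sup ▸ sup_le_sup_left D.cen _))

theorem lin {v : G} (hv : v ∈ commutator G) (h1 : v ^ p = 1) (h2 : v ≠ 1) :
    (∀ s : ZMod p, mu v ψ s ≤ 1) ∧ p + 2 * mu v ψ (0 : ZMod p) ≤ 2 * charDegree ψ + 1 := by
  have h3 : (⟨v, hv⟩ : commutator G) ≠ 1 := fun h => h2 (congrArg Subtype.val h)
  obtain ⟨Q, hQ⟩ := (isPGroup_zpowers_of_orderOf_eq (orderOf_eq_prime
    (show (⟨v, hv⟩ : commutator G) ^ p = 1 from Subtype.ext h1) h3)).exists_le_sylow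
  obtain ⟨u, x, α, e, S⟩ := exists_sett Q (D.card Q)
  have := D.deg
  have := D.le
  have h4 := (S.of_mem (hQ (Subgroup.mem_zpowers _)) h3).eig (D.nn Q) D.irr' D.faith
    (show charDegree ψ + 2 ≤ p by omega)
  simp only [mu_coe] at h4
  exact h4

theorem le_one {y : G} (h1 : y ^ p = 1) (h2 : y ∉ Subgroup.center G) (s : ZMod p) :
    mu y ψ s ≤ 1 := by
  have := H3.pCore_characteristic p G
  obtain ⟨v, hv, z, hz, rfl⟩ := Subgroup.mem_sup_of_normal_right.1 (D.sup ▸ Subgroup.mem_top y)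
  have h3 : Commute v z := Subgroup.mem_center_iff.1 (D.cen hz) v
  rw [h3.mul_pow] at h1
  have h4 : v ^ p = 1 := D.inf _ (pow_mem hv p)
    (by rw [mul_eq_one_iff_eq_inv.1 h1]; exact inv_mem (pow_mem hz p))
  rw [h4, one_mul] at h1
  obtain ⟨c, hc⟩ := exists_ee_of_center D.chr' h1 (H11.center_le_charCenter D.irr (D.cen hz))
  rw [mu_shift (v := v) (c := c) fun i => by rw [← hc, upow, h3.eq, h3.symm.mul_pow]; rfl]
  exact (D.lin hv h4 (by rintro rfl; exact h2 (by simpa using D.cen hz))).1 _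

theorem mu_center {z : G} (h1 : z ^ p = 1) (h2 : z ∈ Subgroup.center G) : ∃ c : ZMod p,
    (∀ i g, ψ (upow z i * g) = ee (c * i) * ψ g) ∧ charDegree ψ ≤ mu z χ c := by
  obtain ⟨c, hc⟩ := exists_ee_of_center D.chr' h1 (H11.center_le_charCenter D.irr h2)
  refine ⟨c, hc, ?_⟩
  rw [mu_add D.chr' D.chr D.add h1, mu_eq_degree D.chr' h1 fun i => by simpa using hc i 1,
    if_pos rfl]
  omega

theorem exists_invol (h5 : p = 5) (h : charDegree ψ = 2) :
    ∃ t ∈ commutator G, t * t = 1 ∧ t ≠ 1 := by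
  obtain ⟨t, h1⟩ := exists_prime_orderOf_dvd_card' (G := commutator G) 2 (by
    obtain ⟨Q⟩ : Nonempty (Sylow p (commutator G)) := inferInstance
    obtain ⟨u, x, α, e, S⟩ := exists_sett Q (D.card Q)
    obtain ⟨-, -, ⟨φ⟩⟩ := S.equiv_of_small (D.nn Q) (H11.isCharacter_of_irr D.irr') D.faith
      (show 2 * charDegree ψ + 1 ≤ p by omega)
    have h1 := H28.card_PSL2 (F := ZMod p) (q := 5) (by rw [ZMod.card, h5])
    rw [← Nat.card_congr φ.toEquiv] at h1
    norm_num at h1
    exact (show 2 ∣ _ by omega).trans (Subgroup.card_quotient_dvd_card (Subgroup.center _)))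
  rw [← Subgroup.orderOf_coe] at h1
  exact ⟨t, t.2, by rw [← sq, ← h1, pow_orderOf_eq_one], fun h => by simp [h] at h1⟩

end Dec

end Cfsg.Agent.H58
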