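import Cfsg.Agent.H58.LinT2

/-! Feit's theorem on linear groups of degree at most `p - 2`. -/

namespace Cfsg.Agent.H58

open Cfsg Module
open scoped ComplexConjugate commutatorElement Pointwise

set_option linter.unusedSectionVars false

universe v

variable {G : Type v} [Group G] [Finite G] {p : ℕ} [hp : Fact p.Prime]

theorem exists_pow_eq_one_of_ne_bot {N : Subgroup G} (hN : IsPGroup p N) (h : N ≠ ⊥) :
    ∃ z ∈ N, z ^ p = 1 ∧ z ≠ 1 := by
  obtain ⟨z, hz⟩ := exists_prime_orderOf_dvd_card' p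
    (hN.card_eq_or_dvd.resolve_left fun h' => h (Subgroup.card_eq_one.1 h'))
  rw [← Subgroup.orderOf_coe] at hz
  exact ⟨z, z.2, hz ▸ pow_orderOf_eq_one _, fun h => hp.out.one_lt.ne (by simpa [h] using hz)⟩

theorem mem_charCenter_of_mu {χ : G → ℂ} (hχ : IsCharacter G χ) {y : G} (hy : y ^ p = 1)
    {c : ZMod p} (h : mu y χ c = charDegree χ) : y ∈ H11.charCenter χ := by
  rw [H11.mem_charCenter_iff hχ, apply_of_mu_eq_degree hχ hy h, norm_mul, AddChar.norm_apply,
    one_mul]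

variable (p) in
/-- The subgroup generated by the `p`-elements commuting with `g`. -/
def Hg (g : G) : Subgroup G := Subgroup.closure {x | Commute x g ∧ ∃ k, x ^ p ^ k = 1}

theorem mem_Hg {g x : G} {Q : Subgroup G} (hQ : IsPGroup p Q) (hx : x ∈ Q) (h : Commute x g) :
    x ∈ Hg p g := by
  obtain ⟨k, hk⟩ := hQ ⟨x, hx⟩
  exact Subgroup.subset_closure ⟨h, k, congrArg Subtype.val hk⟩

theorem Hg_le (g : G) : Hg p g ≤ Subgroup.centralizer {g} :=
  (Subgroup.closure_le _).2 fun _ hx => Subgroup.mem_centralizer_singleton_iff.2 hx.1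

variable (p) in
/-- The setting of a minimal counterexample. -/
structure Core (ζ : G → ℂ) : Prop where
  irr : IsIrrCharacter G ζ
  faith : ∀ g, ζ g = ζ 1 → g = 1
  le : charDegree ζ + 2 ≤ p
  ne : ζ 1 ≠ 1
  bot : pCore p G = ⊥
  ih : ∀ H : Subgroup G, H ≠ ⊤ → ¬ p ^ 2 ∣ (pCore p H).index

namespace Core

variable {ζ : G → ℂ} (C : Core p ζ)
include C

theorem chr : IsCharacter G ζ := H11.isCharacter_of_irr C.irr

theorem two_le : 2 ≤ charDegree ζ := by
  obtain ⟨n, h0, hn⟩ := H11.exists_pos_degree C.irr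
  have : n ≠ 1 := fun h => C.ne (by rw [hn, h, Nat.cast_one])
  rw [H21.charDegree_eq hn]
  omega

theorem eq_one {z : G} {k : ℕ} (h1 : z ^ p ^ k = 1) (h2 : z ∈ Subgroup.center G) : z = 1 := by
  obtain ⟨j, -, hj⟩ := (Nat.dvd_prime_pow hp.out).1 (orderOf_dvd_of_pow_eq_one h1)
  have : (Subgroup.zpowers z).Normal := ⟨fun a ha g => by
    rwa [Subgroup.mem_center_iff.1 (Subgroup.zpowers_le.2 h2 ha) g, mul_inv_cancel_right]⟩
  exact Subgroup.mem_bot.1
    (C.bot ▸ H3.le_pCore (isPGroup_zpowers_of_orderOf hj) (Subgroup.mem_zpowers z))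

theorem big {y : G} (hy : y ^ p = 1) (hy1 : y ≠ 1) {s : ZMod p} (h : p ≤ 2 * mu y ζ s + 1) :
    (∀ t ≠ s, mu y ζ t ≤ 1) ∧ ∃ (H : Subgroup G) (ψ η : H → ℂ), Dec p (fun g : H => ζ g) ψ η ∧
      2 * charDegree ψ + 1 = p ∧ 2 * charDegree η + 3 = p ∧ H11.charCenter η = ⊤ ∧
        pCore p H ≠ ⊥ := by
  obtain ⟨g, hg⟩ : ∃ g : G, ¬ IsPGroup p (Subgroup.closure {y, g * y * g⁻¹}) := by
    by_contra hc
    push Not at hc
    obtain ⟨N, _, h1, h2⟩ := S0199.result (Subgroup.zpowers y)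
      (isPGroup_zpowers_of_orderOf_eq (orderOf_eq_prime hy hy1)) fun g => by
        rw [MonoidHom.map_zpowers, Subgroup.zpowers_eq_closure, Subgroup.zpowers_eq_closure,
          ← Subgroup.closure_union]
        exact hc g
    exact hy1 (Subgroup.mem_bot.1 (C.bot ▸ H3.le_pCore h1 (h2 (Subgroup.mem_zpowers y))))
  have h1 : mu (g * y * g⁻¹) ζ s = mu y ζ s :=
    mu_conj_eq (H11.isClassFunction_of_irr C.irr) g y s
  have hy' : (g * y * g⁻¹) ^ p = 1 := by rw [conj_pow, hy, mul_one, mul_inv_cancel]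
  generalize g * y * g⁻¹ = y' at hg h1 hy'
  have h2 := C.le
  have h3 := C.two_le
  have hS : ∀ w ∈ ({y, y'} : Set G), w ^ p = 1 := by rintro w (rfl | rfl) <;> assumption
  obtain ⟨ψ, η, D⟩ := exists_dec_closure C.chr C.faith C.le
    (fun w hw => ⟨1, by rw [pow_one, hS w hw]⟩) rfl hg (C.ih _ fun h0 => by
      have := mu_add_mu_le C.irr C.ne hy hy' h0 s s
      omega)
  have h4 : charDegree ζ = _ := D.deg
  have h5 := D.big
  have h6 : ∀ w (hw : w ∈ ({y, y'} : Set G)), (⟨w, Subgroup.subset_closure hw⟩ :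
      Subgroup.closure {y, y'}) ∉ Subgroup.center _ := fun w hw h0 => by
    have h7 : ∀ a ∈ ({y, y'} : Set G), a * w = w * a := fun a ha => congrArg Subtype.val
      (Subgroup.mem_center_iff.1 h0 ⟨a, Subgroup.subset_closure ha⟩)
    have := Subgroup.isMulCommutative_closure (k := {y, y'}) (by
      rintro a (rfl | rfl) b (rfl | rfl) <;> rcases hw with rfl | rfl <;> simp_all)
    exact D.nn (Classical.arbitrary _) inferInstance
  have h7 : ∀ w (hw : w ∈ ({y, y'} : Set G)) (t : ZMod p), mu w ζ t =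
      mu (⟨w, Subgroup.subset_closure hw⟩ : Subgroup.closure {y, y'}) ψ t +
        mu (⟨w, Subgroup.subset_closure hw⟩ : Subgroup.closure {y, y'}) η t := fun w hw t => by
    rw [← mu_add D.chr' D.chr D.add (Subtype.ext (hS w hw)), mu_coe]
  have h8 : ∀ w (hw : w ∈ ({y, y'} : Set G)),
      mu (⟨w, Subgroup.subset_closure hw⟩ : Subgroup.closure {y, y'}) η s = charDegree η ∧
      mu (⟨w, Subgroup.subset_closure hw⟩ : Subgroup.closure {y, y'}) ψ s = 1 ∧
      2 * charDegree ψ + 1 = p ∧ 2 * charDegree η + 3 = p := fun w hw => by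
    have e1 := h7 w hw s
    have e2 := D.le_one (Subtype.ext (hS w hw)) (h6 w hw) s
    have e3 := mu_le D.chr (y := ⟨w, Subgroup.subset_closure hw⟩) (Subtype.ext (hS w hw)) s
    have e4 : mu w ζ s = mu y ζ s := by rcases hw with rfl | rfl <;> simp only [h1]
    omega
  have hy0 : y ∈ ({y, y'} : Set G) := Or.inl rfl
  obtain ⟨e1, e2, e3, e4⟩ := h8 y hy0
  have hy2 : (⟨y, Subgroup.subset_closure hy0⟩ : Subgroup.closure {y, y'}) ^ p = 1 :=
    Subtype.ext hy
  refine ⟨fun t ht => ?_, _, ψ, η, D, e3, e4, ?_, fun h0 => ?_⟩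
  · have e5 := sum_mu D.chr hy2
    rw [← Finset.add_sum_erase _ _ (Finset.mem_univ s), e1, add_eq_left,
      Finset.sum_eq_zero_iff] at e5
    rw [h7 y hy0, e5 t (by simpa using ht)]
    exact D.le_one hy2 (h6 y hy0) t
  · rw [eq_top_iff, ← Subgroup.closure_closure_coe_preimage, Subgroup.closure_le]
    exact fun w hw => mem_charCenter_of_mu D.chr (Subtype.ext (hS w hw)) (h8 w hw).1
  · have e5 := D.sup
    rw [h0, sup_bot_eq] at e5
    have e6 := (D.lin (e5 ▸ Subgroup.mem_top _) hy2 fun h => hy1 (congrArg Subtype.val h)).2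
    rw [mu_of_mem_ker D.chr hy2 (D.ker (e5 ▸ Subgroup.mem_top _))] at e1
    split_ifs at e1 with hs
    · subst hs
      omega
    · omega

theorem not_big {y : G} (hy : y ^ p = 1) (hy1 : y ≠ 1) (s : ZMod p) : 2 * mu y ζ s + 1 < p := by
  by_contra h
  obtain ⟨-, H, ψ, η, D, h1, h2, h3, h4⟩ := C.big hy hy1 (not_lt.1 h)
  obtain ⟨z, hz, hz1, hz2⟩ := exists_pow_eq_one_of_ne_bot (H3.pCore_isPGroup p H) h4
  have hz3 : (z : G) ^ p = 1 := congrArg Subtype.val hz1
  have hz4 : (z : G) ≠ 1 := fun h => hz2 (Subtype.ext h)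
  obtain ⟨c, hc, h5⟩ := D.mu_center hz1 (D.cen hz)
  obtain ⟨t, ht⟩ := exists_ee_of_center D.chr hz1 (h3 ▸ Subgroup.mem_top z)
  have hζ : ∀ g : H, ζ g = ψ g + η g := congrFun D.add
  have h6 : t ≠ c := by
    rintro rfl
    refine hz4 (C.eq_one (k := 1) (by rwa [pow_one]) ?_)
    have e1 := hc 1 1
    have e2 := ht 1 1
    simp only [upow_one, mul_one] at e1 e2
    rw [← H11.charCenter_eq_center C.irr (ker_eq_bot C.chr C.faith), H11.mem_charCenter_iff C.chr,
      hζ, e1, e2, ← mul_add, ← hζ, norm_mul, AddChar.norm_apply, one_mul, OneMemClass.coe_one]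
  have h7 := (C.big hz3 hz4 (s := c) (by rw [mu_coe] at h5; omega)).1 t h6
  rw [← mu_coe, mu_add D.chr' D.chr D.add hz1, mu_eq_degree D.chr hz1 (c := t)
    fun i => by simpa using ht i 1, if_pos rfl] at h7
  have h8 := C.two_le
  have h9 := C.le
  obtain ⟨τ, hτ, hτ1, hτ2⟩ := D.exists_invol (by omega) (by omega)
  have h10 : ψ 1 = 2 := by
    rw [← H21.cast_charDegree D.chr', show charDegree ψ = 2 by omega, Nat.cast_ofNat]
  have h11 : ψ τ = -2 := by
    have e1 := H11.apply_eq_of_mem_charKer (H11.commutator_le_charKer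
      (isCharacter_sqc (Or.inr rfl) D.chr') (by simp [sqc, h10]; norm_num) hτ)
    simp only [sqc, hτ1, h10, mul_one] at e1
    have e2 : (ψ τ - 2) * (ψ τ + 2) = 0 := by linear_combination 2 * e1
    refine eq_neg_of_add_eq_zero_left ((mul_eq_zero.1 e2).resolve_left fun h => hτ2 ?_)
    exact congrArg Subtype.val (D.faith ⟨τ, hτ⟩ (by rw [h10]; exact sub_eq_zero.1 h))
  have h12 : ∀ g, ψ (g * τ) = -ψ g := fun g => by
    rw [H11.classFun_mul_comm (H11.isClassFunction_of_irr D.irr),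
      H11.apply_mul_of_mem_charCenter (H11.irr_apply_one_ne_zero D.irr)
        ((H11.mem_charCenter_iff D.chr').2 (by simp [h10, h11])), h10, h11]
    ring
  have h13 : ∀ g, η (g * τ) = η g :=
    H11.apply_mul_of_mem_charKer' (H11.isClassFunction_of_isCharacter D.chr) (D.ker hτ)
  have h14 : Commute (z : G) τ :=
    congrArg Subtype.val (Subgroup.mem_center_iff.1 (D.cen hz) τ).symm
  have h15 : ∀ i : ZMod p, ζ (upow (z : G) i) = ee (c * i) * ψ 1 + ee (t * i) * η 1 ∧
      ζ (upow (z : G) i * τ) = -(ee (c * i) * ψ 1) + ee (t * i) * η 1 := fun i => by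
    have e1 := hc i 1
    have e2 := ht i 1
    rw [mul_one] at e1 e2
    exact ⟨by rw [← e1, ← e2, ← hζ]; rfl, by rw [← e1, ← e2, ← h12, ← h13, ← hζ]; rfl⟩
  have h16 := h15 0
  simp only [upow_zero, mul_zero, ee_zero, one_mul] at h16
  have h17 := apply_mul_of_split C.chr hz3 (congrArg Subtype.val hτ1) h14 (ε := -1) (by simp)
    (c := c) fun i => by rw [(h15 i).1, (h15 i).2, h16.1, h16.2]; ring
  have h18 := apply_mul_of_split C.chr hz3 (congrArg Subtype.val hτ1) h14 (ε := 1) (by simp)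
    (c := t) fun i => by rw [(h15 i).1, (h15 i).2, h16.1, h16.2]; ring
  obtain ⟨M, hM⟩ := H19.exists_isPModular hp.out
  refine hz4 (eq_one_of_congr C.chr C.faith (by omega) C.bot hM fun g => ?_)
  have e1 : ∀ a : ZMod p, H19.val M (ee a - 1) < 1 := fun a =>
    H19.val_sub_one_lt_one_of_pow_p_pow hM (k := 1) (by simp [ee_pow])
  have e2 : ∀ g, ζ g ∈ H19.Vr M := fun g =>
    H19.mem_Vr_of_isIntegral (H12.IsCharacter_isIntegral C.chr g)
  have e3 := H19.val_add_lt_one (H19.val_mul_lt_one_left (e1 c) (sub_mem (e2 g) (e2 (τ * g))))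
    (H19.val_mul_lt_one_left (e1 t) (add_mem (e2 g) (e2 (τ * g))))
  rwa [show _ + _ = ((2 : ℕ) : ℂ) * (ζ (z * g) - ζ g) by
    push_cast; linear_combination -h17 g - h18 g, map_mul, (H19.val_natCast_eq_one_iff hM 2).2
      (fun h => by have := Nat.le_of_dvd two_pos h; omega), one_mul] at e3

theorem exists_dec {g : G} (hg : g ∉ Subgroup.center G) (h : ¬ IsPGroup p (Hg p g)) :
    ∃ ψ η, Dec p (fun x : Hg p g => ζ x) ψ η ∧ commutator (Hg p g) = ⊤ ∧
      ¬ p ^ 2 ∣ Nat.card (Hg p g) := by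
  have h1 := C.ih (Hg p g) fun h => hg (Subgroup.mem_center_iff.2 fun x =>
    Subgroup.mem_centralizer_singleton_iff.1 (Hg_le g (h ▸ Subgroup.mem_top x)))
  obtain ⟨ψ, η, D⟩ := exists_dec_closure C.chr C.faith C.le (fun _ h => h.2) (H := Hg p g) rfl h h1
  have h2 : pCore p (Hg p g) = ⊥ := by
    by_contra h2
    obtain ⟨z, hz, hz1, hz2⟩ := exists_pow_eq_one_of_ne_bot (H3.pCore_isPGroup p _) h2
    obtain ⟨c, -, h5⟩ := D.mu_center hz1 (D.cen hz)
    have := C.not_big (y := z) (congrArg Subtype.val hz1) (fun h => hz2 (Subtype.ext h)) c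
    have := D.big
    rw [mu_coe] at h5
    omega
  have h3 : commutator (Hg p g) ⊔ pCore p (Hg p g) = ⊤ := D.sup
  rw [h2, sup_bot_eq] at h3
  rw [h2, Subgroup.index_bot] at h1
  exact ⟨ψ, η, D, h3, h1⟩

theorem not_mem_center {Q : Subgroup G} (hQ : IsPGroup p Q) {u : G} (hu : u ∈ Q) (h1 : u ≠ 1) :
    u ∉ Subgroup.center G := fun h => by
  obtain ⟨k, hk⟩ := hQ ⟨u, hu⟩
  exact h1 (C.eq_one (congrArg Subtype.val hk) h)

theorem comm {Q : Subgroup G} (hQ : IsPGroup p Q) : ∀ a ∈ Q, ∀ b ∈ Q, a * b = b * a :=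
  comm_of_lt C.chr C.faith (by have := C.le; omega) hQ

variable (h2 : p ^ 2 ∣ Nat.card G)
include h2

theorem Hg_eq (Q : Sylow p G) {u : G} (hu : u ∈ (Q : Subgroup G)) (h1 : u ≠ 1) : Hg p u = Q := by
  have h3 : (Q : Subgroup G) ≤ Hg p u := fun a ha => mem_Hg Q.2 ha (C.comm Q.2 a ha u hu)
  refine Q.3 ?_ h3
  by_contra h
  obtain ⟨ψ, η, -, -, h4⟩ := C.exists_dec (C.not_mem_center Q.2 hu h1) h
  exact h4 ((Q.pow_dvd_card_of_pow_dvd_card h2).trans (Subgroup.card_dvd_of_le h3))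

theorem eq_of_mem {Q R : Sylow p G} {u : G} (hu : u ∈ (Q : Subgroup G)) (hu' : u ∈ (R : Subgroup G))
    (h1 : u ≠ 1) : Q = R := Sylow.ext ((C.Hg_eq h2 Q hu h1).symm.trans (C.Hg_eq h2 R hu' h1))

theorem isPGroup_Hg {g : G} (hg : g ∉ Subgroup.center G) : IsPGroup p (Hg p g) := by
  classical
  by_contra h
  obtain ⟨ψ, η, D, h3, h4⟩ := C.exists_dec hg h
  obtain ⟨R⟩ : Nonempty (Sylow p (commutator (Hg p g))) := inferInstance
  obtain ⟨⟨u, hu0⟩, hu, hu1⟩ := exists_mem_ne_one (D.card R)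
  have hu2 : u ^ p = 1 := by
    have := pow_card_eq_one' (x := (⟨⟨u, hu0⟩, hu⟩ : (R : Subgroup (commutator (Hg p g)))))
    rw [D.card R] at this
    exact congrArg (fun a => (a.1.1 : Hg p g)) this
  have hu3 : u ≠ 1 := fun h => hu1 (Subtype.ext h)
  have hu4 : (u : G) ^ p = 1 := congrArg Subtype.val hu2
  have hu5 : (u : G) ≠ 1 := fun h => hu3 (Subtype.ext h)
  obtain ⟨Q, hQ⟩ := (isPGroup_zpowers_of_orderOf_eq (orderOf_eq_prime hu4 hu5)).exists_le_sylow
  have hu6 := hQ (Subgroup.mem_zpowers _)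
  have hu7 : (u : G) * g = g * u := Subgroup.mem_centralizer_singleton_iff.1 (Hg_le g u.2)
  have h5 : g • Q = Q := C.eq_of_mem h2 (u := u) ⟨u, hu6, by simp [← hu7]⟩ hu6 hu5
  obtain ⟨a, ha, ha'⟩ : ∃ a ∈ (Q : Subgroup G), a ∉ Hg p g := by
    by_contra h
    push Not at h
    exact h4 ((Q.pow_dvd_card_of_pow_dvd_card h2).trans (Subgroup.card_dvd_of_le h))
  let a' : Subgroup.centralizer ({(u : G)} : Set G) :=
    ⟨a, Subgroup.mem_centralizer_singleton_iff.2 (C.comm Q.2 a ha u hu6)⟩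
  let g' : Subgroup.centralizer ({(u : G)} : Set G) :=
    ⟨g, Subgroup.mem_centralizer_singleton_iff.2 hu7.symm⟩
  obtain ⟨y, hy, hy1, hy2⟩ := exists_pow_eq_one_of_ne_bot (p := p)
    (N := (Q : Subgroup G).subgroupOf _ ⊓ commutator _) (Q.2.comap_subtype.to_le inf_le_left)
    ((Subgroup.ne_bot_iff_exists_ne_one).2 ⟨⟨⁅a', g'⁆, by
      change a * g * a⁻¹ * g⁻¹ ∈ (Q : Subgroup G)
      rw [mul_assoc, mul_assoc, ← mul_assoc g]
      exact mul_mem ha ((Subgroup.mem_normalizer_iff.1 (Sylow.smul_eq_iff_mem_normalizer.1 h5) _).1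
        (inv_mem ha)), Subgroup.commutator_mem_commutator trivial trivial⟩, fun h =>
          ha' (mem_Hg Q.2 ha (commutatorElement_eq_one_iff_commute.1
            (congrArg (fun a => (a.1.1 : G)) h)))⟩)
  obtain ⟨e1, e2⟩ := D.lin hu0 hu2 hu3
  have e3 := card_le_mu_zero C.chr hu4 hy1 hy.2
    ((Finset.univ.erase 0).filter fun s : ZMod p => mu u ψ s = 1) fun s hs => by
      simp only [Finset.mem_filter, Finset.mem_erase] at hs
      rw [← mu_coe, mu_add D.chr' D.chr D.add hu2, hs.2, mu_of_mem_ker D.chr hu2 (D.ker hu0),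
        if_neg hs.1.1]
  have e4 := sum_mu D.chr' hu2
  rw [← Finset.add_sum_erase _ _ (Finset.mem_univ 0), Finset.sum_congr rfl
    (g := fun s => if mu u ψ s = 1 then 1 else 0) fun s _ => by
      have := e1 s
      split_ifs <;> omega, ← Finset.card_filter] at e4
  have e5 := C.not_big (y := y) (congrArg Subtype.val hy1) (fun h => hy2 (Subtype.ext h)) 0
  omega

theorem false (P : Sylow p G) (hM : ∀ M : Subgroup G, M.Normal → (P : Subgroup G) ≤ M → M = ⊤) :
    False := by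
  classical
  have := Fintype.ofFinite G
  have h1 := H12.card_lt_one_add_degree_sq (P : Subgroup G) (C.comm P.2)
    (eq_bot_iff.2 fun z hz => by_contra fun h => C.not_mem_center P.2 hz.1 h hz.2)
    (fun g hg x ⟨h, hh, hne, he⟩ ⟨k, hk, kne, ke⟩ => by
      obtain ⟨R, hR⟩ := (C.isPGroup_Hg h2 hg).exists_le_sylow
      have e1 := C.eq_of_mem h2 hh (hR (mem_Hg P.2 hh he)) hne
      have e2 : x⁻¹ * k * x ∈ ((x⁻¹ • P : Sylow p G) : Subgroup G) := ⟨k, hk, by simp⟩
      have e3 := C.eq_of_mem h2 e2 (hR (mem_Hg (x⁻¹ • P).2 e2 (show _ = _ by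
        calc x⁻¹ * k * x * g = x⁻¹ * (k * (x * g * x⁻¹)) * x := by group
          _ = _ := by rw [ke]; group))) fun h => kne (by
        simpa [mul_assoc, inv_mul_eq_iff_eq_mul] using h)
      rw [← inv_mem_iff]
      exact Sylow.smul_eq_iff_mem_normalizer.1 (e3.trans e1.symm)) hM C.irr
    (H21.cast_charDegree C.chr).symm (by have := C.two_le; omega)
  have h4 := Nat.le_of_dvd Nat.card_pos (P.pow_dvd_card_of_pow_dvd_card h2)
  have h5 : (1 + charDegree ζ) ^ 2 < p ^ 2 := Nat.pow_lt_pow_left (by have := C.le; omega) two_ne_zero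
  omega

end Core

theorem exists_twist {ψ : G → ℂ} (hψ : IsIrrCharacter G ψ) (hd : charDegree ψ < p)
    (P : Sylow p G) : ∃ l : G →* ℂˣ, (∀ g, l g ^ Nat.card P = 1) ∧
      ∀ z ∈ Subgroup.center G, z ∈ (P : Subgroup G) → ψ z * l z = ψ 1 := by
  obtain ⟨n, ρ, hρ, rfl⟩ := hψ
  have h1 : charDegree ρ.character = n := H21.charDegree_eq (by simp)
  have h0 : 0 < n := by simpa using H11.finrank_pos_of_isIrreducible ρ
  obtain ⟨k, hk⟩ := P.2.exists_card_eq
  have h2 := Nat.ModEq.pow_totient (show ((P : Subgroup G).index * n).Coprime (Nat.card P) from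
    P.card_coprime_index.symm.mul_left
      (hk ▸ (Nat.coprime_of_lt_prime h0.ne' (h1 ▸ hd) hp.out).symm.pow_right k))
  obtain ⟨r, hr⟩ := Nat.exists_eq_succ_of_ne_zero (Nat.totient_pos.2 (Nat.card_pos (α := P))).ne'
  refine ⟨((LinearMap.det.comp ρ).toHomUnits ^ ((P : Subgroup G).index *
    ((P : Subgroup G).index * n) ^ r))⁻¹, fun g => ?_, fun z hz hz' => ?_⟩
  · rw [MonoidHom.inv_apply, MonoidHom.pow_apply, inv_pow, ← pow_mul, mul_right_comm,
      Subgroup.index_mul_card, pow_mul, ← map_pow, pow_card_eq_one', map_one, one_pow, inv_one]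
  · obtain ⟨c, hc⟩ := H11.exists_eq_smul_id_of_commute ρ (ρ z) fun g => by
      rw [← map_mul, ← map_mul, Subgroup.mem_center_iff.1 hz]
    have h3 : c ^ Nat.card P = 1 := by
      have e1 : z ^ Nat.card P = 1 := congrArg Subtype.val (pow_card_eq_one' (x := (⟨z, hz'⟩ : P)))
      have e2 := congrArg (fun g => ρ.character g) e1
      simp only [Representation.character, map_pow, hc, map_one, smul_pow, ← End.one_eq_id,
        one_pow, map_smul, smul_eq_mul] at e2
      exact mul_right_cancel₀ (by simp [h0.ne']) (e2.trans (one_mul _).symm)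
    have h4 : (((LinearMap.det.comp ρ).toHomUnits z : ℂˣ) : ℂ) = c ^ n := by
      change LinearMap.det (ρ z) = _
      simp [hc]
    rw [MonoidHom.inv_apply, MonoidHom.pow_apply, Units.val_inv_eq_inv_val, Units.val_pow_eq_pow_val,
      h4, ← pow_mul, show n * ((P : Subgroup G).index * ((P : Subgroup G).index * n) ^ r) =
        ((P : Subgroup G).index * n) ^ (r + 1) by ring, ← Nat.succ_eq_add_one, ← hr,
      pow_eq_pow_of_modEq h2 h3, pow_one, Representation.character, Representation.character, hc,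
      map_smul, map_one, smul_eq_mul, mul_right_comm, mul_inv_cancel₀, one_mul, End.one_eq_id]
    rintro rfl
    simp [Nat.card_pos.ne'] at h3

theorem feit_aux (m : ℕ) : ∀ (G : Type v) [Group G] [Finite G], Nat.card G = m →
    ∀ χ : G → ℂ, IsCharacter G χ → (∀ g, χ g = χ 1 → g = 1) → charDegree χ + 2 ≤ p →
      ¬ p ^ 2 ∣ (pCore p G).index := by
  induction m using Nat.strong_induction_on with
  | _ m ih =>
  intro G _ _ hm χ hχ hf hd h2
  obtain ⟨P⟩ : Nonempty (Sylow p G) := inferInstance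
  have h3 : ∀ H : Subgroup G, H ≠ ⊤ → ¬ p ^ 2 ∣ (pCore p H).index := fun H hH =>
    ih _ (hm ▸ lt_of_not_ge fun h => hH (Subgroup.eq_top_of_le_card H h)) H rfl _
      (H11.isCharacter_restrict hχ H) (fun g hg => Subtype.ext (hf g hg)) hd
  have hn : ¬ (P : Subgroup G).Normal := fun h =>
    P.not_dvd_index (H3.pCore_eq_sylow_of_normal P ▸ (dvd_pow_self p two_ne_zero).trans h2)
  have hM : ∀ M : Subgroup G, M.Normal → (P : Subgroup G) ≤ M → M = ⊤ := fun M hM h => by
    by_contra h'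
    rw [← Subgroup.relIndex_mul_index ((H3.pCore_le_sylow P).trans h)] at h2
    refine h3 M h' (H3.pCore_subgroupOf_eq (p := p) M ▸ ?_)
    exact (hp.out.coprime_pow_of_not_dvd (not_dvd_index_of_le h)).symm.dvd_of_dvd_mul_right h2
  obtain ⟨ψ, η, h4, h5, h6, h7, h8⟩ := exists_big hχ hf hd hM hn
  have h9 := degree_add (H11.isCharacter_of_irr h4) h5 h6
  obtain ⟨l, hl1, hl2⟩ := exists_twist h4 (by omega) P
  have h10 := H11.isIrrCharacter_mul_linear h4 (H11.isCharacter_monoidHom l) (by simp)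
  have h11 : charDegree (ψ * fun g => (l g : ℂ)) = charDegree ψ := by simp [charDegree]
  have := H11.charKer_normal (H11.isClassFunction_of_irr h10)
  have := H11.charKer_normal (H11.isClassFunction_of_isCharacter h5)
  have h12 : H11.charKer (ψ * fun g => (l g : ℂ)) = pCore p G := by
    refine le_antisymm (H3.le_pCore fun g => ?_) fun z hz => (H11.mem_charKer_irr_iff h10).2
      (by simpa using hl2 z (pCore_le_center hχ hf hd hM hz) (H3.pCore_le_sylow P hz))
    obtain ⟨k, hk⟩ := P.2.exists_card_eq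
    refine ⟨k, Subtype.ext (hf _ ?_)⟩
    have e1 := H11.apply_eq_of_mem_charKer (pow_mem g.2 (Nat.card P))
    simp only [Pi.mul_apply, map_pow, hl1, map_one, Units.val_one, mul_one] at e1
    obtain ⟨a, ha, b, hb, hab⟩ := Subgroup.mem_sup_of_normal_right.1 (h8 ▸ Subgroup.mem_top (g : G))
    have e2 : (g : G) ^ Nat.card P ∈ H11.charKer η := by
      rw [← QuotientGroup.eq_one_iff, QuotientGroup.mk_pow, ← hab, QuotientGroup.mk_mul_of_mem a hb,
        ← QuotientGroup.mk_pow, show a ^ Nat.card P = 1 from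
          congrArg Subtype.val (pow_card_eq_one' (x := (⟨a, ha⟩ : P))), QuotientGroup.mk_one]
    rw [h6, ← hk, SubmonoidClass.coe_pow, Pi.add_apply, e1, H11.apply_eq_of_mem_charKer e2]
    rfl
  have := H3.pCore_characteristic p G
  by_cases h0 : pCore p G = ⊥
  · have e1 : ∀ g, (ψ * fun g => (l g : ℂ)) g = (ψ * fun g => (l g : ℂ)) 1 → g = 1 := fun g hg =>
      Subgroup.mem_bot.1 (h0 ▸ h12 ▸ (H11.mem_charKer_irr_iff h10).2 hg)
    rw [h0, Subgroup.index_bot] at h2
    exact Core.false ⟨h10, e1, by omega, fun h => hn (normal_of_commutator_eq_bot (eq_bot_iff.2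
      (h0 ▸ h12 ▸ H11.commutator_le_charKer (H11.isCharacter_of_irr h10) h)) _), h0, h3⟩ h2 P hM
  · obtain ⟨θ, e1, e2⟩ := H11.exists_irr_lift h10 _ h12.ge
    have e3 : charDegree θ = charDegree (ψ * fun g => (l g : ℂ)) := by
      rw [charDegree, charDegree, ← e2]; rfl
    refine ih _ ?_ (G ⧸ pCore p G) rfl θ (H11.isCharacter_of_irr e1) (fun g hg => ?_)
      (by omega) (by rwa [H3.pCore_quotient_pCore, Subgroup.index_bot])
    · rw [← hm, ← Subgroup.card_mul_index (pCore p G)]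
      exact lt_mul_left Nat.card_pos ((Subgroup.one_lt_card_iff_ne_bot _).2 h0)
    · obtain ⟨g, rfl⟩ := QuotientGroup.mk_surjective g
      exact (QuotientGroup.eq_one_iff g).2 (h12 ▸ (H11.mem_charKer_irr_iff h10).2
        (by rw [← e2, hg, ← e2]; rfl))

/-- Feit's theorem. -/
theorem feit {χ : G → ℂ} (hχ : IsCharacter G χ) (hf : ∀ g, χ g = χ 1 → g = 1)
    (hd : charDegree χ + 2 ≤ p) : ¬ p ^ 2 ∣ (pCore p G).index :=
  feit_aux _ G rfl χ hχ hf hd

end Cfsg.Agent.H58
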