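import Cfsg.Agent.H58.LinT3
import Cfsg.Agent.H58.PD

/-! Reduction of linear groups of degree at most `p - 2` to perfect groups. -/

namespace Cfsg.Agent.H58

open Cfsg Module
open scoped ComplexConjugate commutatorElement Pointwise MatrixGroups

set_option linter.unusedSectionVars false

universe v

variable {G : Type v} [Group G] [Finite G] {p : ℕ} [hp : Fact p.Prime]

theorem sup_center_of_equiv (hp5 : 5 ≤ p) (φ : G ⧸ Subgroup.center G ≃* PSL(2, ZMod p)) :
    commutator G ⊔ Subgroup.center G = ⊤ := by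
  have := Matrix.ProjectiveSpecialLinearGroup.rank_two_simple (F := ZMod p) (by simp; omega)
  have := φ.isSimpleGroup
  have h1 := Subgroup.comap_map_eq (QuotientGroup.mk' (Subgroup.center G)) (commutator G)
  rw [QuotientGroup.ker_mk', map_commutator_eq, MonoidHom.range_eq_top.2
    (QuotientGroup.mk'_surjective _), ← commutator_def] at h1
  rw [← h1]
  rcases (inferInstance : (commutator (G ⧸ Subgroup.center G)).Normal).eq_bot_or_eq_top with h | h
  · obtain ⟨Q⟩ : Nonempty (Sylow p (G ⧸ Subgroup.center G)) := inferInstance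
    have h2 := H28.card_PSL2 (ZMod.card p)
    rw [← Nat.card_congr φ.toEquiv] at h2
    obtain ⟨k, hk⟩ := hp.out.odd_of_ne_two (by omega)
    rw [show Nat.gcd 2 (p - 1) = 2 from Nat.gcd_eq_left ⟨k, by omega⟩] at h2
    have h3 : p ∣ Nat.card (G ⧸ Subgroup.center G) :=
      (Nat.Coprime.dvd_mul_left ((Nat.coprime_primes hp.out Nat.prime_two).2 (by omega))).1
        ⟨_, h2⟩
    rcases (normal_of_commutator_eq_bot h Q).eq_bot_or_eq_top with h4 | h4
    · exact (Q.ne_bot_of_dvd_card h3 h4).elim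
    · obtain ⟨j, hj⟩ := Q.2.exists_card_eq
      rw [h4, Subgroup.card_top] at hj
      have h5 : p ^ 2 - 1 = 4 * (k * (k + 1)) := by rw [hk]; ring_nf; omega
      have h6 : 2 ∣ p ^ j := ⟨p * (k * (k + 1)), by rw [h5, hj] at h2; linarith⟩
      have := (Nat.prime_dvd_prime_iff_eq Nat.prime_two hp.out).1 (Nat.prime_two.dvd_of_dvd_pow h6)
      omega
  · rw [h, Subgroup.comap_top]

theorem two_le_degree {ζ : G → ℂ} (hζ : IsIrrCharacter G ζ) (hf : ∀ g, ζ g = ζ 1 → g = 1)
    {K : Subgroup G} (hn : ¬ K.Normal) : 2 ≤ charDegree ζ := by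
  obtain ⟨n, h0, h1⟩ := H11.exists_pos_degree hζ
  have : n ≠ 1 := fun h => hn (normal_of_commutator_eq_bot (eq_bot_iff.2
    (ker_eq_bot (H11.isCharacter_of_irr hζ) hf ▸ H11.commutator_le_charKer
      (H11.isCharacter_of_irr hζ) (by rw [h1, h, Nat.cast_one]))) K)
  rw [H21.charDegree_eq h1]
  omega

theorem Sett.cases {P : Sylow p G} {u x : G} {α : ZMod p} {e : ℕ} [Fintype G] (S : Sett P u x α e)
    (hn : ¬ (P : Subgroup G).Normal) {ζ : IrrCharacter G} (hf : ∀ g, ζ.1 g = ζ.1 1 → g = 1)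
    (hd : charDegree ζ.1 + 2 ≤ p) :
    (2 * charDegree ζ.1 + 1 = p ∧ Nonempty (G ⧸ Subgroup.center G ≃* PSL(2, ZMod p))) ∨
      (Cen P u ∧ charDegree ζ.1 + e = p ∧ ∃ ω ψ, ∃ a ≠ 0, Fam u α e ω ψ (-1) 1 ∧ ζ = ψ a) := by
  have hζ := H11.irr_isCharacter ζ
  obtain ⟨t, ht⟩ := S.e_dvd
  have h0 := S.e_pos
  refine (S.small_cases hn hf hd).imp_left fun ⟨a, ha, f, h1, h2, h3⟩ => ?_
  have h4 : e ≤ e * f := Nat.le_mul_of_pos_right _ h1
  obtain ⟨-, K, _, -, -, h5 | ⟨h5, -⟩⟩ := S.cases_of_small hn hζ hf hd (Or.inr ⟨_, by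
    rw [S.card_cst ha]
    rcases t with _ | _ | t
    · omega
    · omega
    · rw [mul_add, mul_add] at ht; omega, h3⟩)
  · omega
  obtain rfl : f = 1 := by
    rcases f with _ | _ | f
    · omega
    · rfl
    · rw [mul_add, mul_add] at h2; omega
  exact ⟨by omega, (S.equiv_of_small hn hζ hf (by omega)).2.2⟩

theorem five_le {ζ : G → ℂ} (hζ : IsIrrCharacter G ζ) (hf : ∀ g, ζ g = ζ 1 → g = 1)
    {K : Subgroup G} (hn : ¬ K.Normal) (hd : charDegree ζ + 2 ≤ p) : 5 ≤ p := by
  have := two_le_degree hζ hf hn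
  have : p ≠ 4 := by rintro rfl; exact absurd hp.out (by decide)
  omega

theorem Sett.sup_center {P : Sylow p G} {u x : G} {α : ZMod p} {e : ℕ} (S : Sett P u x α e)
    (hn : ¬ (P : Subgroup G).Normal) {ζ : G → ℂ} (hζ : IsIrrCharacter G ζ)
    (hf : ∀ g, ζ g = ζ 1 → g = 1) (hd : charDegree ζ + 2 ≤ p) :
    commutator G ⊔ Subgroup.center G = ⊤ := by
  have := Fintype.ofFinite G
  have h0 := two_le_degree hζ hf hn
  rcases S.cases hn (ζ := ⟨ζ, hζ⟩) hf hd with ⟨-, ⟨φ⟩⟩ | ⟨hC, h1, ω, ψ, a, -, F, -⟩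
  · exact sup_center_of_equiv (five_le hζ hf hn hd) φ
  · change charDegree ζ + e = p at h1
    exact F.commutator_sup_center S hC (by omega) (by omega)

theorem Hg_one_normal : (Hg p (1 : G)).Normal := ⟨fun a ha g => by
  refine Subgroup.closure_induction (p := fun a _ => g * a * g⁻¹ ∈ Hg p (1 : G))
    (fun a h => Subgroup.subset_closure ⟨Commute.one_right _, h.2.imp fun k hk => by
      rw [conj_pow, hk, mul_one, mul_inv_cancel]⟩) (by simp) (fun a b _ _ h h' => ?_)
    (fun a _ h => ?_) ha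
  · simpa only [conj_mul] using mul_mem h h'
  · simpa only [conj_inv] using inv_mem h⟩

section Red

variable {χ : G → ℂ} (hχ : IsIrrCharacter G χ) (hf : ∀ g, χ g = χ 1 → g = 1)
  (hd : charDegree χ + 2 ≤ p) {P : Sylow p G} (hn : ¬ (P : Subgroup G).Normal)
include hχ hf

theorem mem_center_of_norm {z : G} (h : ‖χ z‖ = ‖χ 1‖) : z ∈ Subgroup.center G := by
  rwa [← H11.charCenter_eq_center hχ (ker_eq_bot (H11.isCharacter_of_irr hχ) hf),
    H11.mem_charCenter_iff (H11.isCharacter_of_irr hχ)]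

include hd hn

theorem pCore_le_center' : pCore p G ≤ Subgroup.center G := fun z hz => by
  classical
  have hχ' := H11.isCharacter_of_irr hχ
  have := Hg_one_normal (p := p) (G := G)
  have h1 : (P : Subgroup G) ≤ Hg p 1 := fun a ha => mem_Hg P.2 ha (Commute.one_right _)
  obtain ⟨ψ, η, D⟩ := exists_dec_closure hχ' hf hd (fun _ h => h.2) (H := Hg p 1) rfl
    (fun h => hn (P.3 h h1 ▸ this)) (feit (H11.isCharacter_restrict hχ' _)
      (fun g hg => Subtype.ext (hf g hg)) hd)
  have h2 : η = 0 := by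
    by_contra h2
    have := Fintype.ofFinite ↥⁅Hg p (1 : G), Hg p (1 : G)⁆
    let f := Subgroup.inclusion (Subgroup.commutator_le_left (Hg p (1 : G)) (Hg p 1))
    have h3 : ∀ n, f n ∈ commutator (Hg p (1 : G)) := fun n => by
      obtain ⟨m, hm, hm'⟩ := (Subgroup.map_subtype_commutator (Hg p (1 : G))).ge n.2
      rwa [show f n = m from Subtype.ext hm'.symm]
    have h4 := H11.le_charKer_of_classInner_ne_zero hχ ⁅Hg p (1 : G), Hg p (1 : G)⁆ (by
      have h5 := H11.classInner_add_ne_zero (H11.isCharacter_comp D.chr f)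
        (H11.isCharacter_comp D.chr' f) H11.isCharacter_one (by
          rw [show (fun n => η (f n)) = η 1 • fun _ => (1 : ℂ) from funext fun n => by
            simpa using H11.apply_eq_of_mem_charKer (D.ker (h3 n)), H11.classInner_smul_left,
            H11.classInner_one_one, mul_one]
          exact fun h => h2 (H11.eq_zero_of_apply_one_eq_zero D.chr h))
      convert h5 using 2
      exact funext fun n => (congrFun D.add (f n)).trans (add_comm _ _))
    rw [ker_eq_bot hχ' hf, ← Subgroup.map_subtype_commutator, le_bot_iff,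
      Subgroup.map_eq_bot_iff_of_injective _ (Subgroup.subtype_injective _)] at h4
    obtain ⟨u, -, hu⟩ := exists_mem_ne_one (D.card (Classical.arbitrary _))
    exact hu (Subtype.ext (Subgroup.mem_bot.1 (h4 ▸ u.2)))
  have h3 : (⟨z, h1 (H3.pCore_le_sylow P hz)⟩ : Hg p (1 : G)) ∈ pCore p (Hg p (1 : G)) :=
    H3.pCore_subgroupOf_le _ hz
  have h4 := (H11.mem_charCenter_iff D.chr').1 (H11.center_le_charCenter D.irr (D.cen h3))
  have h5 : ψ = fun g : Hg p (1 : G) => χ g := by rw [D.add, h2, add_zero]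
  rw [h5] at h4
  exact mem_center_of_norm hχ hf h4

theorem sylow_commutator (Q : Sylow p (commutator G)) :
    Nat.card Q = p ∧ ¬ (Q : Subgroup (commutator G)).Normal := by
  have hχ' := H11.isCharacter_of_irr hχ
  have := H3.pCore_characteristic p G
  have h8 : ∀ z ∈ commutator G, z ∈ pCore p G → z = 1 := fun z h h' => by
    obtain ⟨k, hk⟩ := H3.pCore_isPGroup p G ⟨z, h'⟩
    exact eq_one_of_center hχ' hf (by omega) (pCore_le_center' hχ hf hd hn h') h
      (congrArg Subtype.val hk)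
  have h9 : (pCore p G).relIndex (commutator G) = Nat.card (commutator G) := by
    rw [← H3.card_inf_mul_relIndex (pCore p G), show pCore p G ⊓ commutator G = ⊥ from
      eq_bot_iff.2 fun z hz => h8 z hz.2 hz.1, Subgroup.card_bot, one_mul]
  have h10 : p ∣ Nat.card (commutator G) := by
    by_contra h
    have := (S4468.result χ hχ' hf _ rfl p hp.out (H24.isPSolvable_of_normal_of_quotient
      (commutator G) (Or.inr ((Nat.Prime.coprime_iff_not_dvd hp.out).2 h).symm)
      (H24.isPSolvable_of_isSolvable hp.out (Abelianization G) inferInstance)) (by omega) P hn).1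
    omega
  have h12 := card_sylow_eq_of_not_sq_dvd h10 (fun h => feit hχ' hf hd
    (h.trans (h9 ▸ Subgroup.relIndex_dvd_index_of_normal _ _))) Q
  refine ⟨h12, fun hQ => ?_⟩
  have := Q.characteristic_of_normal hQ
  have h13 : (Q : Subgroup _).map (commutator G).subtype ≤ pCore p G := H3.le_pCore (Q.2.map _)
  obtain ⟨u, hu, hu1⟩ := exists_mem_ne_one h12
  exact hu1 (Subtype.ext (h8 u u.2 (h13 ⟨u, hu, rfl⟩)))

theorem commutator_sup_center : commutator G ⊔ Subgroup.center G = ⊤ := by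
  have hχ' := H11.isCharacter_of_irr hχ
  have h7 := pCore_le_center' hχ hf hd hn
  obtain ⟨l, hl1, hl2⟩ := exists_twist hχ (by omega) P
  have h10 := H11.isIrrCharacter_mul_linear hχ (H11.isCharacter_monoidHom l) (by simp)
  have := H11.charKer_normal (H11.isClassFunction_of_irr h10)
  have h12 : H11.charKer (χ * fun g => (l g : ℂ)) = pCore p G := by
    refine le_antisymm (H3.le_pCore fun g => ?_) fun z hz => (H11.mem_charKer_irr_iff h10).2
      (by simpa using hl2 z (h7 hz) (H3.pCore_le_sylow P hz))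
    obtain ⟨k, hk⟩ := P.2.exists_card_eq
    refine ⟨k, Subtype.ext (hf _ ?_)⟩
    have e1 := H11.apply_eq_of_mem_charKer (pow_mem g.2 (Nat.card P))
    simp only [Pi.mul_apply, map_pow, hl1, map_one, Units.val_one, mul_one] at e1
    rwa [← hk, SubmonoidClass.coe_pow]
  have := H3.pCore_characteristic p G
  obtain ⟨θ, e1, e2⟩ := H11.exists_irr_lift h10 _ h12.ge
  have e3 : charDegree θ = charDegree χ := by
    rw [charDegree, charDegree, ← QuotientGroup.mk_one, e2]; simp
  obtain ⟨Q⟩ : Nonempty (Sylow p (G ⧸ pCore p G)) := inferInstance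
  have e4 := card_sylow_eq_of_not_sq_dvd (by
    by_contra h
    exact hn (le_antisymm (le_of_not_dvd_index P.2 h) (H3.pCore_le_sylow P) ▸ inferInstance))
    (feit hχ' hf hd) Q
  obtain ⟨u, x, α, e, S⟩ := exists_sett Q e4
  have e5 := S.sup_center (fun h => S.u_ne (Subgroup.mem_bot.1
    (H3.pCore_quotient_pCore p G ▸ H3.le_pCore Q.2 S.u_mem))) e1 (fun g hg => by
      obtain ⟨g, rfl⟩ := QuotientGroup.mk_surjective g
      exact (QuotientGroup.eq_one_iff g).2 (h12 ▸ (H11.mem_charKer_irr_iff h10).2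
        (by rw [← e2, hg, ← e2]; rfl))) (by omega)
  refine eq_top_iff.2 fun g _ => ?_
  obtain ⟨k, hk, z, hz, h⟩ := Subgroup.mem_sup_of_normal_right.1
    (e5 ▸ Subgroup.mem_top (g : G ⧸ pCore p G))
  rw [commutator_def, ← MonoidHom.range_eq_top.2 (QuotientGroup.mk'_surjective (pCore p G)),
    ← map_commutator_eq] at hk
  obtain ⟨k, hk, rfl⟩ := hk
  obtain ⟨z, rfl⟩ := QuotientGroup.mk_surjective z
  have e6 := (H11.mem_charCenter_iff (H11.isCharacter_of_irr e1)).1 (H11.center_le_charCenter e1 hz)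
  rw [← QuotientGroup.mk_one, e2, e2] at e6
  simp only [Pi.mul_apply, norm_mul, H11.norm_monoidHom_apply, mul_one] at e6
  rw [← mul_inv_cancel_left (k * z) g]
  exact mul_mem (mul_mem (Subgroup.mem_sup_left hk)
    (Subgroup.mem_sup_right (mem_center_of_norm hχ hf e6)))
    (Subgroup.mem_sup_right (h7 (QuotientGroup.eq.1 h)))

end Red

theorem perfect_of_sup (hK : commutator G ⊔ Subgroup.center G = ⊤) :
    commutator (commutator G) = ⊤ := by
  apply Subgroup.map_injective (commutator G).subtype_injective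
  rw [← MonoidHom.range_eq_map, Subgroup.range_subtype, Subgroup.map_subtype_commutator]
  refine le_antisymm (Subgroup.commutator_le_left _ _) ?_
  conv_lhs => rw [commutator_def]
  refine Subgroup.commutator_le.2 fun a _ b _ => ?_
  obtain ⟨k, hk, z, hz, rfl⟩ := Subgroup.mem_sup_of_normal_right.1 (hK ▸ Subgroup.mem_top a)
  obtain ⟨l, hl, w, hw, rfl⟩ := Subgroup.mem_sup_of_normal_right.1 (hK ▸ Subgroup.mem_top b)
  have h1 := Subgroup.mem_center_iff.1 hz
  have h2 := Subgroup.mem_center_iff.1 hw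
  have : k * z * (l * w) * (k * z)⁻¹ * (l * w)⁻¹ = k * l * k⁻¹ * l⁻¹ := by
    simp only [mul_inv_rev]
    calc k * z * (l * w) * (z⁻¹ * k⁻¹) * (w⁻¹ * l⁻¹)
        = k * (z * (l * w)) * (z⁻¹ * k⁻¹) * (w⁻¹ * l⁻¹) := by group
      _ = k * l * (w * k⁻¹) * (w⁻¹ * l⁻¹) := by rw [← h1]; group
      _ = _ := by rw [← h2]; group
  rw [commutatorElement_def, this]
  exact Subgroup.commutator_mem_commutator hk hl

theorem mem_center_of_sup {K : Subgroup G} (hK : K ⊔ Subgroup.center G = ⊤) {k : K} :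
    k ∈ Subgroup.center K ↔ (k : G) ∈ Subgroup.center G := by
  refine ⟨fun h => Subgroup.mem_center_iff.2 fun g => ?_, fun h => Subgroup.mem_center_iff.2
    fun g => Subtype.ext (Subgroup.mem_center_iff.1 h g)⟩
  obtain ⟨a, ha, z, hz, rfl⟩ := Subgroup.mem_sup_of_normal_right.1 (hK ▸ Subgroup.mem_top g)
  have h1 : a * k = k * a := congrArg Subtype.val (Subgroup.mem_center_iff.1 h ⟨a, ha⟩)
  rw [mul_assoc, ← Subgroup.mem_center_iff.1 hz, ← mul_assoc, h1, mul_assoc]

theorem quotient_equiv_of_sup {K : Subgroup G} (hK : K ⊔ Subgroup.center G = ⊤) :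
    Nonempty (G ⧸ Subgroup.center G ≃* K ⧸ Subgroup.center K) := by
  refine ⟨(QuotientGroup.quotientKerEquivOfSurjective
    ((QuotientGroup.mk' (Subgroup.center G)).comp K.subtype) fun g => ?_).symm.trans
    (QuotientGroup.quotientMulEquivOfEq (Subgroup.ext fun k => ?_))⟩
  · obtain ⟨g, rfl⟩ := QuotientGroup.mk_surjective g
    obtain ⟨a, ha, z, hz, rfl⟩ := Subgroup.mem_sup_of_normal_right.1 (hK ▸ Subgroup.mem_top g)
    exact ⟨⟨a, ha⟩, (QuotientGroup.mk_mul_of_mem a hz).symm⟩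
  · rw [mem_center_of_sup hK]
    exact QuotientGroup.eq_one_iff _

namespace Sett

variable {P : Sylow p G} {u x : G} {α : ZMod p} {e : ℕ} (S : Sett P u x α e) [Fintype G]
  (hC : Cen P u)
include S hC

theorem not_mem_center : u ∉ Subgroup.center G := fun h =>
  S.not_dvd_of_mem_center hC.nn h (S.ou ▸ dvd_rfl)

theorem conj_eq {g : G} {i : ZMod p}
    (h : (g : G ⧸ Subgroup.center G) * u * (g : G ⧸ Subgroup.center G)⁻¹ =
      upow (u : G ⧸ Subgroup.center G) i) : g ∈ Subgroup.normalizer ((P : Subgroup G) : Set G) :=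
  S.mem_normalizer_of_conj (S.not_mem_center hC)
    (fun _ hk => Subgroup.mem_center_iff.1 hk u) (i := i) (QuotientGroup.eq.1 h.symm)

theorem orderOf_mk : orderOf (u : G ⧸ Subgroup.center G) = p := orderOf_eq_prime
  (by rw [← QuotientGroup.mk_pow, S.up]; rfl)
  fun h => S.not_mem_center hC ((QuotientGroup.eq_one_iff u).1 h)

theorem quot : Sett (P.mapSurjective (QuotientGroup.mk'_surjective (Subgroup.center G)))
    (u : G ⧸ Subgroup.center G) x α e := by
  have h1 : ((P.mapSurjective (QuotientGroup.mk'_surjective (Subgroup.center G)) : Sylow p _) :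
      Subgroup _) = Subgroup.zpowers (u : G ⧸ Subgroup.center G) := by
    rw [Sylow.coe_mapSurjective, S.hP, MonoidHom.map_zpowers]; rfl
  refine ⟨h1, S.orderOf_mk hC, congrArg (QuotientGroup.mk' _) S.xu, S.α0, S.oα,
    fun h => S.xreg (h.trans (orderOf_map_dvd (QuotientGroup.mk' _) x)), fun g hg => ?_⟩
  obtain ⟨g, rfl⟩ := QuotientGroup.mk_surjective g
  obtain ⟨i, hi⟩ := exists_upow (S.orderOf_mk hC)
    (h1 ▸ (Subgroup.mem_normalizer_iff.1 hg _).1 (h1 ▸ Subgroup.mem_zpowers _))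
  obtain ⟨j, hj⟩ := S.gen g (S.conj_eq hC hi.symm)
  exact ⟨j, congrArg (QuotientGroup.mk' _) hj⟩

theorem quot_cen (c : G ⧸ Subgroup.center G) (h : Commute (u : G ⧸ Subgroup.center G) c) :
    c ∈ Subgroup.zpowers (u : G ⧸ Subgroup.center G) := by
  obtain ⟨c, rfl⟩ := QuotientGroup.mk_surjective c
  obtain ⟨j, hj⟩ := S.gen c (S.conj_eq hC (i := 1) (by rw [upow_one, ← h.eq, mul_inv_cancel_right]))
  have h1 : α ^ j = 1 := upow_injective (S.orderOf_mk hC) (by
    rw [upow_one]
    exact (congrArg (QuotientGroup.mk' _) hj).symm.trans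
      (show (c : G ⧸ Subgroup.center G) * u * (c : G ⧸ Subgroup.center G)⁻¹ = u by
        rw [← h.eq, mul_inv_cancel_right]))
  rw [h1, upow_one, mul_inv_eq_iff_eq_mul] at hj
  obtain ⟨i, z, hz, rfl⟩ := S.exists_upow_mul_center hC hj.symm
  rw [QuotientGroup.mk_mul_of_mem _ hz]
  exact upow_mem_zpowers (u : G ⧸ Subgroup.center G) i

theorem quot_pow : (x : G ⧸ Subgroup.center G) ^ e = 1 :=
  (QuotientGroup.eq_one_iff _).2 (S.pow_mem_center hC dvd_rfl)

theorem quot_simple (hG : commutator G = ⊤) {ζ : G → ℂ} (hζ : IsCharacter G ζ)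
    (hf : ∀ g, ζ g = ζ 1 → g = 1) (hd : charDegree ζ + 2 ≤ p) :
    IsSimpleGroup (G ⧸ Subgroup.center G) ∧ commutator (G ⧸ Subgroup.center G) = ⊤ := by
  have := Fintype.ofFinite (G ⧸ Subgroup.center G)
  have h1 : commutator (G ⧸ Subgroup.center G) = ⊤ := by
    rw [commutator_def, ← MonoidHom.range_eq_top.2 (QuotientGroup.mk'_surjective _),
      ← map_commutator_eq, hG, MonoidHom.range_eq_map]
  refine ⟨(SelfCent.of_one _ (S.quot hC).card_P fun c hc => (S.quot hC).hP ▸
    S.quot_cen hC c ((S.quot hC).mem_C.1 hc)).isSimpleGroup h1 fun K _ hK => ?_, h1⟩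
  refine eq_bot_iff.2 fun k hk => ?_
  obtain ⟨k, rfl⟩ := QuotientGroup.mk_surjective k
  have h2 : ¬ p ∣ Nat.card (K.comap (QuotientGroup.mk' (Subgroup.center G))) :=
    S.not_dvd_card fun h => (Nat.Prime.coprime_iff_not_dvd hp.out).1 hK.symm
      (S.orderOf_mk hC ▸ K.orderOf_dvd_natCard h)
  exact (QuotientGroup.eq_one_iff k).2 (hC.cen k (S.commute_of_normal hζ hf hd _ h2 hk)
    fun h => h2 (h.trans (Subgroup.orderOf_dvd_natCard _ hk)))

end Sett

end Cfsg.Agent.H58
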