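import Cfsg.Agent.H58.LinT4
import Cfsg.Agent.H13.ChTools

/-! The principal block of the central quotient, and rationality of the exceptional characters. -/

namespace Cfsg.Agent.H58

open Cfsg Module
open scoped ComplexConjugate

set_option linter.unusedSectionVars false

universe v

variable {G : Type v} [Group G] [Fintype G] {p : ℕ} [hp : Fact p.Prime] {P : Sylow p G} {u x : G}
  {α : ZMod p} {e t : ℕ}

theorem mu_of_const {χ : G → ℂ} (hχ : IsCharacter G χ) (hu : u ^ p = 1) {c : ℤ}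
    (h : ∀ i : ZMod p, i ≠ 0 → χ (upow u i) = c) {s : ZMod p} (hs : s ≠ 0) :
    (mu u χ (0 : ZMod p) : ℤ) = mu u χ s + c := by
  obtain ⟨r, hr⟩ := fco_eq_add (f := fun i : ZMod p => χ (upow u i))
    (c := fun t => if t = 0 then c else 0)
    fun i hi => by simp [h i hi]
  have h1 := hr 0
  have h2 := hr s
  rw [← cast_mu hχ hu] at h1 h2
  rw [if_neg hs, zero_add] at h2
  rw [if_pos rfl, ← h2, add_comm] at h1
  exact_mod_cast h1

theorem degree_eq_of_const {χ : G → ℂ} (hχ : IsCharacter G χ) (hu : u ^ p = 1) {f : ℕ}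
    (h : ∀ s : ZMod p, s ≠ 0 → mu u χ s = f) :
    charDegree χ + f = mu u χ (0 : ZMod p) + p * f := by
  rw [← sum_mu hχ hu, ← Finset.add_sum_erase _ _ (Finset.mem_univ 0),
    Finset.sum_congr rfl fun s hs => h s (Finset.ne_of_mem_erase hs), Finset.sum_const,
    Finset.card_erase_of_mem (Finset.mem_univ _), Finset.card_univ, ZMod.card, smul_eq_mul,
    add_assoc, ← Nat.succ_mul, Nat.succ_eq_add_one, Nat.sub_add_cancel hp.out.one_le]

theorem Sett.fixDim_eq (S : Sett P u x α e) {χ : G → ℂ} (hχ : IsCharacter G χ) :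
    fixDim P χ = mu u χ (0 : ZMod p) := by
  classical
  refine fixDim_eq_of hχ ?_
  rw [cast_mu hχ S.up, S.card_P, fco, mul_inv_cancel_left₀ p_ne_zero, sumOn_eq_sum]
  simp only [zero_mul, neg_zero, ee_zero, mul_one]
  refine (Fintype.sum_bijective (fun i : ZMod p => (⟨upow u i, S.upow_mem i⟩ : (P : Subgroup G)))
    ⟨fun i j h => upow_injective S.ou (congrArg Subtype.val h), fun y => ?_⟩
    (fun i => χ (upow u i)) (fun y => χ y) fun _ => rfl).symm
  obtain ⟨i, hi⟩ := exists_upow S.ou (by rw [← S.hP]; exact y.2 : y.1 ∈ Subgroup.zpowers u)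
  exact ⟨i, Subtype.ext hi⟩

namespace Fam

variable {ω : G → ℂ} {ψ : ZMod p → IrrCharacter G} {ε : ℤ} {k : ℕ} (F : Fam u α e ω ψ ε k)
  (S : Sett P u x α e)
include F S

theorem exists_mu_ne (hep : e + 1 < p) {a : ZMod p} (ha : a ≠ 0) :
    ∃ b ≠ (0 : ZMod p), mu u (ψ a).1 a ≠ mu u (ψ a).1 b := by
  obtain ⟨b, hb, hb'⟩ := S.exists_notMem_cst hep a
  have h1 := F.mu_eq a ha a
  have h2 := F.mu_eq a ha b
  rw [if_pos (S.self_mem_cst a)] at h1
  rw [if_neg hb'] at h2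
  exact ⟨b, hb, by rcases F.eps with h | h <;> omega⟩

theorem exists_eq (hC : Cen P u) {χ : IrrCharacter G}
    (hω : ∀ z ∈ Subgroup.center G, ∀ g, χ.1 (g * z) = ω z * χ.1 g) {a b : ZMod p} (ha : a ≠ 0)
    (hb : b ≠ 0) (h : mu u χ.1 a ≠ mu u χ.1 b) : ∃ c ≠ 0, χ = ψ c := by
  by_contra h0
  push Not at h0
  have h1 := F.inner_sub S hC (H11.irr_isCharacter χ) hω ha hb
  rw [H11.classInner_irr_of_ne χ.2 (ψ a).2 fun h => h0 a ha (Subtype.ext h),
    H11.classInner_irr_of_ne χ.2 (ψ b).2 fun h => h0 b hb (Subtype.ext h), sub_zero, eq_comm,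
    mul_eq_zero, sub_eq_zero, Nat.cast_inj, Int.cast_eq_zero] at h1
  rcases F.eps with h2 | h2 <;> omega

theorem apply_pow (hC : Cen P u) (hep : e + 1 < p) {a : ZMod p} (ha : a ≠ 0) {K : ℕ}
    (hK : K.Coprime (Nat.card G)) (hZ : ∀ z ∈ Subgroup.center G, z ^ K = z) {g : G}
    (hg : ¬ p ∣ orderOf g) : (ψ a).1 (g ^ K) = (ψ a).1 g := by
  obtain ⟨b, hb, h⟩ := F.exists_mu_ne S hep ha
  have h1 : (K : ZMod p) ≠ 0 := fun h => hp.out.one_lt.ne' (Nat.eq_one_of_dvd_coprimes hK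
    ((ZMod.natCast_eq_zero_iff K p).1 h) (S.ou ▸ orderOf_dvd_natCard u))
  have h2 : ∀ s : ZMod p, mu u (fun g => (ψ a).1 (g ^ K)) (s * (K : ZMod p)) = mu u (ψ a).1 s :=
      fun s => by
    simp only [mu, upow_pow S.up, mul_comm _ (K : ZMod p)]
    rw [mul_comm, fco_comp_mul (fun i => (ψ a).1 (upow u i)) h1]
  obtain ⟨c, hc, h3⟩ := F.exists_eq S hC (χ := ⟨_, H12.isIrrCharacter_comp_pow (ψ a).2 hK⟩)
    (fun z hz g => by
      simp only [(show Commute g z from Subgroup.mem_center_iff.1 hz g).mul_pow, hZ z hz,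
        F.cen a ha z hz]) (mul_ne_zero ha h1) (mul_ne_zero hb h1) (by rwa [h2, h2])
  exact (congrFun (congrArg Subtype.val h3) g).trans (F.reg c hc a ha g hg)

theorem apply_pow' (hC : Cen P u) (hep : e + 1 < p) {a : ZMod p} (ha : a ≠ 0) {q : ℕ}
    (hq : q.Prime) (hqp : q ≠ p) (hZ : ∀ z ∈ Subgroup.center G, ¬ q ∣ orderOf z) {w : G} {j : ℕ}
    (hw : w ^ q ^ j = 1) {n : ℕ} (hn : ¬ q ∣ n) : (ψ a).1 (w ^ n) = (ψ a).1 w := by
  have hN : Nat.card G ≠ 0 := Nat.card_pos.ne'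
  obtain ⟨K, h1, h2⟩ := Nat.chineseRemainder ((Nat.coprime_ordCompl hq hN).pow_left (j + 1)) n 1
  rw [← pow_eq_pow_of_modEq (h1.of_dvd (pow_dvd_pow q j.le_succ)) hw]
  refine F.apply_pow S hC hep ha ?_ (fun z hz => ?_) fun h => hqp ((Nat.prime_dvd_prime_iff_eq
    hp.out hq).1 (hp.out.dvd_of_dvd_pow (h.trans (orderOf_dvd_of_pow_eq_one hw)))).symm
  · rw [← Nat.ordProj_mul_ordCompl_eq_self (Nat.card G) q]
    refine Nat.Coprime.mul_right (Nat.Coprime.pow_right _ ?_) ?_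
    · rw [Nat.Coprime, (h1.of_dvd (dvd_pow_self q j.succ_ne_zero)).gcd_eq]
      exact ((Nat.Prime.coprime_iff_not_dvd hq).2 hn).symm
    · rw [Nat.Coprime, h2.gcd_eq, Nat.gcd_one_left]
  · have h := orderOf_dvd_natCard z
    rw [← Nat.ordProj_mul_ordCompl_eq_self (Nat.card G) q] at h
    conv_rhs => rw [← pow_one z]
    exact pow_eq_pow_iff_modEq.2 (h2.of_dvd ((Nat.Coprime.pow_right _
      ((Nat.Prime.coprime_iff_not_dvd hq).2 (hZ z hz)).symm).dvd_of_dvd_mul_left h))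

end Fam

theorem card_dvd_of_const {χ : G → ℂ} (hχ : IsCharacter G χ) (A : Subgroup G) {c : ℤ}
    (h : ∀ y ∈ A, y ≠ 1 → χ y = c) : (Nat.card A : ℤ) ∣ charDegree χ - c := by
  have h2 := card_mul_fixDim A hχ
  rw [sumOn_of_const h, ← H21.cast_charDegree hχ] at h2
  exact ⟨fixDim A χ - c, by
    have : (Nat.card A * fixDim A χ : ℤ) = charDegree χ + (Nat.card A - 1) * c := by
      exact_mod_cast h2
    linear_combination -this⟩

section Rat

variable {q : ℕ} [hq : Fact q.Prime] {ζ : G → ℂ} (hζ : IsCharacter G ζ)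
  (hf : ∀ g, ζ g = ζ 1 → g = 1)
  (h : ∀ (w : G) (j n : ℕ), w ^ q ^ j = 1 → ¬ q ∣ n → ζ (w ^ n) = ζ w)
include hζ hf h

theorem exists_mu_const {y : G} (hy : y ^ q = 1) (hy1 : y ≠ 1) : ∃ f, 0 < f ∧
    (∀ s : ZMod q, s ≠ 0 → mu y ζ s = f) ∧ charDegree ζ + f = mu y ζ (0 : ZMod q) + q * f ∧
      ζ y = charDegree ζ - q * f := by
  obtain ⟨r, hr⟩ := fco_eq_add (f := fun i : ZMod q => ζ (upow y i))
    (c := fun t => if t = 0 then ζ y else 0) fun i hi => by
      simpa [upow] using h y 1 i.val (by rwa [pow_one]) fun h => hi ((ZMod.val_eq_zero i).1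
        (Nat.eq_zero_of_dvd_of_lt h i.val_lt))
  simp only [← cast_mu hζ hy] at hr
  have h1 : ∀ s : ZMod q, s ≠ 0 → mu y ζ s = mu y ζ (1 : ZMod q) := fun s hs => by
    have := (hr s).trans (by rw [hr 1, if_neg hs, if_neg one_ne_zero] : _ = (mu y ζ 1 : ℂ))
    exact_mod_cast this
  have h2 := degree_eq_of_const hζ hy h1
  refine ⟨_, Nat.pos_of_ne_zero fun h0 => hy1 (hf y (apply_eq_of_mu_eq_zero hζ hy fun s hs =>
    (h1 s hs).trans h0)), h1, h2, ?_⟩
  have h3 := hr 0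
  have h4 := hr 1
  rw [if_pos rfl] at h3
  rw [if_neg one_ne_zero] at h4
  have h5 : (charDegree ζ : ℂ) + mu y ζ (1 : ZMod q) =
    mu y ζ (0 : ZMod q) + q * mu y ζ (1 : ZMod q) := by exact_mod_cast h2
  linear_combination h4 - h3 - h5

theorem pow_eq_one_of_lt (hd : charDegree ζ + q < q * q) {w : G} (hw : w ^ q ^ 2 = 1) :
    w ^ q = 1 := by
  by_contra h0
  have hy : (w ^ q) ^ q = 1 := by rw [← pow_mul, ← sq, hw]
  obtain ⟨f, h1, h2, h3, -⟩ := exists_mu_const hζ hf h hy h0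
  have h4 := H13.ChTools.int_cong hq.out (isCharacter_eig hζ hy 1) (k := 2) (y := 1)
    (x := ⟨w, Subgroup.mem_centralizer_singleton_iff.2 (Commute.self_pow w q)⟩) (Subtype.ext hw)
    (Commute.one_right _) (a := 0) (b := f) (by
      rw [mul_one, fco_eq (c := fun t => if t = 0 then ζ w else 0) fun i => ?_, if_neg one_ne_zero,
        Int.cast_zero]
      simpa [upow, ← pow_mul, ← pow_succ] using h w 2 (q * i.val + 1) hw fun h =>
        hq.out.one_lt.ne' (Nat.dvd_one.1 ((Nat.dvd_add_right (dvd_mul_right _ _)).1 h)))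
    (by simp only [OneMemClass.coe_one, mul_one, ← cast_mu hζ hy, h2 1 one_ne_zero]; simp)
  obtain ⟨c, rfl⟩ : q ∣ f := by simpa [Int.natCast_dvd_natCast] using h4
  obtain ⟨c, rfl⟩ := Nat.exists_eq_succ_of_ne_zero (show c ≠ 0 by rintro rfl; simp at h1)
  obtain ⟨r, rfl⟩ := Nat.exists_eq_succ_of_ne_zero hq.out.ne_zero
  simp only [Nat.succ_eq_add_one] at h3 hd
  nlinarith [Nat.zero_le (r * r * c), Nat.zero_le (r * c)]

theorem dvd_of_const (hd : charDegree ζ + q < q * q) {n : ℕ} (hn : q ^ n ∣ Nat.card G)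
    {χ : G → ℂ} (hχ : IsCharacter G χ) {c : ℤ} (hc : ∀ y, y ^ q = 1 → y ≠ 1 → χ y = c) :
    (q : ℤ) ^ n ∣ charDegree χ - c := by
  obtain ⟨A, hA⟩ := Sylow.exists_subgroup_card_pow_prime q hn
  have h1 : ∀ (j : ℕ) (y : G), y ^ q ^ (j + 1) = 1 → y ^ q = 1 := fun j => by
    induction j with
    | zero => simp
    | succ j ih =>
      exact fun y hy => pow_eq_one_of_lt hζ hf h hd (by
        rw [sq, pow_mul]; exact ih _ (by rw [← pow_mul, ← pow_succ', hy]))
  exact_mod_cast hA ▸ card_dvd_of_const hχ A fun y hy => hc y (h1 n y (by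
    rw [pow_succ, pow_mul, ← hA, show y ^ Nat.card A = 1 from
      congrArg Subtype.val (pow_card_eq_one' (x := (⟨y, hy⟩ : A))), one_pow]))

end Rat

theorem card_center_mul_le (s : Finset (IrrCharacter G)) {ω : G → ℂ}
    (hω : ∀ z ∈ Subgroup.center G, ‖ω z‖ = 1)
    (hs : ∀ χ ∈ s, ∀ z ∈ Subgroup.center G, ∀ g, χ.1 (g * z) = ω z * χ.1 g) {y : G}
    (hy : ∀ z ∈ Subgroup.center G, IsConj (y * z) y → z = 1) :
    Nat.card (Subgroup.center G) * ∑ χ ∈ s, ‖χ.1 y‖ ^ 2 ≤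
      Nat.card (Subgroup.centralizer ({y} : Set G)) := by
  classical
  have := Fintype.ofFinite (IrrCharacter G)
  let Z := Subgroup.center G
  let f : IrrCharacter G → ℂ := fun χ => ∑ z : Z, conj (ω z) * χ.1 (y * z)
  have h2 : ∑ χ : IrrCharacter G, ∑ z : Z, ∑ w : Z, (conj (ω z) * χ.1 (y * z)) *
      conj (conj (ω w) * χ.1 (y * w)) =
      Nat.card Z * Nat.card (Subgroup.centralizer ({y} : Set G)) := by
    rw [Finset.sum_comm]
    rw [Finset.sum_congr rfl (g := fun _ => (Nat.card (Subgroup.centralizer ({y} : Set G)) : ℂ))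
      fun z _ => ?_, Finset.sum_const, Finset.card_univ, nsmul_eq_mul, ← Nat.card_eq_fintype_card]
    rw [Finset.sum_comm, Finset.sum_eq_single z (fun w _ hw => ?_) (by simp)]
    · have e1 : conj (ω z) * ω z = 1 := by
        rw [Complex.conj_mul', hω z z.2]; simp
      simp only [map_mul, Complex.conj_conj, mul_mul_mul_comm (conj (ω z)), e1, one_mul]
      rw [H11.column_orthogonality_of_isConj (IsConj.refl _)]
      congr 3
      ext g
      simp only [Subgroup.mem_centralizer_singleton_iff, ← mul_assoc]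
      rw [mul_assoc y, ← Subgroup.mem_center_iff.1 z.2 g, ← mul_assoc, mul_left_inj]
    · simp only [map_mul, Complex.conj_conj, mul_mul_mul_comm (conj (ω z)), ← Finset.mul_sum]
      rw [H11.column_orthogonality_of_not_isConj fun h => hw ?_, mul_zero]
      obtain ⟨c, hc⟩ := isConj_iff.1 h
      have e1 := hy (z * (w : G)⁻¹) (mul_mem z.2 (inv_mem w.2)) (isConj_iff.2 ⟨c, by
        rw [← mul_assoc y, ← mul_assoc c, mul_assoc _ _ c⁻¹,
          ← Subgroup.mem_center_iff.1 (inv_mem w.2), ← mul_assoc, hc, mul_inv_cancel_right]⟩)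
      exact Subtype.ext (mul_inv_eq_one.1 e1).symm
  simp only [← Finset.mul_sum, ← map_sum, ← Finset.sum_mul, Complex.mul_conj,
    Complex.normSq_eq_norm_sq] at h2
  norm_cast at h2
  have h3 := Finset.sum_le_sum_of_subset_of_nonneg (Finset.subset_univ s)
    (f := fun χ => ‖f χ‖ ^ 2) fun _ _ _ => sq_nonneg _
  rw [h2, Finset.sum_congr rfl (g := fun χ => (Nat.card Z : ℝ) * (Nat.card Z * ‖χ.1 y‖ ^ 2))
    fun χ hχ => ?_, ← Finset.mul_sum, ← Finset.mul_sum, Nat.cast_mul] at h3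
  · exact le_of_mul_le_mul_left h3 (by exact_mod_cast Nat.card_pos)
  · simp only [f]
    rw [Finset.sum_congr rfl (g := fun _ => χ.1 y) fun z _ => by
      rw [hs χ hχ z z.2, ← mul_assoc, Complex.conj_mul', hω z z.2]; simp]
    simp [sq, mul_assoc, mul_left_comm]

/-- The principal block of a group with a self-centralizing element of order `p`. -/
structure PB (u x : G) (α : ZMod p) (D : BrData G p P e t) (φ : ZMod p → IrrCharacter G)
    (k : ℕ) : Prop where
  S : Sett P u x α e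
  cen : ∀ c, Commute u c → c ∈ Subgroup.zpowers u
  nn : ¬ (P : Subgroup G).Normal
  het : e * t = p - 1
  lt : e + 1 < p
  F : Fam u α e (fun _ => 1) φ D.ε k
  memY : ∀ θ, θ ∈ D.Y ↔ ∃ a ≠ 0, φ a = θ

theorem Sett.selfCent (S : Sett P u x α e) (h : ∀ c, Commute u c → c ∈ Subgroup.zpowers u) :
    SelfCent p G := .of_one P S.card_P fun c hc => S.hP ▸ h c (S.mem_C.1 hc)

theorem Sett.cen_of (S : Sett P u x α e) (h : ∀ c, Commute u c → c ∈ Subgroup.zpowers u)
    (hn : ¬ (P : Subgroup G).Normal) : Cen P u := ⟨hn, fun c hc hc' => by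
  obtain ⟨i, rfl⟩ := exists_upow S.ou (h c hc)
  by_cases hi : i = 0
  · rw [hi, upow_zero]; exact one_mem _
  · exact (hc' (orderOf_upow S.ou hi).symm.dvd).elim⟩

theorem Sett.exists_pb (S : Sett P u x α e) (h : ∀ c, Commute u c → c ∈ Subgroup.zpowers u)
    (hn : ¬ (P : Subgroup G).Normal) (hG : commutator G = ⊤) (hep : e + 1 < p) :
    ∃ (t : ℕ) (D : BrData G p P e t) (φ : ZMod p → IrrCharacter G) (k : ℕ), PB u x α D φ k := by
  classical
  obtain ⟨e', t, h1, h2, h3, ⟨D⟩⟩ := exists_brData hG P S.card_P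
  obtain rfl : e = e' := S.relIndex_eq.symm.trans h1
  obtain ⟨φ, ε, k, F⟩ := S.exists_fam (S.cen_of h hn) H11.isCharacter_one (ω := fun _ => 1)
    (fun _ _ _ => (one_mul _).symm) (one_ne_zero (α := ZMod p)) one_ne_zero
  have h4 : ¬ (p : ℤ) ∣ e := fun h => by
    have := Nat.le_of_dvd S.e_pos (Int.natCast_dvd_natCast.1 h)
    omega
  have h5 : ∀ a ≠ 0, φ a ∈ D.Y := fun a ha => by
    by_contra hY
    by_cases hX : φ a ∈ D.X
    · obtain ⟨b, hb, h6⟩ := F.exists_mu_ne S hep ha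
      have h7 := fun s => mu_of_const (H11.irr_isCharacter _) S.up (s := s) fun i hi =>
        D.valX' hX (S.upow_mem i) (mt (upow_eq_one_iff S.ou).1 hi)
      have := h7 a ha
      have := h7 b hb
      omega
    · have h6 := F.deg S ha
      rw [← (S.selfCent h).fixDim_notMem D hX hY] at h6
      push_cast at h6
      rcases F.eps with rfl | rfl
      · exact h4 ⟨fixDim P (φ a).1 - k, by linarith⟩
      · exact h4 ⟨k - fixDim P (φ a).1, by linarith⟩
  have h6 : (Finset.univ.erase 0).image φ = D.Y := by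
    refine Finset.eq_of_subset_of_card_le (Finset.image_subset_iff.2 fun a ha =>
      h5 a (Finset.ne_of_mem_erase ha)) ?_
    have h6 := F.sum_le_image S (Finset.univ.erase 0) (fun _ => Finset.ne_of_mem_erase) fun _ => 1
    rw [← Finset.card_eq_sum_ones, ← Finset.card_eq_sum_ones,
      Finset.card_erase_of_mem (Finset.mem_univ _), Finset.card_univ, ZMod.card, ← h3] at h6
    rw [D.cardY]
    exact Nat.le_of_mul_le_mul_left h6 S.e_pos
  obtain rfl : ε = D.ε := by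
    have h7 := D.z_modEq' S.card_P h3
    have h8 := F.deg S one_ne_zero
    rw [D.degY _ (h5 1 one_ne_zero)] at h8
    have h9 : (p : ℤ) ∣ e * (ε - D.ε) := by
      simpa only [h8, show ∀ a b c d : ℤ, a + b * c - d * b - a = b * (c - d) from
        fun _ _ _ _ => by ring] using dvd_sub h7 (dvd_mul_right (p : ℤ) k)
    have h10 := Int.le_of_dvd (a := p) two_pos
    have := S.e_pos
    have h11 := ((Nat.prime_iff_prime_int.1 hp.out).dvd_or_dvd h9).resolve_left h4
    rcases F.eps with h | h <;> rcases D.eps_pm with h' | h' <;> rw [h, h'] at h11 ⊢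
    · have := h10 h11; omega
    · have := h10 (dvd_neg.1 h11); omega
  exact ⟨t, D, φ, k, S, h, hn, h3, hep, F, fun θ => by simp [← h6]⟩

namespace PB

variable {D : BrData G p P e t} {φ : ZMod p → IrrCharacter G} {k : ℕ} (B : PB u x α D φ k)
include B

theorem sc : SelfCent p G := B.S.selfCent B.cen

theorem C : Cen P u := B.S.cen_of B.cen B.nn

theorem mem {a : ZMod p} (ha : a ≠ 0) : φ a ∈ D.Y := (B.memY _).2 ⟨a, ha, rfl⟩

theorem deg {a : ZMod p} (ha : a ≠ 0) : charDegree (φ a).1 = D.z := D.degY _ (B.mem ha)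

theorem z_eq : (D.z : ℤ) = p * k + e * D.ε := B.deg one_ne_zero ▸ B.F.deg B.S one_ne_zero

theorem t_pos : 0 < t := Nat.pos_of_ne_zero fun h => by
  have := B.het
  have := B.lt
  rw [h] at *
  omega

theorem val {χ : IrrCharacter G} (h : χ ∈ D.X) {i : ZMod p} (hi : i ≠ 0) :
    χ.1 (upow u i) = D.sg χ := D.valX' h (B.S.upow_mem i) (mt (upow_eq_one_iff B.S.ou).1 hi)

theorem val_out {χ : IrrCharacter G} (h : χ ∉ D.X) (h' : χ ∉ D.Y) {g : G} (hg : p ∣ orderOf g) :
    χ.1 g = 0 := B.S.vanish χ ⟨_, (B.sc.fixDim_notMem D h h').symm⟩ hg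

theorem mem_X {χ : IrrCharacter G} {c : ℤ} (hc : c ≠ 0)
    (h : ∀ i : ZMod p, i ≠ 0 → χ.1 (upow u i) = c) : χ ∈ D.X ∧ D.sg χ = c := by
  have h1 : χ ∈ D.X := by
    by_contra h1
    by_cases h2 : χ ∈ D.Y
    · obtain ⟨a, ha, rfl⟩ := (B.memY _).1 h2
      obtain ⟨b, hb, h6⟩ := B.F.exists_mu_ne B.S B.lt ha
      have := mu_of_const (H11.irr_isCharacter _) B.S.up h ha
      have := mu_of_const (H11.irr_isCharacter _) B.S.up h hb
      omega
    · exact hc (by exact_mod_cast ((h 1 one_ne_zero).symm.trans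
        (B.val_out h1 h2 (orderOf_upow B.S.ou one_ne_zero).symm.dvd)))
  exact ⟨h1, by exact_mod_cast (B.val h1 one_ne_zero).symm.trans (h 1 one_ne_zero)⟩

theorem sg_ne {χ : IrrCharacter G} (h : χ ∈ D.X) : D.sg χ ≠ 0 := by
  rcases D.sg_pm χ h with h | h <;> omega

theorem conj_mem {χ : IrrCharacter G} (h : χ ∈ D.X) :
    (⟨_, H11.isIrrCharacter_conj χ.2⟩ : IrrCharacter G) ∈ D.X ∧
      D.sg ⟨_, H11.isIrrCharacter_conj χ.2⟩ = D.sg χ :=
  B.mem_X (B.sg_ne h) fun i hi => by simp only [B.val h hi, map_intCast]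

theorem exists_int {χ : IrrCharacter G} (h : χ ∈ D.X)
    (h' : ∀ ψ ∈ D.X, charDegree ψ.1 = charDegree χ.1 → ψ = χ) (g : G) : ∃ n : ℤ, χ.1 g = n :=
  H13.ChTools.int_of_stable (fun σ => h' _ (B.mem_X (B.sg_ne h) fun i hi => by
    rw [H19.galIrr_apply, B.val h hi, map_intCast]).1 (H19.charDegree_galIrr σ χ)) g

theorem exists_int' {a : ZMod p} (ha : a ≠ 0) (hZ : Subgroup.center G = ⊥) {g : G}
    (hg : ¬ p ∣ orderOf g) : ∃ n : ℤ, (φ a).1 g = n := by
  refine H12.exists_int_of_forall_ringEquiv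
    (H12.IsCharacter_isIntegral (H11.irr_isCharacter _) g) fun σ => ?_
  obtain ⟨m, hm, hσ⟩ := H12.exists_pow_character_of_ringHom (G := G) σ.toRingHom
  exact (hσ _ (H11.irr_isCharacter _) g).trans (B.F.apply_pow B.S B.C B.lt ha hm
    (fun z hz => by rw [hZ, Subgroup.mem_bot] at hz; rw [hz, one_pow]) hg)

theorem deg_X {χ : IrrCharacter G} (h : χ ∈ D.X) :
    (charDegree χ.1 : ℤ) + (p - 1) * D.sg χ = p * mu u χ.1 (0 : ZMod p) := by
  rw [← B.S.fixDim_eq (H11.irr_isCharacter χ), D.fixDim_X B.S.card_P h]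

variable [Fintype (IrrCharacter G)] {Ξ : G → ℂ} (hΞ : IsCharacter G Ξ) {m : IrrCharacter G → ℕ}
  (hm : ∀ g, Ξ g = ∑ χ, (m χ : ℂ) * χ.1 g)
include hΞ hm

theorem key {s : ZMod p} (hs : s ≠ 0) : (mu u Ξ (0 : ZMod p) : ℤ) - mu u Ξ s =
    ∑ χ ∈ D.X, D.sg χ * m χ - D.ε * m (φ s) := by
  classical
  have h1 := mu_sum Finset.univ m _ (fun χ _ => H11.irr_isCharacter χ) hΞ hm B.S.up
  rw [h1, h1]
  push_cast
  rw [← Finset.sum_sub_distrib, ← Finset.sum_subset (Finset.subset_univ (D.X ∪ D.Y))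
    fun χ _ hχ => ?_, Finset.sum_union (Finset.disjoint_left.2 D.disj), sub_eq_add_neg,
    Finset.sum_eq_single_of_mem _ (B.mem hs) fun θ hθ h => ?_]
  · congr 1
    · refine Finset.sum_congr rfl fun χ hχ => ?_
      rw [mu_of_const (H11.irr_isCharacter χ) B.S.up (fun i => B.val hχ) hs]
      ring
    · rw [B.F.mu_zero B.S hs, B.F.mu_eq s hs, if_pos (B.S.self_mem_cst s)]
      ring
  · obtain ⟨a, ha, rfl⟩ := (B.memY _).1 hθ
    rw [B.F.mu_zero B.S ha, B.F.mu_eq a ha, if_neg fun h' => h ?_, add_zero, sub_self]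
    by_contra h''
    have e1 := B.F.inner_sub B.S B.C (H11.irr_isCharacter (φ a)) (B.F.cen a ha) ha hs
    rw [H11.classInner_irr_self (φ a).2, H11.classInner_irr_of_ne (φ a).2 (φ s).2
      fun h => h'' (Subtype.ext h), B.S.mu_eq_of_mem (H11.isClassFunction_of_irr (φ a).2) h'] at e1
    simp at e1
  · rw [Finset.mem_union, not_or] at hχ
    rw [mu_of_const (H11.irr_isCharacter χ) B.S.up (c := 0) (fun i hi => by
      rw [B.val_out hχ.1 hχ.2 (orderOf_upow B.S.ou hi).symm.dvd, Int.cast_zero]) hs]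
    ring

theorem deg_le : e * ∑ χ ∈ D.X, m χ * charDegree χ.1 +
    D.z * ∑ s ∈ Finset.univ.erase 0, m (φ s) ≤ e * charDegree Ξ := by
  classical
  have h1 : charDegree Ξ = ∑ χ, m χ * charDegree χ.1 := H21.charDegree_eq (by
    rw [hm]; push_cast; simp only [H21.cast_deg])
  have h2 := Finset.sum_le_sum_of_subset (f := fun χ => m χ * charDegree χ.1)
    (Finset.subset_univ (D.X ∪ D.Y))
  rw [← h1, Finset.sum_union (Finset.disjoint_left.2 D.disj), Finset.sum_congr (s₁ := D.Y) rfl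
    fun θ hθ => by rw [D.degY θ hθ], ← Finset.sum_mul] at h2
  have h3 := B.F.sum_le_image B.S (Finset.univ.erase 0) (fun _ => Finset.ne_of_mem_erase) m
  rw [show (Finset.univ.erase 0).image φ = D.Y from Finset.ext fun θ => by simp [B.memY]] at h3
  nlinarith [Nat.mul_le_mul_left e h2, Nat.mul_le_mul_left D.z h3]

end PB

end Cfsg.Agent.H58
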