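import Cfsg.Agent.H58.LinT5

/-! The exceptional case: numerical constraints on the principal block of the central quotient. -/

namespace Cfsg.Agent.H58

open Cfsg Module
open scoped ComplexConjugate MatrixGroups

set_option linter.unusedSectionVars false

universe v

variable {G : Type v} [Group G] [Fintype G] {p : ℕ} [hp : Fact p.Prime] {P : Sylow p G} {u x : G}
  {α : ZMod p} {e t : ℕ}

theorem dvd_of_ordProj_dvd {n m : ℕ} (hn : n ≠ 0)
    (h : ∀ q, q.Prime → q ∣ n → q ^ n.factorization q ∣ m) : n ∣ m :=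
  (Nat.dvd_iff_prime_pow_dvd_dvd m n).2 fun q k hq hk => by
    rcases k with _ | k
    · simp
    · exact (pow_dvd_pow q ((hq.pow_dvd_iff_le_factorization hn).1 hk)).trans
        (h q hq ((dvd_pow_self q k.succ_ne_zero).trans hk))

namespace PB

variable {D : BrData G p P e t} {φ : ZMod p → IrrCharacter G} {k : ℕ} (B : PB u x α D φ k)
include B

theorem pow_e : x ^ e = 1 := by
  obtain ⟨i, hi⟩ := exists_upow B.S.ou (B.cen _ (B.S.commute_pow_iff.2 dvd_rfl))
  by_contra h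
  refine B.S.pow_reg e (hi ▸ (orderOf_upow B.S.ou fun h0 => h ?_).symm.dvd)
  rw [← hi, h0, upow_zero]

theorem lt_of_plus {χ : IrrCharacter G} (h : χ ∈ D.X) (hs : D.sg χ = 1) :
    ∃ q, charDegree χ.1 = p * q + 1 ∧ q < fixDim P χ.1 ∧ charDegree χ.1 < p * fixDim P χ.1 := by
  have h1 := D.fixDim_X B.S.card_P h
  have h2 := B.lt
  have h3 := B.S.e_pos
  rw [hs] at h1
  obtain ⟨q, hq⟩ := Nat.exists_eq_succ_of_ne_zero (n := fixDim P χ.1) fun h0 => by
    rw [h0] at h1; omega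
  rw [hq] at h1 ⊢
  refine ⟨q, ?_, q.lt_succ_self, ?_⟩ <;> zify <;> push_cast at h1 ⊢ <;> nlinarith

theorem two_le (hG : commutator G = ⊤) {χ : IrrCharacter G} (h : χ ≠ H21.triv G) :
    2 ≤ charDegree χ.1 := by
  have := H21.deg_pos χ
  have := mt (eq_triv_of_deg_one hG) h
  omega

theorem card_eq : ∃ n, Nat.card G = (1 + n * p) * (e * p) := by
  obtain ⟨n, hn⟩ := exists_card_sylow_eq p G
  exact ⟨n, by rw [B.S.card_G, hn, B.sc.cent, B.S.card_P]⟩

open Classical in
theorem bt {q : ℕ} (hq : q.Prime) (hpq : p ≠ q) {M : Ideal AlgInt} (hM : IsPModular q M) :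
    (q : ℤ) ^ (Nat.card G).factorization q ∣ 1 + ∑ χ ∈ D.X.erase (H21.triv G),
      (if χ ∈ principalBlock M G then D.sg χ * charDegree χ.1 else 0) -
        if φ 1 ∈ principalBlock M G then D.ε * D.z else 0 := by
  have : Fact q.Prime := ⟨hq⟩
  rw [← Finset.sum_filter]
  exact D.bt_principal B.S.card_P hpq (B.sc.no_mul hq) hM (B.mem one_ne_zero)

end PB

open Classical in
theorem PB.three {D : BrData G p P 3 t} {φ : ZMod p → IrrCharacter G} {k : ℕ}
    (B : PB u x α D φ k) : ∃ a b, a ≠ b ∧ D.X.erase (H21.triv G) = {a, b} ∧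
      ((D.sg a = -1 ∧ D.sg b = -1) ∨ (D.sg a = -1 ∧ D.sg b = 1 ∧ D.ε = 1) ∨
        (D.sg a = 1 ∧ D.sg b = 1 ∧ charDegree a.1 = charDegree b.1)) := by
  obtain ⟨a, b, hab, h⟩ := Finset.card_eq_two.1 (show (D.X.erase (H21.triv G)).card = 2 by
    rw [Finset.card_erase_of_mem D.triv_mem, D.cardX])
  have key : ∀ a b, a ≠ b → D.X.erase (H21.triv G) = {a, b} → D.sg b = 1 →
      (D.sg a = -1 ∧ D.ε = 1) ∨ (D.sg a = 1 ∧ charDegree a.1 = charDegree b.1) := by
    intro a b hab h hs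
    obtain ⟨ha1, ha⟩ := Finset.mem_erase.1 (h ▸ Finset.mem_insert_self a {b})
    obtain ⟨hb1, hb⟩ := Finset.mem_erase.1 (h ▸ (by simp : b ∈ ({a, b} : Finset _)))
    obtain ⟨h1, h2⟩ := B.conj_mem hb
    have h3 : (⟨_, H11.isIrrCharacter_conj b.2⟩ : IrrCharacter G) ≠ H21.triv G := fun h =>
      hb1 (Subtype.ext (funext fun g => by
        simpa [H21.triv_coe] using congrArg conj (congrFun (congrArg Subtype.val h) g)))
    have h4 := Finset.mem_erase.2 ⟨h3, h1⟩
    rw [h, Finset.mem_insert, Finset.mem_singleton] at h4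
    rcases h4 with h4 | h4
    · exact .inr ⟨by rw [← h4, h2, hs], by rw [← h4, charDegree_conj]⟩
    have h5 : ∀ ψ, ψ ≠ H21.triv G → ψ ≠ b → ¬ charDegree ψ.1 < p * fixDim P ψ.1 :=
      fun ψ h5 h6 h7 => by
        have := B.lt
        obtain ⟨q, h8, h9, -⟩ := B.lt_of_plus hb hs
        simpa using B.S.two_mul_card_add_two_le B.cen B.nn (by omega) B.pow_e (by decide) {b}
          (by simpa using hb1.symm) (by
            simpa using ⟨fun g => congrFun (congrArg Subtype.val h4) g, q, h8, h9⟩) h5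
          (by simpa using h6) h7
    rcases D.sg_pm a ha with h6 | h6
    · exact (h5 a ha1 hab (B.lt_of_plus ha h6).choose_spec.2.2).elim
    refine .inl ⟨h6, D.eps_pm.resolve_right fun h7 => h5 (φ 1) (D.ne_triv_of_mem_Y
      (B.mem one_ne_zero)) (fun h => D.disj b hb (h ▸ B.mem one_ne_zero)) ?_⟩
    have h8 := B.z_eq
    rw [B.S.fixDim_eq (H11.irr_isCharacter _), B.F.mu_zero B.S one_ne_zero, B.deg one_ne_zero]
    rw [h7] at h8
    zify; omega
  obtain ⟨-, ha⟩ := Finset.mem_erase.1 (h ▸ Finset.mem_insert_self a {b})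
  obtain ⟨-, hb⟩ := Finset.mem_erase.1 (h ▸ (by simp : b ∈ ({a, b} : Finset _)))
  rcases D.sg_pm b hb with h1 | h1
  · exact ⟨a, b, hab, h, .inr ((key a b hab h h1).imp (fun h => ⟨h.1, h1, h.2⟩)
      fun h => ⟨h.1, h1, h.2⟩)⟩
  rcases D.sg_pm a ha with h2 | h2
  · rw [Finset.pair_comm] at h
    exact ⟨b, a, hab.symm, h, .inr ((key b a hab.symm h h2).imp (fun h => ⟨h.1, h2, h.2⟩)
      fun h => ⟨h.1, h2, h.2⟩)⟩
  · exact ⟨a, b, hab, h, .inl ⟨h2, h1⟩⟩

/-- A perfect group with a faithful exceptional character of degree `p - e`. -/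
structure Exc (P : Sylow p G) (u x : G) (α : ZMod p) (e : ℕ) (ω : G → ℂ)
    (ψ : ZMod p → IrrCharacter G) (a : ZMod p) : Prop where
  S : Sett P u x α e
  C : Cen P u
  F : Fam u α e ω ψ (-1) 1
  ha : a ≠ 0
  hG : commutator G = ⊤
  hf : ∀ g, (ψ a).1 g = (ψ a).1 1 → g = 1
  he : 2 ≤ e
  lt : e + 1 < p

theorem card_sylow_of_perfect (hG : commutator G = ⊤) {χ : G → ℂ} (hχ : IsIrrCharacter G χ)
    (hf : ∀ g, χ g = χ 1 → g = 1) (hd : charDegree χ + 2 ≤ p) (hn : ¬ (P : Subgroup G).Normal) :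
    Nat.card P = p := by
  obtain ⟨Q⟩ : Nonempty (Sylow p (commutator G)) := inferInstance
  have h := (sylow_commutator hχ hf hd hn Q).1
  rwa [Q.card_eq_multiplicity, hG, Subgroup.card_top, ← P.card_eq_multiplicity] at h

namespace Exc

variable {ω : G → ℂ} {ψ : ZMod p → IrrCharacter G} {a : ZMod p} (E : Exc P u x α e ω ψ a)
include E

theorem deg : charDegree (ψ a).1 + e = p := by
  have := E.F.deg E.S E.ha
  omega

theorem chr : IsCharacter G (ψ a).1 := H11.irr_isCharacter _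

theorem simple : IsSimpleGroup (G ⧸ Subgroup.center G) :=
  (E.S.quot_simple E.C E.hG E.chr E.hf (by have := E.deg; have := E.he; omega)).1

theorem perf : commutator (G ⧸ Subgroup.center G) = ⊤ := commutator_quotient_eq_top E.hG _

theorem nc : ¬ IsMulCommutative (G ⧸ Subgroup.center G) := fun _ => by
  have := E.simple
  exact bot_ne_top ((commutator_eq_bot _).symm.trans E.perf)

theorem dvd_card : Nat.card (G ⧸ Subgroup.center G) ∣ Nat.card G :=
  Subgroup.card_quotient_dvd_card _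

theorem not_normal {q : ℕ} [hq : Fact q.Prime] (Q : Sylow q G)
    (h : q ∣ Nat.card (G ⧸ Subgroup.center G)) : ¬ (Q : Subgroup G).Normal := fun hQ => by
  have := E.simple
  let R := Q.mapSurjective (QuotientGroup.mk'_surjective (Subgroup.center G))
  rcases (show (R : Subgroup (G ⧸ Subgroup.center G)).Normal from
    hQ.map _ (QuotientGroup.mk'_surjective _)).eq_bot_or_eq_top with h1 | h1
  · exact R.ne_bot_of_dvd_card h h1
  · exact ne_top_of_isPGroup E.nc R.2 h1

theorem le_of_dvd {q : ℕ} (hq : q.Prime) (h : q ∣ Nat.card (G ⧸ Subgroup.center G)) :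
    q ≤ 2 * charDegree (ψ a).1 + 1 := by
  have : Fact q.Prime := ⟨hq⟩
  obtain ⟨Q⟩ : Nonempty (Sylow q G) := inferInstance
  exact not_lt.1 fun h' => E.not_normal Q h (normal_of_small E.chr E.hf h' Q)

theorem rat {q : ℕ} (hq : q.Prime) (hqp : q ≠ p) (h : ¬ q ∣ charDegree (ψ a).1) (w : G) (j n : ℕ)
    (hw : w ^ q ^ j = 1) (hn : ¬ q ∣ n) : (ψ a).1 (w ^ n) = (ψ a).1 w :=
  E.F.apply_pow' E.S E.C E.lt E.ha hq hqp (fun _ hz h' => h (h'.trans (orderOf_dvd_of_pow_eq_one
    (pow_degree_eq_one (ψ a).2 E.hf hz (E.hG ▸ Subgroup.mem_top _))))) hw hn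

open Classical in
theorem exists_pb [Fintype (G ⧸ Subgroup.center G)] : ∃ (t : ℕ) (Q : Sylow p (G ⧸ Subgroup.center G))
    (D : BrData (G ⧸ Subgroup.center G) p Q e t)
    (φ : ZMod p → IrrCharacter (G ⧸ Subgroup.center G)) (k : ℕ),
    PB (u : G ⧸ Subgroup.center G) x α D φ k ∧ ∃ (m : IrrCharacter _ → ℕ) (M : ℕ),
      ((charDegree (ψ a).1 * e : ℕ) : ℤ) =
        (p - 1) * (1 + ∑ χ ∈ D.X.erase (H21.triv _), D.sg χ * m χ) - D.ε * M ∧
      e * (1 + ∑ χ ∈ D.X.erase (H21.triv _), m χ * charDegree χ.1) + D.z * M ≤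
        e * charDegree (ψ a).1 ^ 2 := by
  have := E.simple
  have := Fintype.ofFinite (IrrCharacter (G ⧸ Subgroup.center G))
  have S := E.S.quot E.C
  obtain ⟨t, D, φ, k, B⟩ := S.exists_pb (E.S.quot_cen E.C) (fun h => h.eq_bot_or_eq_top.elim
    (fun h => S.u_ne (Subgroup.mem_bot.1 (h ▸ S.u_mem))) (ne_top_of_isPGroup E.nc (Sylow.isPGroup' _)))
    E.perf E.lt
  have h1 := H11.isCharacter_mul E.chr (H11.isCharacter_conj E.chr)
  obtain ⟨Ξ, hΞ, h2⟩ := H11.exists_character_lift h1 (Subgroup.center G) fun z hz g => by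
    simp only [Pi.mul_apply, ← Subgroup.mem_center_iff.1 hz g, E.F.cen a E.ha z hz, map_mul]
    rw [mul_mul_mul_comm, Complex.mul_conj', E.F.norm_ω E.S hz]; simp
  obtain ⟨m, h3, h4⟩ := exists_apply_eq_sum hΞ
  have h5 : m (H21.triv _) = 1 := by
    have h5 := h3 (H21.triv _)
    rw [← H11.classInner_comp_of_surjective _ (QuotientGroup.mk'_surjective _)] at h5
    have h6 := H11.classInner_irr_self (ψ a).2
    simp only [classInner, QuotientGroup.mk'_apply, h2, H21.triv_coe, map_one, mul_one,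
      Pi.mul_apply] at h5 h6
    exact_mod_cast h5.symm.trans h6
  have h6 : charDegree Ξ = charDegree (ψ a).1 ^ 2 := H21.charDegree_eq (by
    rw [← QuotientGroup.mk_one, h2, Pi.mul_apply, ← H21.cast_deg]; simp [sq])
  have h7 : mu (u : G ⧸ Subgroup.center G) Ξ (0 : ZMod p) = charDegree (ψ a).1 := by
    rw [show mu (u : G ⧸ Subgroup.center G) Ξ (0 : ZMod p) = _ from congrArg
      (fun f : ZMod p → ℂ => ⌊(fco f 0).re⌋₊) (funext fun i => h2 (upow u i)),
      ← sum_mu E.chr E.S.up]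
    refine (mu_mul E.chr (H11.isCharacter_conj E.chr) E.S.up 0).trans
      (Finset.sum_congr rfl fun r _ => ?_)
    have := E.F.mu_eq a E.ha r
    rw [mu_conj E.chr E.S.up, zero_sub, neg_neg]
    split_ifs at this <;> [rw [show mu u (ψ a).1 r = 0 by omega]; rw [show mu u (ψ a).1 r = 1 by omega]]
  refine ⟨t, _, D, φ, k, B, m, ∑ s ∈ Finset.univ.erase 0, m (φ s), ?_, ?_⟩
  · have h8 := Finset.sum_congr (s₁ := Finset.univ.erase (0 : ZMod p)) rfl fun s hs =>
      B.key hΞ h4 (Finset.ne_of_mem_erase hs)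
    have h9 := sum_mu hΞ S.up
    rw [← Finset.add_sum_erase _ _ (Finset.mem_univ 0), h6, h7] at h9
    rw [Finset.sum_sub_distrib, Finset.sum_sub_distrib, Finset.sum_const, Finset.sum_const,
      Finset.card_erase_of_mem (Finset.mem_univ _), Finset.card_univ, ZMod.card,
      ← Finset.mul_sum, ← Finset.add_sum_erase _ _ D.triv_mem, D.sg_triv S.card_P, h5, h7,
      nsmul_eq_mul, nsmul_eq_mul, Nat.cast_sub hp.out.one_le] at h8
    have h10 := E.deg
    zify at h9 h10
    push_cast at h8 ⊢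
    rw [← h8]
    linear_combination h9 + (charDegree (ψ a).1 : ℤ) * h10
  · have h8 := B.deg_le hΞ h4
    rwa [h6, ← Finset.add_sum_erase _ _ D.triv_mem, h5, H21.triv_coe, H21.charDegree_one] at h8

end Exc

end Cfsg.Agent.H58
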