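import Cfsg.Agent.H95.ParBase
import Cfsg.Agent.H11.HsFin
import Cfsg.Agent.H18.MonHe
import Cfsg.Agent.H52.FStar
import Cfsg.Agent.S2049

/-! Elements of order seven lying in the derived group of their centralizer in the Monster. -/

set_option autoImplicit false

namespace Cfsg.Agent.H58.ParT7

open Cfsg Subgroup Cfsg.Agent.H48 Cfsg.Agent.H49 Cfsg.Agent.H95.Par Cfsg.Agent.H11
open Cfsg.Agent.H97.Yt (M)

theorem shape : H18.MH.Shape.{0} := fun X _ _ t R _ h ⟨e⟩ hn =>
  Hs.shape_of_ncard h.1 R h.2.2.1 h.2.2.2.1 (h.2.1 ▸ H52.centralizer_fstar_le) e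
    (by rw [hn]; norm_num)

theorem t7 (h7 : L7Stmt) : T7Stmt := by
  intro z θ R h g y a hg hy hc
  refine (h7 g hg).resolve_right ?_
  rintro ⟨v, hv, hf⟩
  obtain ⟨x, r⟩ := h.ex2 v
  have hxy : x * y = y * x := (h.comm_iff_fix (by rw [hy]; decide) a r).2 hf
  obtain ⟨g₀, hg₀⟩ := trans64 hv (sqNorm_e8 none)
  have n1 : ((zpowers y).subgroupOf (centralizer (zpowers y : Set M))).Normal :=
    (normal_subgroupOf_iff_le_normalizer (le_centralizer _)).2 (centralizer_le_normalizer _)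
  obtain ⟨φ⟩ := H18.MH.seven shape (h.twist g₀) (s := x)
    (by rw [← hg₀, inv_smul_smul]; exact r) (B := zpowers y)
    (zpowers_le.2 fun w hw => by
      rcases hw with rfl | rfl
      · exact a.comm.symm
      · exact hxy)
    (by rw [Nat.card_zpowers, hy])
  rw [← centralizer_zpowers'] at hc
  set C := centralizer (zpowers y : Set M) with hC
  have yC : y ∈ C := le_centralizer _ (mem_zpowers y)
  let σ : C →* Spor.He := φ.toMonoidHom.comp (QuotientGroup.mk' _)
  have hk : ∀ c : C, c ∈ σ.ker ↔ c.1 ∈ zpowers y := fun c =>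
    φ.map_eq_one_iff.trans (QuotientGroup.eq_one_iff c)
  have hy' : (⟨y, yC⟩ : C) ∈ commutator C := by
    rw [← map_subtype_commutator] at hc
    obtain ⟨c, h1, h2⟩ := hc
    exact (Subtype.ext h2 : c = ⟨y, yC⟩) ▸ h1
  obtain ⟨π, hπ⟩ := S2049.result.2 C σ ⟨φ.surjective.comp (QuotientGroup.mk'_surjective _),
    fun c hc => mem_center_iff.2 fun d => Subtype.ext (d.2 c.1 ((hk c).1 hc)).symm,
    fun c hc => by
      obtain ⟨n, hn⟩ := (hk c).1 hc
      exact (Subtype.ext hn : (⟨y, yC⟩ : C) ^ n = c) ▸ zpow_mem hy' n⟩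
  obtain ⟨u, hu⟩ := hπ ⟨⟨y, yC⟩, (hk _).2 (mem_zpowers y)⟩
  rw [Subsingleton.elim u 1, map_one] at hu
  have : y = 1 := (congrArg (fun c : σ.ker => (c.1.1 : M)) hu).symm
  rw [this, orderOf_one] at hy
  omega

end Cfsg.Agent.H58.ParT7
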