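import Cfsg.Agent.H58.Q4B1

/-!
# Blocks, and the largest subgroup with more fixed points
-/

set_option autoImplicit false
set_option linter.unusedSectionVars false

namespace Cfsg.Agent.H58.Q4

open Subgroup Equiv Function
open scoped Pointwise commutatorElement

universe u

section

variable {G Ω : Type u} [Group G] [Finite G] [MulAction G Ω] [Finite Ω] {K P : Set Ω → Subgroup G}

theorem Ev.two (h : Ev K P) {F : Set Ω} (hF : F.ncard = 4) : IsPGroup 2 (P F) :=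
  isPGroup_of_tw fun g hg => ((h.memP F hF g).1 hg).2

theorem Ev.P_St (h : Ev K P) {F : Set Ω} (hF : F.ncard = 4) : P F ≤ St G F :=
  fun g hg => ((h.memP F hF g).1 hg).1

theorem Ev.conjP (h : Ev K P) {F : Set Ω} (hF : F.ncard = 4) (g a : G) :
    a ∈ P F ↔ g * a * g⁻¹ ∈ P (g • F) := by
  rw [h.memP F hF, h.memP _ (by rw [Set.ncard_smul_set, hF]), conj_mem_St, Tw.conj_iff]

theorem Fb.conjK (h : Fb K) {F : Set Ω} (hF : F.ncard = 4) (g a : G) :
    a ∈ K F ↔ g * a * g⁻¹ ∈ K (g • F) := by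
  refine ⟨h.conj F hF g a, fun ha => ?_⟩
  have := h.conj _ (by rw [Set.ncard_smul_set, hF]) g⁻¹ _ ha
  rwa [inv_smul_smul, show g⁻¹ * (g * a * g⁻¹) * g⁻¹⁻¹ = a by group] at this

theorem Ev.St_le_Nm (h : Ev K P) {F : Set Ω} (hF : F.ncard = 4) : St G F ≤ Nm (P F) :=
  fun g hg => mem_Nm_of_finite fun _ hx => (h.memP F hF _).2
    ⟨mul_mem (mul_mem hg (h.P_St hF hx)) (inv_mem hg), (Tw.of_mem (h.two hF) hx).conj g⟩

theorem Ev.odd_index (h : Ev K P) {F : Set Ω} (hF : F.ncard = 4) :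
    Odd ((K F).relIndex (St G F)) := by
  by_contra hc
  obtain ⟨c, hc, hcK, ho⟩ := (h.fr F hF).exists_prime Nat.prime_two
    (even_iff_two_dvd.1 (Nat.not_odd_iff_even.1 hc))
  exact hcK (h.P_le F hF ((h.memP F hF c).2
    ⟨hc, 1, by rw [pow_one, ← ho, pow_orderOf_eq_one]⟩))

theorem Ev.Fx_smul (h : Ev K P) {F : Set Ω} (hF : F.ncard = 4) (g : G) :
    Fx Ω (P (g • F)) = g • Fx Ω (P F) := by
  ext x
  rw [Set.mem_smul_set_iff_inv_smul_mem, mem_Fx, mem_Fx]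
  constructor
  · intro hx a ha
    have := hx _ ((h.conjP hF g a).1 ha)
    rwa [mul_smul, mul_smul, smul_eq_iff_eq_inv_smul] at this
  · intro hx a ha
    have h1 : g⁻¹ * a * g ∈ P F := (h.conjP hF g _).2 (by simpa [mul_assoc] using ha)
    have := hx _ h1
    rwa [mul_smul, mul_smul, smul_inv_smul, smul_left_cancel_iff] at this

theorem Ev.cards (h : Ev K P) {F F' : Set Ω} (hF : F.ncard = 4) (hF' : F'.ncard = 4) :
    (∃ g : G, g • F = F') ∧ Nat.card (P F') = Nat.card (P F) ∧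
    Nat.card (K F') = Nat.card (K F) ∧ Nat.card (St G F') = Nat.card (St G F) := by
  obtain ⟨g, -, rfl⟩ := h.tr.smul_eq hF hF' (Set.subset_univ _) (Set.subset_univ _)
  exact ⟨⟨g, rfl⟩, (card_eq_of_conj g (h.conjP hF g)).symm,
    (card_eq_of_conj g (h.toFb.conjK hF g)).symm, card_St_smul g F⟩

theorem Ev.P_eq (h : Ev K P) {F F' : Set Ω} (hF : F.ncard = 4) (hF' : F'.ncard = 4)
    (hsub : F' ⊆ Fx Ω (P F)) : P F' = P F :=
  (eq_of_le_of_card_ge (fun g hg => (h.memP F' hF' g).2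
    ⟨le_St_iff.2 hsub hg, Tw.of_mem (h.two hF) hg⟩) (h.cards hF hF').2.1.le).symm

theorem Ev.hl (hHall : HallStmt.{u}) (h : Ev K P) {F : Set Ω} (hF : F.ncard = 4) :
    Hl (Nm (P F)) (Fx Ω (P F)) := by
  refine hHall G Ω _ _ (fun g hg x hx => smul_mem_Fx hg hx)
    (witt G Ω h.tr F hF _ (h.P_St hF) fun g hg => ⟨1, one_mem _, fun x hx => ?_⟩) F
    (le_St_iff.1 (h.P_St hF)) hF fun g hg => ?_
  · rw [one_mul, inv_one, mul_one]
    exact (h.memP F hF _).2 ⟨hg x hx, (Tw.of_mem (h.two hF) hx).conj g⟩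
  · obtain ⟨k, m, hm, hn⟩ := Nat.exists_eq_pow_mul_and_not_dvd (orderOf_pos g).ne' 2 (by norm_num)
    refine ⟨m, Nat.not_even_iff_odd.1 fun e => hm (even_iff_two_dvd.1 e),
      le_St_iff.2 subset_rfl ((h.memP F hF _).2 ⟨pow_mem hg.2 m, k, ?_⟩)⟩
    rw [← pow_mul, mul_comm, ← hn, pow_orderOf_eq_one]

theorem Ev.K_le (hHall : HallStmt.{u}) (h : Ev K P) {F : Set Ω} (hF : F.ncard = 4) :
    K F ≤ St G (Fx Ω (P F)) := by
  have hl := h.hl hHall hF
  have hFB : F ⊆ Fx Ω (P F) := le_St_iff.1 (h.P_St hF)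
  have hle : St G (Fx Ω (P F)) ≤ St G F := St_anti hFB
  rcases (h.fr F hF).le_or hle (fun g hg => mem_Nm_St (smul_eq_of_mapsTo fun x hx =>
    smul_mem_Fx (h.St_le_Nm hF hg) hx)) with h1 | h1
  · by_cases h7 : (Fx Ω (P F)).ncard = 7
    · have h3 := hl.sev h7 F hFB hF
      rw [inf_eq_right.2 (h.St_le_Nm hF)] at h3
      have h4 := relIndex_mul_relIndex _ _ _ h1 (h.fr F hF).le
      rw [h3] at h4
      have h5 : (K F).relIndex (St G F) ≠ 1 := fun e =>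
        (h.fr F hF).ne_top (le_antisymm (h.fr F hF).le (relIndex_eq_one.1 e))
      have h6 := (Nat.dvd_prime Nat.prime_three).1 (Dvd.intro_left _ h4)
      rw [h6.resolve_left h5] at h4
      exact relIndex_eq_one.1 (by omega)
    · have h3 := hl.sharp h7 F hFB hF
      rw [inf_eq_right.2 (h.St_le_Nm hF)] at h3
      exact (h.fr F hF).le.trans h3
  · exact h1

theorem Ev.central (h : Ev K P) {F : Set Ω} (hF : F.ncard = 4) :
    ∃ z ∈ P F, z ≠ 1 ∧ ∀ k ∈ K F, Commute k z := by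
  obtain ⟨z, hz, hz1, -, hc⟩ := exists_fix_invol (h.two hF) (h.two hF) (h.P_ne F hF) le_normalizer
  refine ⟨z, hz, hz1, fun k hk => ?_⟩
  obtain ⟨a, b, h1, h2, h3⟩ := exists_two_odd k
  rw [← h1]
  refine (hc _ ((h.memP F hF _).2 ⟨pow_mem ((h.fr F hF).le hk) a, h2⟩)).mul_left ?_
  exact (commute_of_nil (h.fr F hF).nil (h.P_le F hF hz) (pow_mem hk b)
    ((Tw.of_mem (h.two hF) hz).coprime h3)).symm

theorem Ev.K_eq (hHall : HallStmt.{u}) (h : Ev K P) {F F' : Set Ω} (hF : F.ncard = 4)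
    (hF' : F'.ncard = 4) (hsub : F' ⊆ Fx Ω (P F)) : K F' = K F := by
  refine (eq_of_le_of_card_ge (fun k hk => ?_) (h.cards hF hF').2.2.1.le).symm
  obtain ⟨z, hz, hz1, hc⟩ := h.central hF
  by_contra hn
  exact hz1 ((h.fr F' hF').fpf k (St_anti hsub (h.K_le hHall hF hk)) hn z
    (h.P_le F' hF' (h.P_eq hF hF' hsub ▸ hz)) (hc k hk))

end

theorem blk (hHall : HallStmt.{u}) : BlkStmt.{u} := by
  intro G Ω _ _ _ _ K P h F hF
  have hFB : F ⊆ Fx Ω (P F) := le_St_iff.1 (h.P_St hF)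
  refine ⟨h.two hF, h.odd_index hF, hFB, h.hl hHall hF, h.K_le hHall hF, h.St_le_Nm hF,
    fun k hk ho a ha => (commute_of_nil (h.fr F hF).nil (h.P_le F hF ha) hk
      ((Tw.of_mem (h.two hF) ha).coprime ho)).symm,
    fun g => ⟨fun hg => smul_eq_of_mapsTo fun x hx => smul_mem_Fx hg hx, fun hg => ?_⟩,
    fun g => ⟨h.Fx_smul hF g, h.conjP hF g⟩,
    fun F' hsub hF' => ⟨h.P_eq hF hF' hsub, h.K_eq hHall hF hF' hsub⟩,
    fun F' hF' => h.cards hF hF', fun F' hF' => ?_, ?_, card_modEq_Fx (h.two hF)⟩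
  · have h1 := h.P_eq hF (F' := g • F) (by rw [Set.ncard_smul_set, hF])
      (hg ▸ Set.smul_set_mono hFB)
    exact mem_Nm_of_finite fun x hx => h1 ▸ (h.conjP hF g x).1 hx
  · obtain ⟨g, rfl⟩ := (h.cards hF hF').1
    rw [h.Fx_smul hF, Set.ncard_smul_set]
  · rw [← Set.ncard_univ]
    refine Set.ncard_lt_ncard (Set.ssubset_univ_iff.2 fun e => h.P_ne F hF ?_) (Set.toFinite _)
    exact eq_bot_iff.2 fun g hg => h.faith g fun x => (e ▸ Set.mem_univ x : x ∈ Fx Ω (P F)) g hg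

theorem lt_inf_Nm {G : Type u} [Group G] [Finite G] {p : ℕ} [Fact p.Prime] {Q P : Subgroup G}
    (hP : IsPGroup p P) (h : Q < P) : Q < Nm Q ⊓ P := by
  have := hP.isNilpotent
  have h1 : Q.subgroupOf P < ⊤ := lt_top_iff_ne_top.2 fun e => h.not_ge (subgroupOf_eq_top.1 e)
  have h2 := Group.normalizerCondition_of_isNilpotent (G := P) _ h1
  obtain ⟨g, hg, hgQ⟩ := SetLike.exists_of_lt h2
  refine lt_of_le_of_ne (le_inf le_normalizer h.le) fun e => hgQ ?_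
  rw [mem_subgroupOf, e]
  refine ⟨mem_Nm_of_finite fun x hx => ?_, g.2⟩
  exact (mem_normalizer_iff.1 hg ⟨x, h.le hx⟩).1 hx

theorem mq : MqStmt.{u} := by
  intro G Ω _ _ _ _ K P h k hk Q hQ F hFΔ hF
  have hQP : Q ≤ P F := fun g hg => (h.memP F hF g).2 ⟨le_St_iff.2 hFΔ hg, Tw.of_mem hQ.two hg⟩
  have hsub : Fx Ω (P F) ⊆ Fx Ω Q := fun x hx g hg => hx g (hQP hg)
  have hinf : P F ⊓ St G (Fx Ω Q) = Q := by
    refine (eq_of_le_of_card_ge (le_inf hQP (le_St_iff.2 subset_rfl))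
      (hQ.max _ ((h.two hF).to_le inf_le_left) (hQ.big.trans_le ?_))).symm
    exact Set.ncard_le_ncard (le_St_iff.1 inf_le_right) (Set.toFinite _)
  have hlt : Q < P F := lt_of_le_of_ne hQP fun e => by
    have := hQ.big
    rw [e, hk F hF] at this
    exact lt_irrefl _ this
  have hlt' := lt_inf_Nm (h.two hF) hlt
  have hDH : St G (Fx Ω Q) ≤ St G F := St_anti hFΔ
  have hDN : St G (Fx Ω Q) ≤ Nm Q := fun g hg => mem_Nm_of_finite fun x hx => by
    rw [← hinf] at hx ⊢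
    exact mem_inf.2 ⟨conj_mem_of_Nm (h.St_le_Nm hF (hDH hg)) hx.1,
      mul_mem (mul_mem hg (mem_inf.1 hx).2) (inv_mem hg)⟩
  refine ⟨hQP, hsub, hinf, fun g hg => ⟨?_, hDN hg⟩, fun z hz hzQ => ?_, fun A hA hAQ hAP => ?_⟩
  · by_contra hgK
    obtain ⟨a, ha, haQ⟩ := SetLike.exists_of_lt hlt'
    have h1 : g * a * g⁻¹ * a⁻¹ ∈ Q := by
      rw [← hinf]
      refine mem_inf.2 ⟨mul_mem (conj_mem_of_Nm (h.St_le_Nm hF (hDH hg)) (mem_inf.1 ha).2)
        (inv_mem (mem_inf.1 ha).2), ?_⟩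
      rw [mul_assoc, mul_assoc, ← mul_assoc a]
      exact mul_mem hg (conj_mem_of_Nm (mem_Nm_St (smul_eq_of_mapsTo fun x hx =>
        smul_mem_Fx ha.1 hx)) (inv_mem hg))
    obtain ⟨b, hb, e⟩ := (h.fr F hF).surj (hDH hg) hgK (hQP.trans (h.P_le F hF)) (hDN hg) h1
    exact haQ ((h.fr F hF).inj (hDH hg) hgK (h.P_le F hF (hQP hb)) (h.P_le F hF ha.2) e ▸ hb)
  · have hle : Q ⊔ zpowers z ≤ P F := sup_le hQP (zpowers_le.2 hz.2)
    have h1 : (Fx Ω (Q ⊔ zpowers z)).ncard ≤ k := by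
      by_contra hc
      have := hQ.max _ ((h.two hF).to_le hle) (not_le.1 hc)
      exact hzQ (eq_of_le_of_card_ge le_sup_left this ▸ mem_sup_right (mem_zpowers z))
    refine (Set.eq_of_subset_of_ncard_le (s := Fx Ω (P F)) (t := F1 Ω z ∩ Fx Ω Q)
      (fun x hx => ⟨hx z hz.2, hsub hx⟩) ?_
      (Set.toFinite _)).symm
    rw [hk F hF]
    refine le_trans (Set.ncard_le_ncard (fun x hx => ?_) (Set.toFinite _)) h1
    have : Q ⊔ zpowers z ≤ MulAction.stabilizer G x :=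
      sup_le (fun g hg => hx.2 g hg) (zpowers_le.2 hx.1)
    exact fun g hg => this hg
  · let M := Nm Q
    let Q' := Q.subgroupOf M
    have : Q'.Normal := normal_in_normalizer
    let π := QuotientGroup.mk' Q'
    have hπ : ∀ x : M, π x = 1 ↔ (x : G) ∈ Q := fun x => QuotientGroup.eq_one_iff (N := Q') x
    have hR : IsPGroup 2 (((P F).subgroupOf M).map π) := ((h.two hF).comap_subtype).map _
    obtain ⟨w, hw, hw1, hww, hc⟩ := exists_fix_invol (A := (A.subgroupOf M).map π)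
      (hA.comap_subtype.map _) hR
      (fun e => by
        obtain ⟨a, ha, haQ⟩ := SetLike.exists_of_lt hlt'
        have : π ⟨a, ha.1⟩ ∈ ((P F).subgroupOf M).map π := ⟨_, ha.2, rfl⟩
        rw [e, mem_bot] at this
        exact haQ ((hπ _).1 this))
      (by
        rintro _ ⟨a, ha, rfl⟩
        refine mem_Nm_of_finite ?_
        rintro _ ⟨x, hx, rfl⟩
        exact ⟨a * x * a⁻¹, conj_mem_of_Nm (U := P F) (hAP ha) hx, by simp⟩)
    obtain ⟨w, hw, rfl⟩ := hw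
    refine ⟨w, ⟨w.2, hw⟩, fun e => hw1 ((hπ _).2 e), ?_, fun a ha => ?_⟩
    · rw [← map_mul] at hww
      exact (hπ _).1 hww
    · have := commutatorElement_eq_one_iff_commute.2 (hc _ ⟨⟨a, hAQ ha⟩, ha, rfl⟩)
      rw [← map_commutatorElement] at this
      exact (hπ _).1 this

end Cfsg.Agent.H58.Q4
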