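import Cfsg.Agent.H58.Q4K2
import Cfsg.Agent.H11.GroupUtil
import Cfsg.Agent.S0042

/-!
# The semiregular situation: one or several involutions
-/

set_option autoImplicit false
set_option linter.unusedSectionVars false

namespace Cfsg.Agent.H58.Q4

open Subgroup Equiv Function
open scoped Pointwise commutatorElement

universe u

variable {G Ω : Type u} [Group G] [MulAction G Ω]

theorem exists_pcore_of_nil [Finite G] {K : Subgroup G} (hK : Group.IsNilpotent K) (p : ℕ)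
    [Fact p.Prime] : ∃ U ≤ K, IsPGroup p U ∧ ∀ g ∈ K, ∀ n : ℕ, g ^ p ^ n = 1 → g ∈ U := by
  obtain ⟨S⟩ : Nonempty (Sylow p K) := inferInstance
  have hn : (S : Subgroup K).Normal := inferInstance
  refine ⟨(S : Subgroup K).map K.subtype, map_subtype_le _, S.isPGroup'.map _, fun g hg n h => ?_⟩
  refine ⟨⟨g, hg⟩, H90.mem_sylow_of_mem_normalizer S (k := n) (Subtype.ext h) ?_, rfl⟩
  rw [normalizer_eq_top_iff.2 hn]
  exact mem_top _

theorem sq_of_orderOf {z : G} (h : orderOf z = 2) : z ≠ 1 ∧ z * z = 1 :=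
  ⟨fun e => by simp [e] at h, by rw [← pow_two, ← h, pow_orderOf_eq_one]⟩

theorem orderOf_of_sq {z : G} (h1 : z ≠ 1) (h : z * z = 1) : orderOf z = 2 :=
  orderOf_eq_prime (by rwa [pow_two]) h1

variable [Finite G] [Finite Ω] {K R : Set Ω → Subgroup G}

theorem SR.ex (h : SR K R) {F : Set Ω} (hF : F.ncard = 4) {z : G} (hz : z ∈ R F)
    (ho : orderOf z = 2) {a b : Ω} (ha : a ∈ F) (hb : b ∈ F) (hab : a ≠ b) {x : Ω} (hx : x ∉ F) :
    ∃ w, WD F z a b x w :=
  (h.exists_w hF hz (sq_of_orderOf ho).1 (sq_of_orderOf ho).2 ha hb hab hx (v := 1) (one_mul 1)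
    (Commute.one_left z) (one_smul _ _) (one_smul _ _) (one_smul _ _) (one_smul _ _)).imp
    fun _ hw => hw.1

theorem SR.invol (h : SR K R) {F : Set Ω} (hF : F.ncard = 4) : ∃ z ∈ R F, orderOf z = 2 := by
  obtain ⟨z, hz, hz1, hzz, -⟩ := exists_fix_invol (A := ⊥) IsPGroup.of_bot (h.two hF)
    (h.P_ne F hF) bot_le
  exact ⟨z, hz, orderOf_of_sq hz1 hzz⟩

theorem SR.card_R (h : SR K R) {F F' : Set Ω} (hF : F.ncard = 4) (hF' : F'.ncard = 4) :
    Nat.card (R F) = Nat.card (R F') := by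
  obtain ⟨g, -, rfl⟩ := h.tr4.smul_eq hF hF' (Set.subset_univ _) (Set.subset_univ _)
  exact card_eq_of_conj g fun x => by
    rw [h.memP F hF, h.memP _ hF', conj_mem_St, Tw.conj_iff]

/-- The product of two of the involutions has order three. -/
theorem SR.cube (h : SR K R) {a b c d : Ω} (hab : a ≠ b) (hac : a ≠ c) (had : a ≠ d)
    (hbc : b ≠ c) (hbd : b ≠ d) (hcd : c ≠ d) {z : G} (hz : z ∈ R {a, b, c, d})
    (ho : orderOf z = 2) {x : Ω} (hx : x ∉ ({a, b, c, d} : Set Ω)) {w w' : G}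
    (hw : WD {a, b, c, d} z a b x w) (hw' : WD {a, b, c, d} z a c x w') :
    (w * w') ^ 3 = 1 ∧ w * w' ≠ 1 ∧ (w * w') • d = d ∧ (w * w') • x = x := by
  have hF : ({a, b, c, d} : Set Ω).ncard = 4 :=
    Set.ncard_eq_four.2 ⟨a, b, c, d, hab, hac, had, hbc, hbd, hcd, rfl⟩
  have e1 : (w * w') • a = c := by rw [mul_smul, hw'.ab, hw.fo (by simp) hac.symm hbc.symm]
  have e2 : (w * w') • b = a := by rw [mul_smul, hw'.fo (by simp) hab.symm hbc, hw.ba]
  have e3 : (w * w') • c = b := by rw [mul_smul, hw'.ba, hw.ab]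
  have e4 : (w * w') • d = d := by
    rw [mul_smul, hw'.fo (by simp) had.symm hcd.symm, hw.fo (by simp) had.symm hbd.symm]
  have e5 : (w * w') • x = x := by rw [mul_smul, hw'.fx, hw.fx]
  have e6 : ∀ y : Ω, (w * w') ^ 3 • y = (w * w') • (w * w') • (w * w') • y := fun y => by
    simp only [pow_three, mul_smul]
  refine ⟨h.eq_one hF ?_ hx (by rw [e6, e5, e5, e5]), fun e => hac (by rw [← e1, e, one_smul]),
    e4, e5⟩
  rw [← (((w4 G Ω K R h).2 _ hF).2.2.2.2 z hz ho).2.1]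
  refine ⟨mem_Ce.2 ((hw.comm.mul_left hw'.comm).pow_left 3), mem_St.2 ?_⟩
  rintro y (rfl | rfl | rfl | rfl) <;> simp only [e6, e1, e2, e3, e4]

theorem s4b (hTwo : TwoStmt.{u}) : S4bStmt.{u} := by
  intro G Ω _ _ _ _ K R h ⟨F, hF, z, hz, z', hz', ho, ho', hne⟩
  obtain ⟨a, b, c, d, hab, hac, had, hbc, hbd, hcd, rfl⟩ := Set.ncard_eq_four.1 hF
  obtain ⟨x, hx⟩ := exists_not_mem_of_lt_card (S := ({a, b, c, d} : Set Ω)) (hF ▸ h.big)
  obtain ⟨hz1, hzz⟩ := sq_of_orderOf ho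
  obtain ⟨hz1', hzz'⟩ := sq_of_orderOf ho'
  have hcen := (((w4 G Ω K R h).2 _ hF).2.2.2.2 z hz ho).1
  have hcen' := (((w4 G Ω K R h).2 _ hF).2.2.2.2 z' hz' ho').1
  have swap : ∀ {p q : Ω} {w : G}, WD {a, b, c, d} z p q x w → w * z' * w⁻¹ = z' * z := by
    intro p q w hw
    have hc := h.cent hF hz hx hw
    have hm := conj_mem_of_Nm (h.nm hF hw.stab) hz'
    have hwi : w⁻¹ = w := inv_eq_of_mul_eq_one_right hw.sq
    have h1 : z' * (w * z' * w⁻¹) ∈ zpowers z := by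
      rw [← hc]
      refine ⟨mul_mem hz' hm, mem_Ce.2 ?_⟩
      change _ * _ = _ * _
      rw [mul_assoc z', inv_mul_cancel_right, (hcen' _ hm).eq, hwi]
      simp only [← mul_assoc, hw.sq, one_mul]
    have h2 : z' * (w * z' * w⁻¹) ≠ 1 := by
      intro e
      have h3 : w * z' * w⁻¹ = z' := by
        rw [← mul_right_inj z', e, hzz']
      have : z' ∈ zpowers z := hc ▸ (⟨hz', mem_Ce.2 (mul_inv_eq_iff_eq_mul.1 h3).symm⟩ :
        z' ∈ R {a, b, c, d} ⊓ Ce w)
      exact hne (eq_of_mem_zpowers_sq hzz this hz1').symm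
    rw [← mul_right_inj z', eq_of_mem_zpowers_sq hzz h1 h2, ← mul_assoc, hzz', one_mul]
  obtain ⟨w, hw⟩ := h.ex hF hz ho (a := a) (b := b) (by simp) (by simp) hab hx
  obtain ⟨w', hw'⟩ := h.ex hF hz ho (a := a) (b := c) (by simp) (by simp) hac hx
  obtain ⟨hy3, hy1, -, hyx⟩ := h.cube hab hac had hbc hbd hcd hz ho hx hw hw'
  have hyz : Commute (w * w') z := hw.comm.mul_left hw'.comm
  have hyz' : Commute (w * w') z' := by
    refine mul_inv_eq_iff_eq_mul.1 ?_
    calc w * w' * z' * (w * w')⁻¹ = w * (w' * z' * w'⁻¹) * w⁻¹ := by group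
      _ = (w * z' * w⁻¹) * (w * z * w⁻¹) := by rw [swap hw']; group
      _ = z' := by rw [swap hw, hw.comm.eq, mul_inv_cancel_right, mul_assoc, hzz, mul_one]
  set y := w * w'
  have ne : ∀ r ∈ R {a, b, c, d}, ∀ s ∈ R {a, b, c, d}, r ≠ s → r • x ≠ s • x :=
    fun r hr s hs hrs e => hrs (by
      have := h.eq_one hF (mul_mem (inv_mem hs) hr) hx (by rw [mul_smul, e, inv_smul_smul])
      exact (inv_mul_eq_one.1 this).symm)
  have hzz1 : z * z' ≠ 1 := fun e => hne (by rw [← mul_right_inj z, hzz, e])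
  have hF4 : ({(1 : G) • x, z • x, z' • x, (z * z') • x} : Set Ω).ncard = 4 :=
    Set.ncard_eq_four.2 ⟨_, _, _, _, ne _ (one_mem _) _ hz hz1.symm,
      ne _ (one_mem _) _ hz' hz1'.symm, ne _ (one_mem _) _ (mul_mem hz hz') hzz1.symm,
      ne _ hz _ hz' hne, ne _ hz _ (mul_mem hz hz') (by simpa using hz1'),
      ne _ hz' _ (mul_mem hz hz') (by simpa using hz1), rfl⟩
  have hySt : y ∈ St G ({(1 : G) • x, z • x, z' • x, (z * z') • x} : Set Ω) := mem_St.2 (by
    have key : ∀ r, Commute y r → y • r • x = r • x := fun r hr =>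
      smul_mem_F1 hr.symm (mem_F1.2 hyx)
    rintro t (rfl | rfl | rfl | rfl)
    exacts [key _ (Commute.one_right _), key _ hyz, key _ hyz', key _ (hyz.mul_right hyz')])
  generalize ({(1 : G) • x, z • x, z' • x, (z * z') • x} : Set Ω) = E at hF4 hySt
  have hyR : y ∉ R E := fun e => hy1 (eq_one_of_tw_of_cube (Tw.of_mem (h.two hF4) e) hy3)
  have hfpf := h.fpf E hF4 y hySt (h.K_eq hF4 ▸ hyR)
  obtain ⟨t, ht, hto⟩ := h.invol hF4
  obtain ⟨p, hp, q, hq, hpq⟩ := (Set.one_lt_ncard (Set.toFinite E)).1 (by omega)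
  obtain ⟨x', hx'⟩ := exists_not_mem_of_lt_card (S := E) (hF4 ▸ h.big)
  obtain ⟨-, -, hdvd, hnm, hW⟩ := (w4 G Ω K R h).2 E hF4
  obtain ⟨v, hvv, -, hvE, -, -, hvc, hcount⟩ := (hW t ht hto).2.2 p hp q hq hpq x' hx'
  have hyN : y ∈ Nm (R E) := hnm y (smul_eq_of_mapsTo fun s hs => by
    rw [mem_St.1 hySt s hs]; exact hs)
  obtain ⟨h4, hsq⟩ := hTwo G (R E) v y (h.two hF4) (h.P_ne E hF4) (hnm v hvE) hyN hvv hy3
    (by rw [hvc, Nat.card_zpowers, hto]) hfpf
  have hle : {r : G | r ∈ R E ∧ v * r * v⁻¹ = r⁻¹}.ncard ≤ 2 := by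
    rw [← hto, ← Nat.card_zpowers, ← hvc]
    refine Set.ncard_le_ncard (t := ((R E ⊓ Ce v : Subgroup G) : Set G))
      (fun r hr => ⟨hr.1, mem_Ce.2 ?_⟩) (Set.toFinite _)
    have := hr.2
    rw [inv_eq_of_mul_eq_one_right (hsq r hr.1)] at this
    exact (mul_inv_eq_iff_eq_mul.1 this).symm
  have hn : Nat.card Ω = 8 := by
    have := h.big
    rw [h4] at hdvd
    omega
  have h12 : Nat.card (St G E) = 12 := by
    have h24 := card_dvd_factorial (N := St G E) (S := Eᶜ)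
      (fun g hg s hs => not_mem_smul_of_St hg hs) (fun g hg hg' => h.faith g fun s => by
        by_cases hs : s ∈ E
        exacts [mem_St.1 hg s hs, mem_St.1 hg' s hs])
    rw [Set.ncard_compl, hn, hF4] at h24
    have h3 : 3 ∣ Nat.card (St G E) := by
      rw [← orderOf_eq_prime hy3 hy1]
      exact orderOf_dvd_natCard _ hySt
    have h4' : 4 ∣ Nat.card (St G E) := h4 ▸ card_dvd_of_le (h.R_le hF4)
    have h8 : ¬ 2 ^ 3 ∣ Nat.card (St G E) := by
      intro h8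
      obtain ⟨U, hU, hp, hc⟩ := exists_pgroup_card h8
      have : U ≤ R E := fun g hg => (h.memP E hF4 g).2 ⟨hU hg, Tw.of_mem hp hg⟩
      have := card_le_of_le this
      omega
    have h24' : Nat.card (St G E) ∣ 24 := h24
    have := Nat.le_of_dvd (by norm_num) h24'
    generalize Nat.card (St G E) = m at *
    interval_cases m <;> omega
  refine ⟨⟨hn, fun F' hF' => ?_⟩, fun F' hF' => (h.card_R hF' hF4).trans h4⟩
  obtain ⟨g, -, rfl⟩ := h.tr4.smul_eq hF4 hF' (Set.subset_univ _) (Set.subset_univ _)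
  rw [card_St_smul, h12]

theorem s4c : S4cStmt.{u} := by
  intro G Ω _ _ _ _ K R h huniq T hT
  have hSt : ∀ F : Set Ω, F.ncard = 4 → St G F = R F := fun F hF => by
    refine le_antisymm (fun g hg => ?_) (h.R_le hF)
    obtain ⟨z, hz, ho⟩ := h.invol hF
    rw [← (((w4 G Ω K R h).2 _ hF).2.2.2.2 z hz ho).2.1]
    have hN : g ∈ Nm (R F) := h.nm hF (smul_eq_of_mapsTo fun s hs => by
      rw [mem_St.1 hg s hs]; exact hs)
    exact ⟨mem_Ce.2 (mul_inv_eq_iff_eq_mul.1 (huniq F hF _ (conj_mem_of_Nm hN hz) z hz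
      (by rw [orderOf_conj', ho]) ho)), hg⟩
  have part1 : ∃ y ∈ St G T, ∃ w ∈ St G T, F1 Ω y = T ∧ y ^ 3 = 1 ∧ w * y * w⁻¹ = y⁻¹ := by
    obtain ⟨F, hF⟩ := exists_four h.big.le
    obtain ⟨a, b, c, d, hab, hac, had, hbc, hbd, hcd, rfl⟩ := Set.ncard_eq_four.1 hF
    obtain ⟨x, hx⟩ := exists_not_mem_of_lt_card (S := ({a, b, c, d} : Set Ω)) (hF ▸ h.big)
    obtain ⟨z, hz, ho⟩ := h.invol hF
    obtain ⟨w, hw⟩ := h.ex hF hz ho (a := a) (b := b) (by simp) (by simp) hab hx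
    obtain ⟨w', hw'⟩ := h.ex hF hz ho (a := a) (b := c) (by simp) (by simp) hac hx
    obtain ⟨hy3, hy1, hyd, hyx⟩ := h.cube hab hac had hbc hbd hcd hz ho hx hw hw'
    have hzx : z • x ≠ x := fun e => (sq_of_orderOf ho).1 (h.eq_one hF hz hx e)
    have hzx' := not_mem_smul_of_St (h.R_le hF hz) hx
    have hT0 : ({d, x, z • x} : Set Ω).ncard = 3 := Set.ncard_eq_three.2
      ⟨_, _, _, fun e => hx (by simp [← e]), fun e => hzx' (by simp [← e]), hzx.symm, rfl⟩
    have hy0 : w * w' ∈ St G ({d, x, z • x} : Set Ω) := mem_St.2 (by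
      rintro t (rfl | rfl | rfl)
      exacts [hyd, hyx, smul_mem_F1 (hw.comm.mul_left hw'.comm).symm (mem_F1.2 hyx)])
    have hw0 : w ∈ St G ({d, x, z • x} : Set Ω) := mem_St.2 (by
      rintro t (rfl | rfl | rfl)
      exacts [hw.fo (by simp) had.symm hbd.symm, hw.fx, smul_mem_F1 hw.comm.symm (mem_F1.2 hw.fx)])
    have hfix : F1 Ω (w * w') = {d, x, z • x} := by
      refine Set.Subset.antisymm (fun t ht => ?_) fun t ht => mem_St.1 hy0 t ht
      by_contra hn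
      have h4 : (insert t ({d, x, z • x} : Set Ω)).ncard = 4 := by
        rw [Set.ncard_insert_of_notMem hn (Set.toFinite _), hT0]
      have : w * w' ∈ St G (insert t ({d, x, z • x} : Set Ω)) := mem_St.2 (by
        rintro s (rfl | hs)
        exacts [ht, mem_St.1 hy0 s hs])
      rw [hSt _ h4] at this
      exact hy1 (eq_one_of_tw_of_cube (Tw.of_mem (h.two h4) this) hy3)
    obtain ⟨g, -, rfl⟩ := h.tr4.smul_eq3 (by rw [Set.ncard_univ]; exact h.big.le) hT0 hT
      (Set.subset_univ _) (Set.subset_univ _)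
    refine ⟨_, conj_mem_St.2 hy0, _, conj_mem_St.2 hw0, by rw [F1_conj, hfix],
      by rw [conj_pow, hy3]; simp, ?_⟩
    have : w * (w * w') * w⁻¹ = (w * w')⁻¹ := by
      rw [← mul_assoc, hw.sq, one_mul, mul_inv_rev, inv_eq_of_mul_eq_one_right hw'.sq]
    calc _ = g * (w * (w * w') * w⁻¹) * g⁻¹ := by group
      _ = _ := by rw [this]; group
  refine ⟨part1, fun hcyc => ?_⟩
  obtain ⟨y, hy, -, -, hfix, hy3, -⟩ := part1
  obtain ⟨d, hd⟩ := exists_not_mem_of_lt_card (S := T) (by have := h.big; omega)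
  have hyd : y • d ≠ d := fun e => hd (hfix ▸ mem_F1.2 e)
  have hy1 : y ≠ 1 := fun e => hyd (by rw [e, one_smul])
  have hF : (insert d T).ncard = 4 := by rw [Set.ncard_insert_of_notMem hd (Set.toFinite _), hT]
  have hRT : R (insert d T) ≤ St G T := (h.R_le hF).trans (St_anti (Set.subset_insert _ _))
  have hfr : Cfsg.IsFrobeniusComplement ((R (insert d T)).subgroupOf (St G T)) := by
    refine ⟨fun e => h.P_ne _ hF ?_, fun e => ?_, fun g hg => ?_⟩
    · rw [subgroupOf_eq_bot, disjoint_iff, inf_eq_left.2 hRT] at e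
      exact e
    · have : y ∈ R (insert d T) := subgroupOf_eq_top.1 e hy
      exact hyd (mem_St.1 (h.R_le hF this) d (Set.mem_insert _ _))
    · rw [eq_bot_iff]
      intro r hr
      have h1 : (r : G) ∈ R (insert d T) := (mem_inf.1 hr).1
      have h2 := (mem_inf.1 hr).2
      rw [mem_pointwise_smul_iff_inv_smul_mem] at h2
      have h3 : (g : G)⁻¹ * r * g ∈ R (insert d T) := by simpa [mem_subgroupOf] using h2
      have h4 := mem_St.1 (h.R_le hF h3) d (Set.mem_insert _ _)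
      rw [mul_smul, mul_smul, inv_smul_eq_iff] at h4
      refine Subtype.ext (h.eq_one hF h1 ?_ h4)
      rintro (e | e)
      · refine hg ?_
        rw [mem_subgroupOf, ← hSt _ hF, mem_St]
        rintro s (rfl | hs)
        exacts [e, mem_St.1 g.2 s hs]
      · exact not_mem_smul_of_St g.2 hd e
  obtain ⟨N, hN, hNn, hNnil⟩ := S0042.result _ hfr
  have hyN : (⟨y, hy⟩ : St G T) ∈ N := by
    rw [← SetLike.mem_coe, hN]
    refine Or.inr fun g hg => ?_
    rw [mem_pointwise_smul_iff_inv_smul_mem] at hg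
    have h3 : (g : G)⁻¹ * y * (g : G)⁻¹⁻¹ ∈ R (insert d T) := by simpa [mem_subgroupOf] using hg
    exact hy1 (eq_one_of_tw_of_cube (Tw.conj_iff.1 (Tw.of_mem (h.two hF) h3)) hy3)
  obtain ⟨U, -, hU3, hU⟩ := exists_pcore_of_nil hNnil 3
  have hUc := hcyc (U.map (St G T).subtype) (map_subtype_le _) (hU3.map _)
  have hinv : ∀ r ∈ R (insert d T), r ≠ 1 → r * y * r⁻¹ = y⁻¹ := by
    intro r hr hr1
    have h1 : y ∈ U.map (St G T).subtype := ⟨_, hU _ hyN 1 (Subtype.ext (by simpa using hy3)), rfl⟩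
    have h2 : r * y * r⁻¹ ∈ U.map (St G T).subtype :=
      ⟨_, hU _ (hNn.conj_mem _ hyN ⟨r, hRT hr⟩) 1 (Subtype.ext (by
        simp only [pow_one, SubmonoidClass.coe_pow, coe_mul, coe_inv, conj_pow, hy3]
        simp)), rfl⟩
    obtain ⟨i, hi⟩ := H11.mem_zpowers_of_orderOf_dvd _ h2 h1 (by rw [orderOf_conj'])
    have h3 : y ^ (3 : ℤ) = 1 := by exact_mod_cast hy3
    have hi' : y ^ (i % 3) = r * y * r⁻¹ := by
      rw [← zpow_eq_zpow_emod i h3]; exact hi
    have : i % 3 = 0 ∨ i % 3 = 1 ∨ i % 3 = 2 := by omega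
    rcases this with e | e | e
    · rw [e, zpow_zero] at hi'
      exact absurd (by simpa using hi'.symm) hy1
    · rw [e, zpow_one] at hi'
      have hc : Commute y r := (mul_inv_eq_iff_eq_mul.1 hi'.symm).symm
      have h5 := smul_mem_F1 hc (x := d) (mem_St.1 (h.R_le hF hr) d (Set.mem_insert _ _))
      rw [h.semi _ hF r hr hr1] at h5
      rcases h5 with e | e
      exacts [absurd e hyd, absurd e (not_mem_smul_of_St hy hd)]
    · rw [← hi', e, eq_inv_iff_mul_eq_one, ← zpow_add_one]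
      exact h3
  obtain ⟨z, hz, ho⟩ := h.invol hF
  obtain ⟨hz1, hzz⟩ := sq_of_orderOf ho
  have hR : (R (insert d T) : Set G) ⊆ {1, z} := by
    intro r hr
    by_contra hn
    simp only [Set.mem_insert_iff, Set.mem_singleton_iff, not_or] at hn
    have h1 : z * r ≠ 1 := fun e => hn.2 (by rw [← mul_right_inj z, e, hzz])
    have h2 := hinv _ (mul_mem hz hr) h1
    have h3 : z * r * y * (z * r)⁻¹ = (z * (r * y * r⁻¹)⁻¹ * z⁻¹)⁻¹ := by group
    rw [h3, hinv r hr hn.1, inv_inv, hinv z hz hz1, inv_inv] at h2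
    have : y ^ 2 = 1 := by rw [pow_two, ← eq_inv_iff_mul_eq_one]; exact h2
    exact hy1 (by rw [pow_succ, this, one_mul] at hy3; exact hy3)
  obtain ⟨p, hp, q, hq, hpq⟩ := (Set.one_lt_ncard (Set.toFinite (insert d T))).1 (by omega)
  obtain ⟨x', hx'⟩ := exists_not_mem_of_lt_card (S := insert d T) (hF ▸ h.big)
  obtain ⟨-, -, hdvd, -, hW⟩ := (w4 G Ω K R h).2 _ hF
  obtain ⟨v, -, -, -, -, -, -, hcount⟩ := (hW z hz ho).2.2 p hp q hq hpq x' hx'
  have hle : {r : G | r ∈ R (insert d T) ∧ v * r * v⁻¹ = r⁻¹}.ncard ≤ 2 :=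
    (Set.ncard_le_ncard (fun r hr => hR hr.1) (Set.toFinite _)).trans
      (Set.ncard_pair hz1.symm).le
  have h2 : 2 ∣ Nat.card Ω - 4 := (ho ▸ orderOf_dvd_natCard _ hz).trans hdvd
  have h3 := card_modEq_F1 (Ω := Ω) (p := 3) (y := y) (k := 1) (by simpa using hy3)
  rw [hfix, hT, Nat.ModEq] at h3
  have := h.big
  omega

end Cfsg.Agent.H58.Q4
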