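import Cfsg.Agent.H58.Q4W4

/-!
# Toolkit for the four-fold transitive project, second part
-/

set_option autoImplicit false
set_option linter.unusedSectionVars false

namespace Cfsg.Agent.H58.Q4

open Subgroup Equiv Function
open scoped Pointwise commutatorElement

universe u

variable {G Ω : Type u} [Group G] [MulAction G Ω]

theorem Tr4.four {N : Subgroup G} {Δ : Set Ω} (h : Tr4 N Δ) {a b c d a' b' c' d' : Ω}
    (hab : a ≠ b) (hac : a ≠ c) (had : a ≠ d) (hbc : b ≠ c) (hbd : b ≠ d) (hcd : c ≠ d)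
    (hab' : a' ≠ b') (hac' : a' ≠ c') (had' : a' ≠ d') (hbc' : b' ≠ c') (hbd' : b' ≠ d')
    (hcd' : c' ≠ d') (ha : a ∈ Δ) (hb : b ∈ Δ) (hc : c ∈ Δ) (hd : d ∈ Δ)
    (ha' : a' ∈ Δ) (hb' : b' ∈ Δ) (hc' : c' ∈ Δ) (hd' : d' ∈ Δ) :
    ∃ g ∈ N, g • a = a' ∧ g • b = b' ∧ g • c = c' ∧ g • d = d' := by
  obtain ⟨g, hg, e⟩ := h ![a, b, c, d] ![a', b', c', d']
    (by
      intro i j
      fin_cases i <;> fin_cases j <;>
        simp [hab, hac, had, hbc, hbd, hcd, hab.symm, hac.symm, had.symm, hbc.symm, hbd.symm,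
          hcd.symm])
    (by
      intro i j
      fin_cases i <;> fin_cases j <;>
        simp [hab', hac', had', hbc', hbd', hcd', hab'.symm, hac'.symm, had'.symm, hbc'.symm,
          hbd'.symm, hcd'.symm])
    (by intro i; fin_cases i <;> simpa) (by intro i; fin_cases i <;> simpa)
  exact ⟨g, hg, e 0, e 1, e 2, e 3⟩

theorem Tr4.smul_eq {N : Subgroup G} {Δ : Set Ω} (h : Tr4 N Δ) {F F' : Set Ω}
    (hF : F.ncard = 4) (hF' : F'.ncard = 4) (h1 : F ⊆ Δ) (h2 : F' ⊆ Δ) :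
    ∃ g ∈ N, g • F = F' := by
  obtain ⟨a, b, c, d, hab, hac, had, hbc, hbd, hcd, rfl⟩ := Set.ncard_eq_four.1 hF
  obtain ⟨a', b', c', d', hab', hac', had', hbc', hbd', hcd', rfl⟩ := Set.ncard_eq_four.1 hF'
  obtain ⟨g, hg, e1, e2, e3, e4⟩ := h.four hab hac had hbc hbd hcd hab' hac' had' hbc' hbd' hcd'
    (h1 (by simp)) (h1 (by simp)) (h1 (by simp)) (h1 (by simp))
    (h2 (by simp)) (h2 (by simp)) (h2 (by simp)) (h2 (by simp))
  exact ⟨g, hg, by simp only [Set.smul_set_insert, Set.smul_set_singleton, e1, e2, e3, e4]⟩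

theorem exists_not_mem_of_lt [Finite Ω] {S Δ : Set Ω} (h : S.ncard < Δ.ncard) :
    ∃ x ∈ Δ, x ∉ S := Set.exists_mem_notMem_of_ncard_lt_ncard h (Set.toFinite _)

theorem Tr4.three [Finite Ω] {N : Subgroup G} {Δ : Set Ω} (h : Tr4 N Δ) (h4 : 4 ≤ Δ.ncard)
    {a b c a' b' c' : Ω} (hab : a ≠ b) (hac : a ≠ c) (hbc : b ≠ c)
    (hab' : a' ≠ b') (hac' : a' ≠ c') (hbc' : b' ≠ c') (ha : a ∈ Δ) (hb : b ∈ Δ) (hc : c ∈ Δ)
    (ha' : a' ∈ Δ) (hb' : b' ∈ Δ) (hc' : c' ∈ Δ) :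
    ∃ g ∈ N, g • a = a' ∧ g • b = b' ∧ g • c = c' := by
  obtain ⟨d, hd, hd1⟩ := exists_not_mem_of_lt (S := {a, b, c}) (Δ := Δ)
    (by rw [Set.ncard_eq_three.2 ⟨a, b, c, hab, hac, hbc, rfl⟩]; omega)
  obtain ⟨d', hd', hd1'⟩ := exists_not_mem_of_lt (S := {a', b', c'}) (Δ := Δ)
    (by rw [Set.ncard_eq_three.2 ⟨a', b', c', hab', hac', hbc', rfl⟩]; omega)
  simp only [Set.mem_insert_iff, Set.mem_singleton_iff, not_or] at hd1 hd1'
  obtain ⟨g, hg, e1, e2, e3, -⟩ := h.four hab hac (Ne.symm hd1.1) hbc (Ne.symm hd1.2.1)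
    (Ne.symm hd1.2.2) hab' hac' (Ne.symm hd1'.1) hbc' (Ne.symm hd1'.2.1) (Ne.symm hd1'.2.2)
    ha hb hc hd ha' hb' hc' hd'
  exact ⟨g, hg, e1, e2, e3⟩

theorem Tr4.smul_eq3 [Finite Ω] {N : Subgroup G} {Δ : Set Ω} (h : Tr4 N Δ) (h4 : 4 ≤ Δ.ncard)
    {T T' : Set Ω} (hT : T.ncard = 3) (hT' : T'.ncard = 3) (h1 : T ⊆ Δ) (h2 : T' ⊆ Δ) :
    ∃ g ∈ N, g • T = T' := by
  obtain ⟨a, b, c, hab, hac, hbc, rfl⟩ := Set.ncard_eq_three.1 hT
  obtain ⟨a', b', c', hab', hac', hbc', rfl⟩ := Set.ncard_eq_three.1 hT'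
  obtain ⟨g, hg, e1, e2, e3⟩ := h.three h4 hab hac hbc hab' hac' hbc'
    (h1 (by simp)) (h1 (by simp)) (h1 (by simp)) (h2 (by simp)) (h2 (by simp)) (h2 (by simp))
  exact ⟨g, hg, by simp only [Set.smul_set_insert, Set.smul_set_singleton, e1, e2, e3]⟩

theorem card_eq_of_conj {U V : Subgroup G} (g : G) (h : ∀ x, x ∈ U ↔ g * x * g⁻¹ ∈ V) :
    Nat.card U = Nat.card V :=
  Nat.card_congr
    { toFun := fun x => ⟨g * x * g⁻¹, (h x).1 x.2⟩
      invFun := fun y => ⟨g⁻¹ * y * g, (h _).2 (by simp [mul_assoc])⟩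
      left_inv := fun x => Subtype.ext (by simp [mul_assoc])
      right_inv := fun x => Subtype.ext (by simp [mul_assoc]) }

theorem card_St_smul (g : G) (F : Set Ω) : Nat.card (St G (g • F)) = Nat.card (St G F) :=
  (card_eq_of_conj g fun _ => conj_mem_St.symm).symm

theorem Tw.conj_iff {g x : G} : Tw (g * x * g⁻¹) ↔ Tw x :=
  ⟨fun h => by simpa [mul_assoc] using h.conj g⁻¹, fun h => h.conj g⟩

theorem ncard_modEq [Finite Ω] {p : ℕ} [Fact p.Prime] {U : Subgroup G} (hU : IsPGroup p U)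
    {S : Set Ω} (hS : ∀ r ∈ U, ∀ x ∈ S, r • x ∈ S) :
    S.ncard ≡ (S ∩ Fx Ω U).ncard [MOD p] := by
  let _ : MulAction U S :=
    { smul := fun r x => ⟨r.1 • x.1, hS _ r.2 _ x.2⟩
      one_smul := fun x => Subtype.ext (one_smul G x.1)
      mul_smul := fun a b x => Subtype.ext (mul_smul a.1 b.1 x.1) }
  have := hU.card_modEq_card_fixedPoints S
  rw [← Nat.card_coe_set_eq, ← Nat.card_coe_set_eq]
  convert this using 1
  exact Nat.card_congr
    { toFun := fun x => ⟨⟨x.1, x.2.1⟩, fun g => Subtype.ext (x.2.2 g g.2)⟩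
      invFun := fun x => ⟨x.1.1, x.1.2, fun g hg => congrArg Subtype.val (x.2 ⟨g, hg⟩)⟩
      left_inv := fun _ => rfl
      right_inv := fun _ => rfl }

theorem card_modEq_Fx [Finite Ω] {p : ℕ} [Fact p.Prime] {U : Subgroup G} (hU : IsPGroup p U) :
    Nat.card Ω ≡ (Fx Ω U).ncard [MOD p] := by
  have := ncard_modEq (Ω := Ω) hU (S := Set.univ) fun _ _ _ _ => trivial
  rwa [Set.ncard_univ, Set.univ_inter] at this

theorem ncard_modEq_F1 [Finite Ω] {p : ℕ} [Fact p.Prime] {y : G} {k : ℕ} (hy : y ^ p ^ k = 1)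
    {S : Set Ω} (hS : ∀ x ∈ S, y • x ∈ S) : S.ncard ≡ (S ∩ F1 Ω y).ncard [MOD p] := by
  rw [← Fx_zpowers]
  refine ncard_modEq (H90.isPGroup_zpowers hy) fun r hr x hx => ?_
  have : zpowers y ≤ MulAction.stabilizer G S := zpowers_le.2 (smul_eq_of_mapsTo hS)
  have h2 : r • S = S := this hr
  exact h2 ▸ Set.smul_mem_smul_set hx

theorem card_modEq_F1 [Finite Ω] {p : ℕ} [Fact p.Prime] {y : G} {k : ℕ} (hy : y ^ p ^ k = 1) :
    Nat.card Ω ≡ (F1 Ω y).ncard [MOD p] := by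
  have := ncard_modEq_F1 (Ω := Ω) hy (S := Set.univ) fun _ _ => trivial
  rwa [Set.ncard_univ, Set.univ_inter] at this

/-- The permutation representation of a subgroup on an invariant subset. -/
def rep (N : Subgroup G) (S : Set Ω) (hS : ∀ g ∈ N, ∀ x ∈ S, g • x ∈ S) : N →* Perm S :=
  letI : MulAction N S :=
    { smul := fun r x => ⟨r.1 • x.1, hS _ r.2 _ x.2⟩
      one_smul := fun x => Subtype.ext (one_smul G x.1)
      mul_smul := fun a b x => Subtype.ext (mul_smul a.1 b.1 x.1) }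
  MulAction.toPermHom N S

theorem rep_apply {N : Subgroup G} {S : Set Ω} (hS : ∀ g ∈ N, ∀ x ∈ S, g • x ∈ S) (g : N)
    (x : S) : (rep N S hS g x : Ω) = (g : G) • (x : Ω) := rfl

theorem mem_ker_rep {N : Subgroup G} {S : Set Ω} (hS : ∀ g ∈ N, ∀ x ∈ S, g • x ∈ S) (g : N) :
    g ∈ (rep N S hS).ker ↔ (g : G) ∈ St G S := by
  rw [MonoidHom.mem_ker, mem_St, Equiv.ext_iff]
  exact ⟨fun h x hx => congrArg Subtype.val (h ⟨x, hx⟩), fun h x => Subtype.ext (h x x.2)⟩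

theorem relIndex_St_dvd [Finite Ω] {N : Subgroup G} {S : Set Ω}
    (hS : ∀ g ∈ N, ∀ x ∈ S, g • x ∈ S) : (St G S).relIndex N ∣ S.ncard.factorial := by
  classical
  have h1 : (St G S).subgroupOf N = (rep N S hS).ker := by
    ext g; rw [mem_subgroupOf, mem_ker_rep]
  have := Fintype.ofFinite S
  rw [relIndex, h1, index_ker, ← Nat.card_coe_set_eq, ← Nat.card_perm]
  exact card_subgroup_dvd_card _

theorem card_dvd_factorial [Finite Ω] {N : Subgroup G} {S : Set Ω}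
    (hS : ∀ g ∈ N, ∀ x ∈ S, g • x ∈ S) (h : ∀ g ∈ N, g ∈ St G S → g = 1) :
    Nat.card N ∣ S.ncard.factorial := by
  have := relIndex_St_dvd hS
  rwa [← inf_relIndex_right, show St G S ⊓ N = ⊥ from
    eq_bot_iff.2 fun g hg => h g hg.2 hg.1, relIndex_bot_left] at this

theorem exists_pgroup_card [Finite G] {p : ℕ} [Fact p.Prime] {H : Subgroup G} {n : ℕ}
    (h : p ^ n ∣ Nat.card H) : ∃ U ≤ H, IsPGroup p U ∧ Nat.card U = p ^ n := by
  obtain ⟨U, hU⟩ := Sylow.exists_subgroup_card_pow_prime p h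
  have hc : Nat.card (U.map H.subtype) = p ^ n := by rw [card_map_of_injective H.subtype_injective, hU]
  exact ⟨U.map H.subtype, map_subtype_le _, IsPGroup.of_card hc, hc⟩

theorem exists_four [Finite Ω] (h : 4 ≤ Nat.card Ω) : ∃ F : Set Ω, F.ncard = 4 := by
  obtain ⟨F, -, hF⟩ := Set.exists_subset_card_eq (s := (Set.univ : Set Ω)) (n := 4)
    (by rwa [Set.ncard_univ])
  exact ⟨F, hF⟩

theorem exists_not_mem_of_lt_card [Finite Ω] {S : Set Ω} (h : S.ncard < Nat.card Ω) :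
    ∃ x, x ∉ S := by
  obtain ⟨x, -, hx⟩ := exists_not_mem_of_lt (S := S) (Δ := Set.univ) (by rwa [Set.ncard_univ])
  exact ⟨x, hx⟩

theorem eq_one_of_tw_of_cube {y : G} (h : Tw y) (h3 : y ^ 3 = 1) : y = 1 :=
  h.eq_one (Odd.of_dvd_nat (by decide : Odd 3) (orderOf_dvd_of_pow_eq_one h3))

end Cfsg.Agent.H58.Q4
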