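import Cfsg.Agent.H58.Q4Z
import Cfsg.Agent.H58.Q4Blk
import Cfsg.Agent.H58.Q4S4
import Cfsg.Agent.H32.Q4Sts
import Cfsg.Agent.H6.Q4Hall
import Cfsg.Agent.H67.Q4Cp
import Cfsg.Agent.H30.Q4Lift
import Cfsg.Agent.H71.Q4Hig
import Cfsg.Agent.H38.Q4Two
import Cfsg.Agent.H31.Q4E8a
import Cfsg.Agent.H61.Q4Dat
import Cfsg.Agent.H83.Q4Par
import Cfsg.Agent.H69.Q4Id
import Cfsg.Agent.H43.Q4Oa
import Cfsg.Agent.H89.Q4Odd
import Cfsg.Agent.H89.Q4Orn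
import Cfsg.Agent.H33.Q4No5
import Cfsg.Agent.H62.Q4Cf
import Cfsg.Agent.H21.Q4Re
import Cfsg.Agent.H48.Q4Ft
import Cfsg.Agent.H62.Q4F6r
import Cfsg.Agent.H10.Q4F6n
import Cfsg.Agent.H48.Q4F6s
import Cfsg.Agent.H7.Q4K6
import Cfsg.Agent.H15.Q4D4
import Cfsg.Agent.H52.Q4Quo
import Cfsg.Agent.H14.Q4Ug
import Cfsg.Agent.H48.Q4Ua
import Cfsg.Agent.H71.Q4K7a
import Cfsg.Agent.H52.Q4K7b
import Cfsg.Agent.H78.QfK7c
import Cfsg.Agent.H10.Q4K7d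
import Cfsg.Agent.H48.Q4K7e

/-!
# Four-fold transitive groups whose four-point stabiliser is a Frobenius group: collection
-/

set_option autoImplicit false

namespace Cfsg.Agent.H58.Q4

universe u

theorem blk' : BlkStmt.{u} := blk H6.Q4Hall.hall
theorem cp' : CpStmt.{u} := H67.Q4Cp.cp fr
theorem cf' : CfStmt.{u} := H62.Q4Cf.cf fr cp' witt H6.Q4Hall.hall blk'
theorem re' : ReStmt.{u} := H21.Q4Re.re fr cf' ord blk'
theorem ft' : FtStmt.{u} := H48.Q4Ft.ft fr blk' ord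
theorem id' : IdStmt.{u} := H69.id ord
theorem oa' : OaStmt.{u} := H43.Q4Oa.oa fr
theorem k7a' : K7aStmt.{u} := H71.Q4K7a.k7a fr cp' blk' H30.Q4Lift.lift
theorem f6n' : F6nStmt.{u} :=
  H10.Q4N.f6n cf' ord (H62.Q4F6r.f6r fr blk' cf' ord H30.Q4Lift.lift)

universe v w

theorem main_of' (hFa : FaStmt.{max v w}) (hE8 : E8Stmt.{max v w})
    {G : Type v} [Group G] [Finite G] {Ω : Type w} [Fintype Ω] [MulAction G Ω] [FaithfulSMul G Ω]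
    (h4 : MulAction.IsMultiplyPretransitive G Ω 4) (a b c d : Ω) (hab : a ≠ b) (hac : a ≠ c)
    (had : a ≠ d) (hbc : b ≠ c) (hbd : b ≠ d) (hcd : c ≠ d)
    (hF : ∃ H : Subgroup ↥(MulAction.stabilizer G a ⊓ MulAction.stabilizer G b ⊓
      MulAction.stabilizer G c ⊓ MulAction.stabilizer G d), Cfsg.IsFrobeniusComplement H) :
    Nonempty (G ≃* Equiv.Perm (Fin 7)) ∨ Nonempty (G ≃* alternatingGroup (Fin 8)) ∨
      Spor.IsoM23 G :=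
  main_of fr (H61.Q4Dat.dat fr) (H83.Q4Par.par fr H6.Q4Hall.hall) id'
    (H89.Q4Odd.oev oa' ord id') (H89.Q4Odd.ood oa' id')
    (H89.Q4Odd.orn H32.Q4Sts.sts witt H6.Q4Hall.hall ord) (H89.Q4Odd.o13 oa' witt ord) blk' mq
    (H33.Q4No5.no5 H32.Q4Sts.sts blk' mq) f6n' (H48.Q4F6s.f6s fr blk' cf' hFa)
    (H7.Q4.k6 fr blk' cf') (H15.Q4D.d4 fr blk' mq w4 (s4b H38.Q4Two.two) s4c) hE8
    (H52.Q4Quo.quo fr witt blk') (H14.Q4Ug.ug blk' cf')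
    (H48.Q4Ua.ua fr blk' mq cf' re' H30.Q4Lift.lift ft') (H52.Q4K7b.k7b blk' mq k7a')
    (H78QF.k7c fr blk' k7a') (H10.Q4D.k7d ord blk' k7a') (H48.Q4K7e.k7e ord blk')
    h4 a b c d hab hac had hbc hbd hcd hF

end Cfsg.Agent.H58.Q4
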