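import Cfsg.Agent.H58.Q4K2

/-!
# Basic pieces: the lemma of Witt, orders of stabilisers, Frobenius groups
-/

set_option autoImplicit false
set_option linter.unusedSectionVars false

namespace Cfsg.Agent.H58.Q4

open Subgroup Equiv Function
open scoped Pointwise commutatorElement

universe u

theorem exists_enum {Ω : Type u} {F : Set Ω} (hF : F.ncard = 4) :
    ∃ e : Fin 4 → Ω, Injective e ∧ Set.range e = F := by
  obtain ⟨a, b, c, d, hab, hac, had, hbc, hbd, hcd, rfl⟩ := Set.ncard_eq_four.1 hF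
  refine ⟨![a, b, c, d], ?_, by ext t; simp [Matrix.range_cons]; tauto⟩
  intro i j
  fin_cases i <;> fin_cases j <;>
    simp [hab, hac, had, hbc, hbd, hcd, hab.symm, hac.symm, had.symm, hbc.symm, hbd.symm, hcd.symm]

theorem witt : WittStmt.{u} := by
  intro G Ω _ _ _ _ h F hF U hU hc
  obtain ⟨e, he, rfl⟩ := exists_enum hF
  have key : ∀ a : Fin 4 → Ω, Injective a → (∀ i, a i ∈ Fx Ω U) → ∃ g ∈ Nm U, ∀ i, g • a i = e i := by
    intro a ha haU
    obtain ⟨g, -, hg⟩ := h a e ha he (fun _ => trivial) (fun _ => trivial)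
    obtain ⟨k, hk, hkU⟩ := hc g fun x hx => mem_St.2 (by
      rintro _ ⟨i, rfl⟩
      rw [← hg, mul_smul, mul_smul, inv_smul_smul, haU i x hx])
    refine ⟨k * g, mem_Nm_of_finite fun x hx => ?_, fun i => ?_⟩
    · have := hkU x hx
      rwa [show k * (g * x * g⁻¹) * k⁻¹ = k * g * x * (k * g)⁻¹ by group] at this
    · rw [mul_smul, hg, mem_St.1 hk _ ⟨i, rfl⟩]
  intro a b ha hb haU hbU
  obtain ⟨g, hg, h1⟩ := key a ha haU
  obtain ⟨g', hg', h2⟩ := key b hb hbU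
  exact ⟨g'⁻¹ * g, mul_mem (inv_mem hg') hg, fun i => by rw [mul_smul, h1, ← h2, inv_smul_smul]⟩

section

variable {G Ω : Type u} [Group G] [Finite G] [MulAction G Ω] [Finite Ω]

/-- Orbit and stabiliser for a subgroup transitive on a subset. -/
theorem card_eq_of_trans {M : Subgroup G} {S : Set Ω} {x : Ω}
    (h1 : ∀ g ∈ M, g • x ∈ S) (h2 : ∀ y ∈ S, ∃ g ∈ M, g • x = y) :
    Nat.card M = S.ncard * Nat.card ↥(M ⊓ St G {x}) := by
  have horb : MulAction.orbit M x = S := by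
    ext y
    constructor
    · rintro ⟨g, rfl⟩; exact h1 g g.2
    · intro hy
      obtain ⟨g, hg, rfl⟩ := h2 y hy
      exact ⟨⟨g, hg⟩, rfl⟩
  have hst : MulAction.stabilizer M x = (M ⊓ St G {x}).subgroupOf M := by
    ext g
    simp [mem_subgroupOf, mem_St, Subgroup.smul_def]
  rw [← horb, ← MulAction.index_stabilizer, hst,
    ← Nat.card_congr (subgroupOfEquivOfLe (inf_le_left : M ⊓ St G {x} ≤ M)).toEquiv, mul_comm,
    card_mul_index]

omit [Finite G] [Finite Ω] in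
theorem St_insert (x : Ω) (S : Set Ω) : St G (insert x S) = St G S ⊓ St G {x} := by
  ext g
  simp [mem_St, and_comm]

theorem Tr4.step {N : Subgroup G} {Δ : Set Ω} (h : Tr4 N Δ) {F : Set Ω} (hFΔ : F ⊆ Δ)
    (hF : F.ncard = 4) {S : Set Ω} (hS : S ⊆ F) {x : Ω} (hx : x ∈ F) (hxS : x ∉ S) {y : Ω}
    (hy : y ∈ Δ) (hyS : y ∉ S) : ∃ g ∈ N ⊓ St G S, g • x = y := by
  classical
  obtain ⟨e, he, rfl⟩ := exists_enum hF
  obtain ⟨g, hg, hge⟩ := h e (fun i => swap x y (e i)) he ((swap x y).injective.comp he)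
    (fun i => hFΔ ⟨i, rfl⟩) (fun i => by
      rw [swap_apply_def]
      split_ifs
      exacts [hy, hFΔ hx, hFΔ ⟨i, rfl⟩])
  refine ⟨g, ⟨hg, mem_St.2 fun s hs => ?_⟩, ?_⟩
  · obtain ⟨i, rfl⟩ := hS hs
    rw [hge, swap_apply_of_ne_of_ne (fun e' : e i = x => hxS (e' ▸ hs))
      (fun e' : e i = y => hyS (e' ▸ hs))]
  · obtain ⟨i, rfl⟩ := hx
    rw [hge, swap_apply_left]

end

theorem ord : OrdStmt.{u} := by
  intro G Ω _ _ _ _ N Δ hinv h F hFΔ hF
  have key : ∀ m : ℕ, ∀ S ⊆ F, 4 - S.ncard = m → Nat.card ↥(N ⊓ St G S) =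
      (Δ.ncard - S.ncard).descFactorial m * Nat.card ↥(N ⊓ St G F) := by
    intro m
    induction m with
    | zero =>
      intro S hS hm
      rw [Set.eq_of_subset_of_ncard_le hS (by omega) (Set.toFinite _)]
      simp
    | succ m ih =>
      intro S hS hm
      obtain ⟨x, hx, hxS⟩ := exists_not_mem_of_lt (S := S) (Δ := F) (by omega)
      have hc : (insert x S).ncard = S.ncard + 1 := Set.ncard_insert_of_notMem hxS (Set.toFinite _)
      have h1 := ih (insert x S) (Set.insert_subset hx hS) (by omega)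
      have h2 := card_eq_of_trans (M := N ⊓ St G S) (S := Δ \ S) (x := x)
        (fun g hg => ⟨hinv g hg.1 x (hFΔ hx), not_mem_smul_of_St hg.2 hxS⟩)
        (fun y hy => h.step hFΔ hF hS hx hxS hy.1 hy.2)
      have h3 := Set.ncard_le_ncard hFΔ (Set.toFinite _)
      rw [h2, inf_assoc, ← St_insert, h1, Set.ncard_sdiff (hS.trans hFΔ) (Set.toFinite _), hc,
        ← mul_assoc, ← Nat.sub_sub]
      obtain ⟨k, hk⟩ : ∃ k, Δ.ncard - S.ncard = k + 1 := ⟨Δ.ncard - S.ncard - 1, by omega⟩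
      rw [hk, Nat.succ_descFactorial_succ, Nat.add_sub_cancel]
  exact fun S hS => key _ S hS rfl

section

variable {G : Type u} [Group G] [Finite G] {H K : Subgroup G}

theorem Fr.nm (h : Fr H K) : H ≤ Nm K := fun g hg => mem_Nm_of_finite (h.nrm g hg)

omit [Finite G] in
theorem Fr.inj (h : Fr H K) {g : G} (hg : g ∈ H) (hgK : g ∉ K) {a b : G} (ha : a ∈ K)
    (hb : b ∈ K) (e : g * a * g⁻¹ * a⁻¹ = g * b * g⁻¹ * b⁻¹) : a = b := by
  have h1 : b⁻¹ * a = 1 := h.fpf g hg hgK _ (mul_mem (inv_mem hb) ha) (by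
    have h2 : g * (b⁻¹ * a) * g⁻¹ = (g * b * g⁻¹)⁻¹ * (g * a * g⁻¹ * a⁻¹) * a := by group
    rw [e] at h2
    exact mul_inv_eq_iff_eq_mul.1 (h2.trans (by group)))
  exact (inv_mul_eq_one.1 h1).symm

theorem Fr.surj (h : Fr H K) {g : G} (hg : g ∈ H) (hgK : g ∉ K) {B : Subgroup G} (hB : B ≤ K)
    (hgB : g ∈ Nm B) {b : G} (hb : b ∈ B) : ∃ a ∈ B, g * a * g⁻¹ * a⁻¹ = b := by
  let f : B → B := fun a => ⟨g * a * g⁻¹ * a⁻¹, mul_mem (conj_mem_of_Nm hgB a.2) (inv_mem a.2)⟩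
  have hf : Injective f := fun a b e =>
    Subtype.ext (h.inj hg hgK (hB a.2) (hB b.2) (congrArg Subtype.val e))
  obtain ⟨a, ha⟩ := Finite.injective_iff_surjective.1 hf ⟨b, hb⟩
  exact ⟨a, a.2, congrArg Subtype.val ha⟩

theorem card_mul_relIndex (h : K ≤ H) : Nat.card K * K.relIndex H = Nat.card H := by
  rw [← Nat.card_congr (subgroupOfEquivOfLe h).toEquiv]
  exact card_mul_index _

theorem Fr.coprime (h : Fr H K) : (Nat.card K).Coprime (K.relIndex H) := by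
  by_contra hc
  obtain ⟨p, hp, hpK, hpI⟩ := Nat.Prime.not_coprime_iff_dvd.1 hc
  have := Fact.mk hp
  obtain ⟨S⟩ : Nonempty (Sylow p H) := inferInstance
  have hnot : ¬ (S : Subgroup H) ≤ K.subgroupOf H := fun hle =>
    S.not_dvd_index (hpI.trans (index_dvd_of_le hle))
  obtain ⟨g, hgS, hgK⟩ := SetLike.not_le_iff_exists.1 hnot
  obtain ⟨x, hx⟩ := exists_prime_orderOf_dvd_card' (G := K) p hpK
  obtain ⟨U, hUK, hU, hUall⟩ : ∃ U ≤ K, IsPGroup p U ∧ ∀ g ∈ K, ∀ n : ℕ, g ^ p ^ n = 1 → g ∈ U := by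
    obtain ⟨T⟩ : Nonempty (Sylow p K) := inferInstance
    have := h.nil
    have hn : (T : Subgroup K).Normal := inferInstance
    refine ⟨(T : Subgroup K).map K.subtype, map_subtype_le _, T.isPGroup'.map _,
      fun g hg n h => ⟨⟨g, hg⟩, H90.mem_sylow_of_mem_normalizer T (k := n) (Subtype.ext h) ?_, rfl⟩⟩
    rw [normalizer_eq_top_iff.2 hn]
    exact mem_top _
  obtain ⟨n, hn⟩ := S.isPGroup' ⟨g, hgS⟩
  have hn' : (g : G) ^ p ^ n = 1 := congrArg (fun t : S => ((t : H) : G)) hn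
  have hx' : orderOf (x : G) = p := by rw [orderOf_coe, hx]
  obtain ⟨w, hw, ho, hcomm⟩ := exists_fix_prime (H90.isPGroup_zpowers hn') hU
    (fun e => by
      have := hUall x x.2 1 (by rw [pow_one, ← hx', pow_orderOf_eq_one])
      rw [e, mem_bot] at this
      rw [this, orderOf_one] at hx'
      exact hp.one_lt.ne hx')
    (zpowers_le.2 (mem_Nm_of_finite fun y hy => by
      obtain ⟨m, hm⟩ := hU ⟨y, hy⟩
      have hm' : y ^ p ^ m = 1 := congrArg Subtype.val hm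
      exact hUall _ (h.nrm _ g.2 y (hUK hy)) m (by rw [conj_pow, hm']; simp)))
  have := h.fpf g g.2 hgK w (hUK hw) (hcomm _ (mem_zpowers _))
  rw [this, orderOf_one] at ho
  exact hp.one_lt.ne ho

theorem Fr.orderOf_dvd (h : Fr H K) {g : G} (hg : g ∈ H) (hgK : g ∉ K) :
    orderOf g ∣ K.relIndex H := by
  have : (K.subgroupOf H).Normal := (normal_subgroupOf_iff_le_normalizer h.le).2 h.nm
  have h1 : (⟨g, hg⟩ : H) ^ K.relIndex H ∈ K.subgroupOf H := pow_index_mem _ _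
  exact orderOf_dvd_of_pow_eq_one (h.fpf g hg hgK _ h1 (Commute.self_pow g _))

theorem Fr.le_or (h : Fr H K) {M : Subgroup G} (hM : M ≤ H) (hN : H ≤ Nm M) : M ≤ K ∨ K ≤ M := by
  by_cases h1 : M ≤ K
  · exact Or.inl h1
  obtain ⟨g, hg, hgK⟩ := SetLike.not_le_iff_exists.1 h1
  refine Or.inr fun k hk => ?_
  obtain ⟨a, ha, rfl⟩ := h.surj (hM hg) hgK le_rfl (h.nm (hM hg)) hk
  rw [mul_assoc, mul_assoc, ← mul_assoc a]
  exact mul_mem hg (conj_mem_of_Nm (hN (h.le ha)) (inv_mem hg))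

theorem Fr.modEq (h : Fr H K) {U : Subgroup G} (hU : U ≤ H) (hUK : U ⊓ K = ⊥) {A : Subgroup G}
    (hA : A ≤ K) (hN : U ≤ Nm A) : Nat.card A ≡ 1 [MOD Nat.card U] := by
  let _ : MulAction G (ULift.{u} G) :=
    { smul := fun g x => ⟨g * x.down * g⁻¹⟩
      one_smul := fun x => ULift.ext _ _ (by change 1 * x.down * 1⁻¹ = _; simp)
      mul_smul := fun a b x => ULift.ext _ _ (by
        change a * b * x.down * (a * b)⁻¹ = a * (b * x.down * b⁻¹) * a⁻¹; group) }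
  have hd := card_dvd_of_semi (R := U) (S := {x : ULift.{u} G | x.down ∈ A ∧ x.down ≠ 1})
    (fun r hr x hx => ⟨conj_mem_of_Nm (hN hr) hx.1, fun e => hx.2 (by
      have : r * x.down * r⁻¹ = 1 := e
      simpa using this)⟩)
    (fun r hr x hx e => by
      by_contra hr1
      have hrK : r ∉ K := fun hK => hr1 (mem_bot.1 (hUK ▸ (⟨hr, hK⟩ : r ∈ U ⊓ K)))
      exact hx.2 (h.fpf r (hU hr) hrK _ (hA hx.1)
        (mul_inv_eq_iff_eq_mul.1 (congrArg ULift.down e))))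
  have hc : {x : ULift.{u} G | x.down ∈ A ∧ x.down ≠ 1}.ncard = Nat.card A - 1 := by
    have : {x : ULift.{u} G | x.down ∈ A ∧ x.down ≠ 1} = ULift.up '' ((A : Set G) \ {1}) := by
      ext ⟨x⟩; simp
    rw [this, Set.ncard_image_of_injective _ ULift.up_injective,
      Set.ncard_sdiff_singleton_of_mem A.one_mem]
    rfl
  rw [hc] at hd
  exact ((Nat.modEq_iff_dvd' Nat.card_pos).2 hd).symm

theorem Fr.exists_prime (h : Fr H K) {p : ℕ} (hp : p.Prime) (hd : p ∣ K.relIndex H) :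
    ∃ c ∈ H, c ∉ K ∧ orderOf c = p := by
  have := Fact.mk hp
  obtain ⟨c, hc⟩ := exists_prime_orderOf_dvd_card' (G := H) p (hd.trans (relIndex_dvd_card _ _))
  refine ⟨c, c.2, fun hK => hp.one_lt.ne' (Nat.eq_one_of_dvd_coprimes h.coprime ?_ hd),
    by rw [orderOf_coe, hc]⟩
  rw [← hc, ← orderOf_coe]
  exact orderOf_dvd_natCard _ hK

end

theorem fr : FrStmt.{u} := by
  intro G _ _ H K h
  refine ⟨h.coprime, fun g hg hgK => h.orderOf_dvd hg hgK, fun M hM hN => h.le_or hM hN,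
    fun g hg hgK A B hA hB _ hgB _ a ha e => ?_, fun U hU hUK A hA hN => h.modEq hU hUK hA hN,
    fun p hp hd => h.exists_prime hp hd⟩
  obtain ⟨b, hb, e'⟩ := h.surj hg hgK (hB.trans hA) hgB e
  rwa [← h.inj hg hgK (hA (hB hb)) (hA ha) e']

end Cfsg.Agent.H58.Q4
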