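import Cfsg.Agent.H58.Q4K
import Cfsg.Agent.H60.Homog

/-!
# The involutions in the semiregular situation
-/

set_option autoImplicit false
set_option linter.unusedSectionVars false

namespace Cfsg.Agent.H58.Q4

open Subgroup Equiv Function
open scoped Pointwise commutatorElement

universe u

variable {G Ω : Type u} [Group G] [MulAction G Ω]

theorem tr4_of_multi (h : MulAction.IsMultiplyPretransitive G Ω 4) :
    Tr4 (⊤ : Subgroup G) (Set.univ : Set Ω) := by
  intro a b ha hb _ _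
  obtain ⟨g, hg⟩ := h.exists_smul_eq ⟨a, ha⟩ ⟨b, hb⟩
  exact ⟨g, mem_top _, fun i => DFunLike.congr_fun hg i⟩

theorem multi_of_tr4 (h : Tr4 (⊤ : Subgroup G) (Set.univ : Set Ω)) :
    MulAction.IsMultiplyPretransitive G Ω 4 := by
  refine ⟨fun x y => ?_⟩
  obtain ⟨g, -, hg⟩ := h x y x.injective y.injective (fun _ => trivial) (fun _ => trivial)
  exact ⟨g, Function.Embedding.ext hg⟩

theorem not_mem_smul_of_St {F : Set Ω} {g : G} (hg : g ∈ St G F) {x : Ω} (hx : x ∉ F) :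
    g • x ∉ F := fun h => hx (smul_left_cancel g (mem_St.1 hg _ h) ▸ h)

theorem eq_of_mem_zpowers_sq {z r : G} (hz : z * z = 1) (hr : r ∈ zpowers z) (h1 : r ≠ 1) :
    r = z := by
  obtain ⟨i, rfl⟩ := hr
  have h2 : z ^ (2 : ℤ) = 1 := by rw [zpow_two, hz]
  rcases Int.even_or_odd' i with ⟨j, rfl | rfl⟩
  · exact absurd (by simp only [zpow_mul, h2, one_zpow]) h1
  · simp only [zpow_add, zpow_mul, h2, one_zpow, one_mul, zpow_one]

variable [Finite G] [Finite Ω] {K R : Set Ω → Subgroup G}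

theorem SR.two (h : SR K R) {F : Set Ω} (hF : F.ncard = 4) : IsPGroup 2 (R F) :=
  isPGroup_of_tw fun g hg => ((h.memP F hF g).1 hg).2

theorem SR.R_le (h : SR K R) {F : Set Ω} (hF : F.ncard = 4) : R F ≤ St G F :=
  fun g hg => ((h.memP F hF g).1 hg).1

theorem SR.nm (h : SR K R) {F : Set Ω} (hF : F.ncard = 4) {g : G} (hg : g • F = F) :
    g ∈ Nm (R F) :=
  mem_Nm_of_finite fun x hx => (h.memP F hF _).2
    ⟨by have := (conj_mem_St (g := g)).2 ((h.memP F hF x).1 hx).1; rwa [hg] at this,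
      ((h.memP F hF x).1 hx).2.conj g⟩

theorem SR.nmK (h : SR K R) {F : Set Ω} (hF : F.ncard = 4) {g : G} (hg : g • F = F) :
    g ∈ Nm (K F) :=
  mem_Nm_of_finite fun x hx => by have := h.conj F hF g x hx; rwa [hg] at this

theorem SR.eq_one (h : SR K R) {F : Set Ω} (hF : F.ncard = 4) {r : G} (hr : r ∈ R F) {x : Ω}
    (hx : x ∉ F) (hrx : r • x = x) : r = 1 := by
  by_contra h1
  exact hx (h.semi F hF r hr h1 ▸ (mem_F1.2 hrx))

theorem SR.F1_le (h : SR K R) {v : G} (hv : Tw v) (h1 : v ≠ 1) : (F1 Ω v).ncard ≤ 4 := by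
  by_contra hc
  obtain ⟨F, hF, hF4⟩ : ∃ F ⊆ F1 Ω v, F.ncard = 4 := Set.exists_subset_card_eq (by omega)
  have := h.semi F hF4 v ((h.memP F hF4 v).2 ⟨mem_St.2 fun x hx => hF hx, hv⟩) h1
  rw [this] at hc
  omega

theorem SR.tr4 (h : SR K R) : Tr4 (⊤ : Subgroup G) (Set.univ : Set Ω) := by
  refine tr4_of_multi (H60.gleason Nat.prime_two h.big fun s hs => ?_)
  have hF : (s : Set Ω).ncard = 4 := by rw [Set.ncard_coe_finset, hs]
  refine ⟨R s, h.two hF, Set.Subset.antisymm (fun x hx => ?_) fun x hx g => ?_⟩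
  · obtain ⟨r, hr⟩ := (ne_bot_iff_exists_ne_one).1 (h.P_ne _ hF)
    by_contra hxs
    exact hr (Subtype.ext (h.eq_one hF r.2 hxs (hx r)))
  · exact mem_St.1 (h.R_le hF g.2) x hx

/-- The data of an involution interchanging two points of `F`. -/
structure WD (F : Set Ω) (z : G) (a b x : Ω) (w : G) : Prop where
  sq : w * w = 1
  ne : w ≠ 1
  comm : Commute w z
  stab : w • F = F
  ab : w • a = b
  fix : F1 Ω w = (F \ {a, b}) ∪ {x, z • x}

omit [Finite G] [Finite Ω] in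
theorem WD.ba {F : Set Ω} {z : G} {a b x : Ω} {w : G} (h : WD F z a b x w) : w • b = a := by
  rw [← h.ab, ← mul_smul, h.sq, one_smul]

omit [Finite G] [Finite Ω] in
theorem WD.fx {F : Set Ω} {z : G} {a b x : Ω} {w : G} (h : WD F z a b x w) : w • x = x := by
  rw [← mem_F1, h.fix]; simp

omit [Finite G] [Finite Ω] in
theorem WD.fo {F : Set Ω} {z : G} {a b x : Ω} {w : G} (h : WD F z a b x w) {y : Ω}
    (hy : y ∈ F) (ha : y ≠ a) (hb : y ≠ b) : w • y = y := by
  rw [← mem_F1, h.fix]; simp [hy, ha, hb]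

theorem SR.exists_w (h : SR K R) {F : Set Ω} (hF : F.ncard = 4) {z : G} (hz : z ∈ R F)
    (hz1 : z ≠ 1) (hzz : z * z = 1) {a b : Ω} (ha : a ∈ F) (hb : b ∈ F) (hab : a ≠ b) {x : Ω}
    (hx : x ∉ F) {v : G} (hv : v * v = 1) (hvz : Commute v z) (hvF : v • F = F)
    (hva : v • a = a) (hvb : v • b = b) (hvx : v • x = x) :
    ∃ w, WD F z a b x w ∧ Commute v w := by
  have hzS := h.R_le hF hz
  have hzx : z • x ≠ x := fun e => hz1 (h.eq_one hF hz hx e)
  have hzx' : z • x ∉ F := not_mem_smul_of_St hzS hx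
  have hzzx : z • z • x = x := by rw [← mul_smul, hzz, one_smul]
  set F' : Set Ω := (F \ {a, b}) ∪ {x, z • x} with hF'
  have hsub : ({a, b} : Set Ω) ⊆ F := by rintro y (rfl | rfl); exacts [ha, hb]
  have hF4 : F'.ncard = 4 := by
    rw [hF', Set.ncard_union_eq _ (Set.toFinite _) (Set.toFinite _),
      Set.ncard_sdiff hsub (Set.toFinite _), hF, Set.ncard_pair hab, Set.ncard_pair hzx.symm]
    rw [Set.disjoint_right]
    rintro y (rfl | rfl) hy
    exacts [hx hy.1, hzx' hy.1]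
  have hzF' : z • F' = F' := smul_eq_of_mapsTo (by
    rintro y (hy | rfl | rfl)
    · rw [mem_St.1 hzS y hy.1]; exact Or.inl hy
    · exact Or.inr (Or.inr rfl)
    · rw [hzzx]; exact Or.inr (Or.inl rfl))
  have hvF' : v • F' = F' := smul_eq_of_mapsTo (by
    rintro y (hy | rfl | rfl)
    · refine Or.inl ⟨hvF ▸ Set.smul_mem_smul_set hy.1, ?_⟩
      rintro (e | e)
      · exact hy.2 (Or.inl (smul_left_cancel v (e.trans hva.symm)))
      · exact hy.2 (Or.inr (smul_left_cancel v (e.trans hvb.symm)))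
    · rw [hvx]; exact Or.inr (Or.inl rfl)
    · rw [← mul_smul, hvz.eq, mul_smul, hvx]; exact Or.inr (Or.inr rfl))
  have hA : IsPGroup 2 ↥(zpowers z ⊔ zpowers v) :=
    IsPGroup.to_sup_of_normal_left' (Tw.of_sq hzz).isPGroup (Tw.of_sq hv).isPGroup
      (zpowers_le.2 (Ce_le_Nm z (mem_Ce.2 hvz)))
  obtain ⟨w, hw, hw1, hww, hc⟩ := exists_fix_invol hA (h.two hF4) (h.P_ne _ hF4)
    (sup_le (zpowers_le.2 (h.nm hF4 hzF')) (zpowers_le.2 (h.nm hF4 hvF')))
  have hwz : Commute w z := (hc z (mem_sup_left (mem_zpowers z))).symm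
  have hfix : F1 Ω w = F' := h.semi _ hF4 w hw hw1
  have hmap : ∀ y ∈ F, w • y ∈ F := fun y hy => by
    have := h.semi F hF z hz hz1
    rw [← this] at hy ⊢
    exact smul_mem_F1 hwz hy
  refine ⟨w, ⟨hww, hw1, hwz, smul_eq_of_mapsTo hmap, ?_, hfix⟩,
    hc v (mem_sup_right (mem_zpowers v))⟩
  have haF' : a ∉ F' := by
    rintro (e | e | e)
    exacts [e.2 (Or.inl rfl), hx (e ▸ ha), hzx' (e ▸ ha)]
  by_contra hne
  have h1 : w • a ≠ a := fun e => haF' (hfix ▸ mem_F1.2 e)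
  have h2 : w • a ∈ F' := Or.inl ⟨hmap a ha, by rintro (e | e); exacts [h1 e, hne e]⟩
  rw [← hfix, mem_F1] at h2
  exact h1 (smul_left_cancel w h2)

theorem SR.cent (h : SR K R) {F : Set Ω} (hF : F.ncard = 4) {z : G} (hz : z ∈ R F)
    {a b x : Ω} (hx : x ∉ F) {w : G} (hw : WD F z a b x w) : R F ⊓ Ce w = zpowers z := by
  refine le_antisymm (fun r hr => ?_) (zpowers_le.2 ⟨hz, mem_Ce.2 hw.comm.symm⟩)
  have h1 : r • x ∈ F1 Ω w := smul_mem_F1 (mem_Ce.1 hr.2) (mem_F1.2 hw.fx)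
  rw [hw.fix] at h1
  rcases h1 with e | e | e
  · exact absurd e.1 (not_mem_smul_of_St (h.R_le hF hr.1) hx)
  · rw [h.eq_one hF hr.1 hx e]; exact one_mem _
  · have := h.eq_one hF (mul_mem (inv_mem hz) hr.1) hx (by
      rw [mul_smul, show r • x = z • x from e, inv_smul_smul])
    rw [inv_mul_eq_one] at this
    exact this ▸ mem_zpowers z

theorem SR.odd_fix (h : SR K R) {F : Set Ω} (hF : F.ncard = 4) {z : G} (hz : z ∈ R F)
    (hz1 : z ≠ 1) (hzz : z * z = 1) {v : G} (hv : v * v = 1) (hv1 : v ≠ 1) (hvz : Commute v z)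
    {x : Ω} (hx : x ∉ F) (hvx : v • x = x) :
    oddPart (K F) (h.nil F hF) ⊓ Ce v ≤ MulAction.stabilizer G x := by
  intro o ho
  have hoz : Commute o z :=
    (commute_of_nil (h.nil F hF) (h.P_le F hF hz) ho.1.1 ((Tw.of_sq hzz).coprime ho.1.2)).symm
  refine odd_fix_of_le_four ho.1.2 hoz (S := F1 Ω v \ F)
    ((Set.ncard_le_ncard Set.sdiff_subset (Set.toFinite _)).trans (h.F1_le (Tw.of_sq hv) hv1))
    (fun y hy => ⟨smul_mem_F1 (mem_Ce.1 ho.2) hy.1, not_mem_smul_of_St (h.le F hF ho.1.1) hy.2⟩)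
    (fun y hy => ⟨smul_mem_F1 hvz.symm hy.1, not_mem_smul_of_St (h.R_le hF hz) hy.2⟩)
    (fun y hy e => hz1 (h.eq_one hF hz hy.2 e))
    (fun y _ => by rw [← mul_smul, hzz, one_smul]) ⟨hvx, hx⟩

theorem SR.K_eq (h : SR K R) {F : Set Ω} (hF : F.ncard = 4) : K F = R F := by
  obtain ⟨z, hz, hz1, hzz, -⟩ := exists_fix_invol (A := ⊥) IsPGroup.of_bot (h.two hF)
    (h.P_ne F hF) bot_le
  obtain ⟨a, b, c, d, hab, hac, had, hbc, hbd, hcd, hFe⟩ := Set.ncard_eq_four.1 hF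
  have ha : a ∈ F := by simp [hFe]
  have hb : b ∈ F := by simp [hFe]
  have hc : c ∈ F := by simp [hFe]
  have hd : d ∈ F := by simp [hFe]
  have key : ∀ o ∈ oddPart (K F) (h.nil F hF), o = 1 := by
    intro o ho
    refine h.faith o fun x => ?_
    by_cases hx : x ∈ F
    · exact mem_St.1 (h.le F hF ho.1) x hx
    obtain ⟨w, hw, -⟩ := h.exists_w hF hz hz1 hzz ha hb hab hx (v := 1) (one_mul 1)
      (Commute.one_left z) (one_smul _ _) (one_smul _ _) (one_smul _ _) (one_smul _ _)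
    have hwc := hw.fo hc hac.symm hbc.symm
    obtain ⟨w', hw', hcomm⟩ := h.exists_w hF hz hz1 hzz hc hd hcd hx hw.sq hw.comm hw.stab hwc
      (hw.fo hd had.symm hbd.symm) hw.fx
    have hne : w ≠ w' := fun e => hcd (by rw [← hw'.ab, ← e, hwc])
    have hsq : w * w' * (w * w') = 1 := by
      rw [mul_assoc, ← mul_assoc w', ← hcomm.eq, mul_assoc, hw'.sq, mul_one, hw.sq]
    have hne1 : w * w' ≠ 1 := fun e => hne (by
      rw [← mul_one w, ← hw'.sq, ← mul_assoc, e, one_mul])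
    exact le_of_four (O := oddPart (K F) (h.nil F hF)) (odd_card_of_forall fun _ hk => hk.2) hw.sq hw'.sq hw.ne hw'.ne hne hcomm
      (Nm_le_Nm_oddPart _ (h.nmK hF hw.stab)) (Nm_le_Nm_oddPart _ (h.nmK hF hw'.stab))
      (h.odd_fix hF hz hz1 hzz hw.sq hw.ne hw.comm hx hw.fx)
      (h.odd_fix hF hz hz1 hzz hw'.sq hw'.ne hw'.comm hx hw'.fx)
      (h.odd_fix hF hz hz1 hzz hsq hne1 (hw.comm.mul_left hw'.comm) hx
        (by rw [mul_smul, hw'.fx, hw.fx])) ho
  refine le_antisymm (fun k hk => ?_) (h.P_le F hF)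
  obtain ⟨i, j, h1, h2, h3⟩ := exists_two_odd k
  rw [key _ ⟨pow_mem hk j, h3⟩, mul_one] at h1
  exact (h.memP F hF k).2 ⟨h.le F hF hk, h1 ▸ h2⟩

theorem w4 : W4Stmt.{u} := by
  classical
  intro G Ω _ _ _ _ K R h
  refine ⟨h.tr4, fun F hF => ⟨h.two hF, h.K_eq hF, ?_, fun g hg => h.nm hF hg, ?_⟩⟩
  · have := card_dvd_of_semi (R := R F) (S := Fᶜ)
      (fun r hr x hx => not_mem_smul_of_St (h.R_le hF hr) hx)
      (fun r hr x hx e => h.eq_one hF hr hx e)
    rwa [Set.ncard_compl, hF] at this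
  intro z hz ho
  have hz1 : z ≠ 1 := fun e => by simp [e] at ho
  have hzz : z * z = 1 := by rw [← pow_two, ← ho, pow_orderOf_eq_one]
  have ex : ∀ a ∈ F, ∀ b ∈ F, a ≠ b → ∀ x ∉ F, ∃ w, WD F z a b x w := fun a ha b hb hab x hx =>
    (h.exists_w hF hz hz1 hzz ha hb hab hx (v := 1) (one_mul 1)
      (Commute.one_left z) (one_smul _ _) (one_smul _ _) (one_smul _ _) (one_smul _ _)).imp
      fun _ hw => hw.1
  have hcen : ∀ r ∈ R F, Commute z r := by
    obtain ⟨a, ha, b, hb, hab⟩ := (Set.one_lt_ncard (Set.toFinite F)).1 (by omega)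
    obtain ⟨x, hx⟩ : ∃ x, x ∉ F := by
      by_contra hc
      push Not at hc
      have := h.big
      rw [← Set.ncard_univ, ← Set.eq_univ_iff_forall.2 hc] at this
      omega
    obtain ⟨w, hw⟩ := ex a ha b hb hab x hx
    have hA : IsPGroup 2 ↥(R F ⊔ zpowers w) :=
      IsPGroup.to_sup_of_normal_left' (h.two hF) (Tw.of_sq hw.sq).isPGroup
        (zpowers_le.2 (h.nm hF hw.stab))
    obtain ⟨v, hv, hv1, -, hc⟩ := exists_fix_invol hA (h.two hF) (h.P_ne _ hF)
      (sup_le le_normalizer (zpowers_le.2 (h.nm hF hw.stab)))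
    have : v ∈ zpowers z := h.cent hF hz hx hw ▸
      (⟨hv, mem_Ce.2 (hc w (mem_sup_right (mem_zpowers w))).symm⟩ : v ∈ R F ⊓ Ce w)
    rw [eq_of_mem_zpowers_sq hzz this hv1] at hc
    exact fun r hr => (hc r (mem_sup_left hr)).symm
  have hCe : Ce z ⊓ St G F = R F := by
    refine le_antisymm (fun g hg => ?_) fun r hr => ⟨mem_Ce.2 (hcen r hr).symm, h.R_le hF hr⟩
    rw [← h.K_eq hF]
    by_contra hK
    exact hz1 (h.fpf F hF g hg.2 hK z hz (mem_Ce.1 hg.1))
  refine ⟨hcen, hCe, fun a ha b hb hab x hx => ?_⟩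
  obtain ⟨w, hw⟩ := ex a ha b hb hab x hx
  refine ⟨w, hw.sq, hw.comm, hw.stab, hw.ab, hw.fix, h.cent hF hz hx hw, ?_⟩
  choose! f hf using ex a ha b hb hab
  set S : Set G := {r : G | r ∈ R F ∧ w * r * w⁻¹ = r⁻¹} with hS
  have hcount := Finset.card_le_mul_card_image_of_maps_to (s := (Set.toFinite Fᶜ).toFinset)
    (t := (Set.toFinite S).toFinset) (f := fun y => f y * w) (fun y hy => by
      rw [Set.Finite.mem_toFinset] at hy ⊢
      have hy' := hf y hy
      refine ⟨hCe ▸ ⟨mem_Ce.2 (hy'.comm.mul_left hw.comm), mem_St.2 fun t ht => ?_⟩, ?_⟩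
      · rw [mul_smul]
        by_cases h1 : t = a
        · rw [h1, hw.ab, hy'.ba]
        by_cases h2 : t = b
        · rw [h2, hw.ba, hy'.ab]
        rw [hw.fo ht h1 h2, hy'.fo ht h1 h2]
      · rw [mul_inv_rev, inv_eq_of_mul_eq_one_right hw.sq, inv_eq_of_mul_eq_one_right hy'.sq,
          mul_assoc, mul_assoc, hw.sq, mul_one]) 2 (fun r _ => by
      by_cases hne : (Finset.filter (fun y => f y * w = r) (Set.toFinite Fᶜ).toFinset).Nonempty
      · obtain ⟨y, hy⟩ := hne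
        refine le_trans (Finset.card_le_card (t := {y, z • y}) fun t ht => ?_) Finset.card_le_two
        rw [Finset.mem_filter, Set.Finite.mem_toFinset] at hy ht
        have e : f t = f y := mul_right_cancel (ht.2.trans hy.2.symm)
        have h1 : t ∈ F1 Ω (f y) := e ▸ mem_F1.2 (hf t ht.1).fx
        rw [(hf y hy.1).fix] at h1
        rcases h1 with e | e
        · exact absurd e.1 ht.1
        · simpa using e
      · rw [Finset.not_nonempty_iff_eq_empty.1 hne]; simp)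
  rw [← Set.ncard_eq_toFinset_card, ← Set.ncard_eq_toFinset_card, Set.ncard_compl, hF] at hcount
  omega

end Cfsg.Agent.H58.Q4
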